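import Cfsg.Agent.Lib.QuadEquiv.Kill

/-!
An element acting cubically on a semisimple module fixes every bilinear form that is invariant under a normal
subgroup with `p`-group quotient (`p ≥ 5`).
-/

set_option autoImplicit false
set_option linter.unusedSectionVars false

namespace CfsgLib.QuadEquiv

open CfsgLib.QP CfsgLib.QuadFixed

universe u v

variable {p : ℕ} [Fact p.Prime] {M : Type u} [AddCommGroup M] [Module (ZMod p) M] [FiniteDimensional (ZMod p) M]

local notation "GL'" => LinearMap.GeneralLinearGroup (ZMod p) M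
local notation "E'" => Module.End (ZMod p) M

variable {K : Subgroup (LinearMap.GeneralLinearGroup (ZMod p) M)}

theorem inv_sup_of {X : Submodule (ZMod p) M} {a : GL'} (hK : QP.Inv K X) (ha : ∀ v ∈ X, (a : E') v ∈ X) :
    QP.Inv (K ⊔ Subgroup.zpowers a) X := by
  let St : Subgroup GL' :=
    { carrier := {g | ∀ v ∈ X, (g : E') v ∈ X}
      one_mem' := fun v hv => hv
      mul_mem' := fun {g h} hg hh v hv => hg _ (hh v hv)
      inv_mem' := fun {g} hg => by
        have hpow : ∀ n : ℕ, ∀ v ∈ X, ((g ^ n : GL') : E') v ∈ X := fun n => by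
          induction n with
          | zero => exact fun v hv => hv
          | succ n ih => exact fun v hv => by rw [pow_succ]; exact ih _ (hg v hv)
        have e : g ^ (orderOf g - 1) = g⁻¹ := eq_inv_of_mul_eq_one_left (by
          rw [← pow_succ, Nat.sub_add_cancel (orderOf_pos g), pow_orderOf_eq_one])
        exact e ▸ hpow (orderOf g - 1) }
  intro g hg
  exact (sup_le (show K ≤ St from hK) (Subgroup.zpowers_le.mpr (show a ∈ St from ha))) hg

/-- A cubic element has order dividing `p`. -/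
theorem pow_eq_one_of_cubic (hp : 5 ≤ p) {a : GL'}
    (ha : ((a : E') - 1) * ((a : E') - 1) * ((a : E') - 1) = 0) : a ^ p = 1 := by
  refine Units.ext ?_
  rw [Units.val_pow_eq_pow_val, Units.val_one]
  rcases subsingleton_or_nontrivial M with hM | hM
  · exact LinearMap.ext fun _ => Subsingleton.elim _ _
  haveI : CharP E' p := charP_of_injective_algebraMap (algebraMap (ZMod p) E').injective p
  set u := (a : E') - 1 with hu
  have h0 : u ^ p = 0 := by
    obtain ⟨j, hj⟩ : ∃ j, p = 3 + j := ⟨p - 3, by omega⟩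
    calc u ^ p = u ^ (3 + j) := congrArg (fun n => u ^ n) hj
      _ = 0 := by rw [pow_add, pow_succ, pow_two, ha, zero_mul]
  rw [show (a : E') = 1 + u by rw [hu]; abel, add_pow_char_of_commute p (Commute.one_left u), one_pow, h0, add_zero]

/-! ### Counting simple submodules -/

/-- The simple submodules inside `X`. -/
def simples (K : Subgroup GL') (X : Submodule (ZMod p) M) : Set (Submodule (ZMod p) M) :=
  {S | MinInv K S ∧ S ≤ X}

theorem simples_eq_or_dvd {A S : Submodule (ZMod p) M} (hA : QP.Inv K A) (hS : MinInv K S) (hSA : ¬ S ≤ A) :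
    {S' | S' ∈ simples K (S ⊔ A) ∧ ¬ S' ≤ A} = {S} ∨
      p ∣ {S' | S' ∈ simples K (S ⊔ A) ∧ ¬ S' ≤ A}.ncard := by
  classical
  haveI : Finite M := Module.finite_of_finite (ZMod p)
  set X := S ⊔ A with hX
  set Y : Set (Submodule (ZMod p) M) := {S' | S' ∈ simples K X ∧ ¬ S' ≤ A} with hY
  have hSY : S ∈ Y := ⟨⟨hS, le_sup_left⟩, hSA⟩
  have hinf : ∀ S' ∈ Y, S' ⊓ A = ⊥ := fun S' hS' => by
    by_contra h0
    exact hS'.2 ((hS'.1.1.2.2 _ inf_le_left (fun g hg v hv => ⟨hS'.1.1.2.1 g hg v hv.1, hA g hg v hv.2⟩) h0) ▸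
      inf_le_right)
  by_cases hone : ∀ S' ∈ Y, S' = S
  · exact Or.inl (Set.eq_singleton_iff_unique_mem.mpr ⟨hSY, hone⟩)
  refine Or.inr ?_
  push Not at hone
  obtain ⟨S1, hS1, hne⟩ := hone
  have hsplit : ∀ S' ∈ Y, ∀ v ∈ X, ∃ s ∈ S', ∃ x ∈ A, v = x + s := by
    intro S' hS' v hv
    have hle : X ≤ S' ⊔ A := by
      refine sup_le ?_ le_sup_right
      have hinv : QP.Inv K ((S' ⊔ A) ⊓ S) := fun g hg w hw => by
        refine ⟨?_, hS.2.1 g hg w hw.2⟩
        obtain ⟨s, hs, x, hx, e⟩ := Submodule.mem_sup.mp hw.1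
        rw [← e, map_add]
        exact Submodule.add_mem_sup (hS'.1.1.2.1 g hg s hs) (hA g hg x hx)
      by_cases h0 : (S' ⊔ A) ⊓ S = ⊥
      · exfalso
        refine hS'.2 fun w hw => ?_
        obtain ⟨s, hs, x, hx, e⟩ := Submodule.mem_sup.mp (hS'.1.2 hw)
        have : s ∈ (S' ⊔ A) ⊓ S := by
          refine ⟨?_, hs⟩
          rw [eq_sub_of_add_eq e]
          exact Submodule.sub_mem _ (Submodule.mem_sup_left hw) (Submodule.mem_sup_right hx)
        rw [h0, Submodule.mem_bot] at this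
        rw [← e, this, zero_add]; exact hx
      · exact (hS.2.2 _ inf_le_right hinv h0).ge.trans inf_le_left
    obtain ⟨s, hs, x, hx, e⟩ := Submodule.mem_sup.mp (hle hv)
    exact ⟨s, hs, x, hx, by rw [← e, add_comm]⟩
  -- a projection onto `A`
  have proj : ∀ S' ∈ Y, ∃ π : E', (∀ v, π v ∈ A) ∧ (∀ x ∈ A, π x = x) ∧ ∀ s ∈ S', π s = 0 := by
    intro S' hS'
    obtain ⟨Z, hZ⟩ := Submodule.exists_isCompl (A ⊔ S')
    have hdis : Disjoint A (S' ⊔ Z) :=
      (disjoint_iff.mpr (by rw [inf_comm]; exact hinf S' hS')).disjoint_sup_right_of_disjoint_sup_left hZ.disjoint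
    have hc : IsCompl A (S' ⊔ Z) := ⟨hdis, codisjoint_iff.mpr (by rw [← sup_assoc, hZ.sup_eq_top])⟩
    exact ⟨A.projection (S' ⊔ Z) hc, fun v => Submodule.projection_apply_mem hc v,
      fun x hx => Submodule.projection_apply_of_mem_left hc hx,
      fun s hs => (Submodule.projection_apply_eq_zero_iff hc).mpr (Submodule.mem_sup_left hs)⟩
  obtain ⟨π, hπA, hπid, hπS⟩ := proj S hSY
  obtain ⟨π1, hπ1A, hπ1id, hπ1S⟩ := proj S1 hS1
  have hequiv : ∀ {π : E'} {S' : Submodule (ZMod p) M}, S' ∈ Y → (∀ x ∈ A, π x = x) → (∀ s ∈ S', π s = 0) →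
      ∀ g ∈ K, ∀ v ∈ X, π ((g : E') v) = (g : E') (π v) := by
    intro π S' hS' h1 h2 g hg v hv
    obtain ⟨s, hs, x, hx, rfl⟩ := hsplit S' hS' v hv
    rw [map_add, map_add, map_add, h1 _ (hA g hg x hx), h2 _ (hS'.1.1.2.1 g hg s hs), h1 x hx, h2 s hs, map_add,
      map_zero]
  set ψ := π - π1 with hψ
  have ψA : ∀ v, ψ v ∈ A := fun v => Submodule.sub_mem _ (hπA v) (hπ1A v)
  have ψ0 : ∀ x ∈ A, ψ x = 0 := fun x hx => by rw [hψ, LinearMap.sub_apply, hπid x hx, hπ1id x hx, sub_self]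
  have ψK : ∀ g ∈ K, ∀ v ∈ X, ψ ((g : E') v) = (g : E') (ψ v) := fun g hg v hv => by
    rw [hψ, LinearMap.sub_apply, LinearMap.sub_apply, map_sub, hequiv hSY hπid hπS g hg v hv,
      hequiv hS1 hπ1id hπ1S g hg v hv]
  have ψne : ∀ S' ∈ Y, ∀ v ∈ S', ψ v = 0 → v = 0 := by
    intro S' hS' v hv hv0
    by_contra hne0
    have hker : S' ⊓ LinearMap.ker ψ = S' := hS'.1.1.2.2 _ inf_le_left (fun g hg w hw => ⟨hS'.1.1.2.1 g hg w hw.1, by
        show ψ ((g : E') w) = 0
        rw [ψK g hg w (hS'.1.2 hw.1), show ψ w = 0 from hw.2, map_zero]⟩)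
      fun e => hne0 ((Submodule.mem_bot (ZMod p)).mp (e ▸ ⟨hv, hv0⟩))
    have hall : ∀ w ∈ X, ψ w = 0 := fun w hw => by
      obtain ⟨s, hs, x, hx, rfl⟩ := hsplit S' hS' w hw
      rw [map_add, ψ0 x hx, show ψ s = 0 from (hker.ge hs).2, add_zero]
    refine hne (le_antisymm (fun w hw => ?_) fun w hw => ?_)
    · obtain ⟨s, hs, x, hx, e⟩ := hsplit S hSY w (hS1.1.2 hw)
      have h1 := hall w (hS1.1.2 hw)
      rw [hψ, LinearMap.sub_apply, hπ1S w hw, sub_zero, e, map_add, hπid x hx, hπS s hs, add_zero] at h1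
      rw [e, h1, zero_add]; exact hs
    · obtain ⟨s, hs, x, hx, e⟩ := hsplit S1 hS1 w (le_sup_left (b := A) hw)
      have h1 := hall w (le_sup_left (b := A) hw)
      rw [hψ, LinearMap.sub_apply, hπS w hw, zero_sub, neg_eq_zero, e, map_add, hπ1id x hx, hπ1S s hs, add_zero] at h1
      rw [e, h1, zero_add]; exact hs
  let τ : ZMod p → E' := fun c => 1 + c • ψ
  have τcomp : ∀ c d : ZMod p, ∀ v, τ c (τ d v) = τ (c + d) v := fun c d v => by
    simp only [τ, LinearMap.add_apply, Module.End.one_apply, LinearMap.smul_apply, map_add, map_smul,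
      ψ0 _ (ψA v), smul_zero, add_zero, add_smul]
    abel
  have τinj : ∀ c : ZMod p, ∀ v, τ c v = 0 → v = 0 := fun c v h => by
    have h2 := τcomp (-c) c v
    rw [h, map_zero, neg_add_cancel] at h2
    simpa [τ] using h2.symm
  have τX : ∀ c : ZMod p, ∀ v ∈ X, τ c v ∈ X := fun c v hv =>
    Submodule.add_mem _ hv (Submodule.smul_mem _ c (Submodule.mem_sup_right (ψA v)))
  have τK : ∀ c : ZMod p, ∀ g ∈ K, ∀ v ∈ X, τ c ((g : E') v) = (g : E') (τ c v) := fun c g hg v hv => by
    simp only [τ, LinearMap.add_apply, Module.End.one_apply, LinearMap.smul_apply, map_add, map_smul, ψK g hg v hv]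
  have τY : ∀ c : ZMod p, ∀ S' ∈ Y, S'.map (τ c) ∈ Y := by
    intro c S' hS'
    refine ⟨⟨⟨fun e => hS'.1.1.1 ((Submodule.eq_bot_iff _).mpr fun v hv => τinj c v
      ((Submodule.mem_bot _).mp (e ▸ Submodule.mem_map_of_mem hv))), ?_, fun W hW hWi hW0 => ?_⟩, ?_⟩, fun hle => ?_⟩
    · rintro g hg _ ⟨v, hv, rfl⟩
      exact ⟨_, hS'.1.1.2.1 g hg v hv, τK c g hg v (hS'.1.2 hv)⟩
    · have he : S' ⊓ W.comap (τ c) = S' := hS'.1.1.2.2 _ inf_le_left (fun g hg v hv => ⟨hS'.1.1.2.1 g hg v hv.1, by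
          show τ c ((g : E') v) ∈ W
          rw [τK c g hg v (hS'.1.2 hv.1)]; exact hWi g hg _ hv.2⟩) fun e => hW0 ((Submodule.eq_bot_iff W).mpr fun w hw => by
        obtain ⟨v, hv, rfl⟩ := hW hw
        rw [show v = 0 from (Submodule.mem_bot _).mp (e.le (show v ∈ S' ⊓ W.comap (τ c) from ⟨hv, hw⟩)), map_zero])
      refine le_antisymm hW ?_
      rintro _ ⟨v, hv, rfl⟩
      exact (he.ge hv).2
    · rintro _ ⟨v, hv, rfl⟩; exact τX c v (hS'.1.2 hv)
    · refine hS'.2 fun v hv => ?_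
      have h1 := hle (Submodule.mem_map_of_mem hv)
      have h2 := Submodule.sub_mem _ h1 (A.smul_mem c (ψA v))
      simpa [τ] using h2
  letI : MulAction (Multiplicative (ZMod p)) Y :=
    { smul := fun c S' => ⟨S'.1.map (τ c.toAdd), τY _ _ S'.2⟩
      one_smul := fun S' => Subtype.ext (by
        show S'.1.map (τ 0) = S'.1
        rw [show τ 0 = LinearMap.id from LinearMap.ext fun v => by simp [τ], Submodule.map_id])
      mul_smul := fun c d S' => Subtype.ext (by
        show S'.1.map (τ (c.toAdd + d.toAdd)) = (S'.1.map (τ d.toAdd)).map (τ c.toAdd)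
        rw [← Submodule.map_comp]
        congr 1
        exact (LinearMap.ext fun v => τcomp _ _ v).symm) }
  have hG : IsPGroup p (Multiplicative (ZMod p)) := IsPGroup.of_card (n := 1) (by
    rw [pow_one]; exact (Nat.card_congr Multiplicative.toAdd).trans (Nat.card_zmod p))
  have hmod := hG.card_modEq_card_fixedPoints Y
  haveI : IsEmpty (MulAction.fixedPoints (Multiplicative (ZMod p)) Y) := ⟨fun ⟨⟨S', hS'⟩, hfix⟩ => by
    obtain ⟨v, hv, hv0⟩ := (Submodule.ne_bot_iff S').mp hS'.1.1.1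
    have h1 : τ 1 v ∈ S' := by
      have e : S'.map (τ 1) = S' := congrArg Subtype.val (hfix (Multiplicative.ofAdd (1 : ZMod p)))
      exact e.le (Submodule.mem_map_of_mem hv)
    have h2 : ψ v ∈ S' := by simpa [τ] using Submodule.sub_mem _ h1 hv
    exact hv0 (ψne S' hS' v hv ((Submodule.mem_bot (ZMod p)).mp ((hinf S' hS').le ⟨h2, ψA v⟩)))⟩
  rw [Nat.card_of_isEmpty (α := MulAction.fixedPoints (Multiplicative (ZMod p)) Y), Nat.modEq_zero_iff_dvd] at hmod
  exact hmod

theorem simples_count : ∀ (L : List (Submodule (ZMod p) M)), (∀ S ∈ L, MinInv K S) →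
    ∃ c, (simples K (L.foldr (· ⊔ ·) ⊥)).ncard ≡ c [MOD p] ∧ c ≤ L.length ∧
      (L.foldr (· ⊔ ·) ⊥ = ⊥ ∨ 1 ≤ c) := by
  intro L
  haveI : Finite M := Module.finite_of_finite (ZMod p)
  induction L with
  | nil =>
    intro _
    refine ⟨0, ?_, le_rfl, Or.inl rfl⟩
    rw [show simples K (([] : List (Submodule (ZMod p) M)).foldr (· ⊔ ·) ⊥) = ∅ from
      Set.eq_empty_of_forall_notMem fun S hS => hS.1.1 (le_bot_iff.mp hS.2), Set.ncard_empty]
  | cons S L ih =>
    intro hL
    obtain ⟨c, hc, hle, h1⟩ := ih fun T hT => hL T (List.mem_cons_of_mem _ hT)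
    rw [List.foldr_cons, List.length_cons]
    set A := L.foldr (· ⊔ ·) ⊥ with hA
    by_cases hSA : S ≤ A
    · rw [sup_eq_right.mpr hSA]; exact ⟨c, hc, by omega, h1⟩
    have hAi : QP.Inv K A := by
      have key : ∀ L : List (Submodule (ZMod p) M), (∀ T ∈ L, MinInv K T) → QP.Inv K (L.foldr (· ⊔ ·) ⊥) := by
        intro L
        induction L with
        | nil => exact fun _ g _ v hv => by rw [show v = 0 from (Submodule.mem_bot _).mp hv, map_zero]; exact zero_mem _
        | cons T L ihL =>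
          intro hT g hg v hv
          obtain ⟨s, hs, x, hx, e⟩ := Submodule.mem_sup.mp hv
          rw [← e, map_add]
          exact Submodule.add_mem_sup ((hT T List.mem_cons_self).2.1 g hg s hs)
            (ihL (fun T' hT' => hT T' (List.mem_cons_of_mem _ hT')) g hg x hx)
      exact key L fun T hT => hL T (List.mem_cons_of_mem _ hT)
    have hunion : simples K (S ⊔ A) = simples K A ∪ {S' | S' ∈ simples K (S ⊔ A) ∧ ¬ S' ≤ A} := by
      ext S'
      constructor
      · intro h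
        by_cases hle' : S' ≤ A
        · exact Or.inl ⟨h.1, hle'⟩
        · exact Or.inr ⟨h, hle'⟩
      · rintro (h | h)
        · exact ⟨h.1, h.2.trans le_sup_right⟩
        · exact h.1
    rw [hunion, Set.ncard_union_eq (Set.disjoint_left.mpr fun S' h h' => h'.2 h.2)]
    rcases simples_eq_or_dvd hAi (hL S List.mem_cons_self) hSA with e | e
    · rw [e, Set.ncard_singleton]
      exact ⟨c + 1, hc.add_right 1, by omega, Or.inr (by omega)⟩
    · refine ⟨c, ?_, by omega, Or.inr ?_⟩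
      · simpa using hc.add (Nat.modEq_zero_iff_dvd.mpr e)
      · rcases h1 with h1 | h1
        · exfalso
          rw [h1] at e
          have : {S' | S' ∈ simples K (S ⊔ ⊥) ∧ ¬ S' ≤ (⊥ : Submodule (ZMod p) M)} = {S} :=
            Set.eq_singleton_iff_unique_mem.mpr ⟨⟨⟨hL S List.mem_cons_self, le_sup_left⟩, h1 ▸ hSA⟩,
              fun T hT => (hL S List.mem_cons_self).2.2 T (hT.1.2.trans (by rw [sup_bot_eq])) hT.1.1.2.1 hT.1.1.1⟩
          rw [this, Set.ncard_singleton, Nat.dvd_one] at e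
          exact (Fact.out : p.Prime).ne_one e
        · exact h1

/-- A cubic element normalising `K` and leaving only trivial subspaces invariant with `K`: `K` is irreducible. -/
theorem irreducible_of_cubic (hp : 5 ≤ p) {a : GL'} (haK : a ∈ Subgroup.normalizer (K : Set GL'))
    (ha : ((a : E') - 1) * ((a : E') - 1) * ((a : E') - 1) = 0)
    (hirr : ∀ X : Submodule (ZMod p) M, QP.Inv K X → (∀ v ∈ X, (a : E') v ∈ X) → X = ⊥ ∨ X = ⊤)
    {W : Submodule (ZMod p) M} (hW : QP.Inv K W) (hW0 : W ≠ ⊥) : W = ⊤ := by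
  haveI : Finite M := Module.finite_of_finite (ZMod p)
  obtain ⟨S, hSW, hS⟩ := exists_minInv hW hW0
  set Z := Subgroup.zpowers a with hZ
  have hN : ∀ g ∈ Z, Cfsg.conjBy K g = K := fun g hg =>
    CfsgLib.Local.map_conj_eq_of_mem_normalizer ((Subgroup.zpowers_le.mpr haK) hg)
  have hmap : ∀ g ∈ Z, ∀ T, MinInv K T → MinInv K (T.map (g : E')) := fun g hg T hT => minInv_map hN hT hg
  set S1 := S.map ((a : GL') : E') with hS1
  set S2 := S1.map ((a : GL') : E') with hS2
  have hS1m : MinInv K S1 := hmap a (Subgroup.mem_zpowers a) S hS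
  have hS2m : MinInv K S2 := hmap a (Subgroup.mem_zpowers a) S1 hS1m
  have hL : ∀ T ∈ [S, S1, S2], MinInv K T := fun T hT => by
    simp only [List.mem_cons, List.not_mem_nil, or_false] at hT
    rcases hT with rfl | rfl | rfl <;> assumption
  set X := [S, S1, S2].foldr (· ⊔ ·) ⊥ with hX
  have hX' : X = S ⊔ (S1 ⊔ S2) := by simp [hX]
  have hXa : ∀ v ∈ X, (a : E') v ∈ X := by
    have hle : X.map (a : E') ≤ X := by
      rw [hX', Submodule.map_sup, Submodule.map_sup, ← hS1, ← hS2]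
      refine sup_le (le_sup_left.trans le_sup_right) (sup_le (le_sup_right.trans le_sup_right) ?_)
      rintro _ ⟨_, ⟨_, ⟨v, hv, rfl⟩, rfl⟩, rfl⟩
      have h := LinearMap.congr_fun ha v
      simp only [Module.End.mul_apply, LinearMap.sub_apply, Module.End.one_apply, map_sub, LinearMap.zero_apply] at h
      have e : (a : E') ((a : E') ((a : E') v)) = (3 : ZMod p) • (a : E') ((a : E') v) - (3 : ZMod p) • (a : E') v + v := by
        linear_combination (norm := module) h
      rw [e]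
      refine Submodule.add_mem _ (Submodule.sub_mem _ (Submodule.smul_mem _ _ ?_) (Submodule.smul_mem _ _ ?_))
        (Submodule.mem_sup_left hv)
      · exact Submodule.mem_sup_right (Submodule.mem_sup_right ⟨_, ⟨v, hv, rfl⟩, rfl⟩)
      · exact Submodule.mem_sup_right (Submodule.mem_sup_left ⟨v, hv, rfl⟩)
    exact fun v hv => hle (Submodule.mem_map_of_mem hv)
  have hXK : QP.Inv K X := by
    intro g hg v hv
    rw [hX'] at hv ⊢
    obtain ⟨s, hs, w, hw, rfl⟩ := Submodule.mem_sup.mp hv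
    obtain ⟨s1, hs1, s2, hs2, rfl⟩ := Submodule.mem_sup.mp hw
    rw [map_add, map_add]
    exact Submodule.add_mem_sup (hS.2.1 g hg s hs)
      (Submodule.add_mem_sup (hS1m.2.1 g hg s1 hs1) (hS2m.2.1 g hg s2 hs2))
  have hXtop : X = ⊤ := (hirr X hXK hXa).resolve_left fun e =>
    hS.1 (le_bot_iff.mp (e ▸ (hX' ▸ le_sup_left : S ≤ X)))
  obtain ⟨c, hc, hc3, hc1⟩ := simples_count [S, S1, S2] hL
  rw [← hX, hXtop] at hc hc1
  have hc0 : 1 ≤ c := hc1.resolve_left fun e => hS.1 (le_bot_iff.mp (e ▸ le_top))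
  have hndvd : ¬ p ∣ Nat.card (simples K (⊤ : Submodule (ZMod p) M)) := fun h => by
    have : (simples K (⊤ : Submodule (ZMod p) M)).ncard = Nat.card (simples K (⊤ : Submodule (ZMod p) M)) := rfl
    rw [← this, (Nat.ModEq.dvd_iff hc dvd_rfl)] at h
    have := Nat.le_of_dvd hc0 h
    simp only [List.length_cons, List.length_nil] at hc3
    omega
  letI : MulAction Z (simples K (⊤ : Submodule (ZMod p) M)) :=
    { smul := fun g T => ⟨T.1.map ((g : GL') : E'), hmap g g.2 T.1 T.2.1, le_top⟩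
      one_smul := fun T => Subtype.ext (Submodule.map_id _)
      mul_smul := fun g h T => Subtype.ext (Submodule.map_comp _ _ _) }
  have hZp : IsPGroup p Z := fun ⟨g, hg⟩ => by
    obtain ⟨i, rfl⟩ := Subgroup.mem_zpowers_iff.mp hg
    refine ⟨1, Subtype.ext ?_⟩
    show (a ^ i) ^ (p ^ 1) = 1
    rw [pow_one, ← zpow_natCast, ← zpow_mul, mul_comm, zpow_mul, zpow_natCast, pow_eq_one_of_cubic hp ha, one_zpow]
  obtain ⟨⟨T, hT, hTt⟩, hfix⟩ := hZp.nonempty_fixed_point_of_prime_not_dvd_card _ hndvd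
  have hTa : ∀ v ∈ T, (a : E') v ∈ T := fun v hv => by
    have e : T.map ((a : GL') : E') = T := congrArg Subtype.val (hfix ⟨a, Subgroup.mem_zpowers a⟩)
    exact e.le (Submodule.mem_map_of_mem hv)
  have hTtop : T = ⊤ := (hirr T hT.2.1 hTa).resolve_left hT.1
  rw [← hT.2.2 W (hTtop ▸ le_top) hW hW0] at hTtop
  exact hTtop

/-- A cubic element normalising an irreducible group commutes with its centralising endomorphisms. -/
theorem commute_of_cubic (hp : 5 ≤ p) {a : GL'} (haK : a ∈ Subgroup.normalizer (K : Set GL'))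
    (ha : ((a : E') - 1) * ((a : E') - 1) * ((a : E') - 1) = 0) (hne : ∃ m : M, m ≠ 0)
    (hirr : ∀ W : Submodule (ZMod p) M, QP.Inv K W → W ≠ ⊥ → W = ⊤) {d : E'}
    (hd : ∀ k ∈ K, (k : E') * d = d * k) : (a : E') * d = d * a := by
  set C := Subring.centralizer {z : E' | ∃ k ∈ K, (k : E') = z} with hC
  have hmemC : ∀ {z : E'}, z ∈ C ↔ ∀ k ∈ K, (k : E') * z = z * k := fun {z} => by
    rw [hC, Subring.mem_centralizer_iff]
    exact ⟨fun h k hk => h _ ⟨k, hk, rfl⟩, by rintro h _ ⟨k, hk, rfl⟩; exact h k hk⟩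
  have hinj : ∀ z ∈ C, z ≠ 0 → ∀ v, z v = 0 → v = 0 := by
    intro z hz hz0 v hv
    by_contra hv0
    have hk : QP.Inv K (LinearMap.ker z) := fun g hg w hw => by
      show z ((g : E') w) = 0
      rw [← Module.End.mul_apply, ← hmemC.mp hz g hg, Module.End.mul_apply, show z w = 0 from hw, map_zero]
    have h := hirr _ hk fun e => hv0 ((Submodule.mem_bot (ZMod p)).mp (e ▸ LinearMap.mem_ker.mpr hv))
    exact hz0 (LinearMap.ker_eq_top.mp h)
  haveI : Nontrivial C := by
    obtain ⟨m, hm⟩ := hne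
    exact ⟨⟨1, 0, fun e => hm (LinearMap.congr_fun (congrArg Subtype.val e : (1 : E') = 0) m)⟩⟩
  haveI : NoZeroDivisors C := ⟨fun {x y} h => by
    by_contra hc
    push Not at hc
    refine hc.2 (Subtype.ext (LinearMap.ext fun v => hinj x x.2 (fun e => hc.1 (Subtype.ext e)) _ ?_))
    exact LinearMap.congr_fun (congrArg Subtype.val h) v⟩
  haveI : IsDomain C := NoZeroDivisors.to_isDomain _
  haveI : Finite C := Subtype.finite
  have hcomm : ∀ {x y : E'}, x ∈ C → y ∈ C → x * y = y * x := fun {x y} hx hy =>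
    congrArg Subtype.val ((Finite.isDomain_to_isField C).mul_comm ⟨x, hx⟩ ⟨y, hy⟩)
  have hconj : ∀ {g : GL'}, g ∈ Subgroup.normalizer (K : Set GL') → ∀ {z : E'}, z ∈ C → conjE g z ∈ C := by
    intro g hg z hz
    refine hmemC.mpr fun k hk => ?_
    have h1 : conjE (g⁻¹ * k * g⁻¹⁻¹) z = z :=
      (conjE_eq_iff _ _ _).mpr (hmemC.mp hz _ ((Subgroup.mem_normalizer_iff.mp (inv_mem hg) k).mp hk))
    refine (conjE_eq_iff _ _ _).mp ?_
    conv_rhs => rw [← h1, ← conjE_mulAction]
    rw [← conjE_mulAction]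
    congr 1
    group
  have hdC : d ∈ C := hmemC.mpr hd
  set d1 := conjE a d with hd1
  set d2 := conjE a d1 with hd2
  set d3 := conjE a d2 with hd3
  have h1C : d1 ∈ C := hconj haK hdC
  have h2C : d2 ∈ C := hconj haK h1C
  have h3C : d3 ∈ C := hconj haK h2C
  have s1 : (a : E') * d = d1 * a := (conjE_eq_iff _ _ _).mp rfl
  have s2 : (a : E') * d1 = d2 * a := (conjE_eq_iff _ _ _).mp rfl
  have s3 : (a : E') * d2 = d3 * a := (conjE_eq_iff _ _ _).mp rfl
  have t2 : (a : E') * a * d = d2 * ((a : E') * a) := by rw [mul_assoc, s1, ← mul_assoc, s2, mul_assoc]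
  have t3 : (a : E') * a * a * d = d3 * ((a : E') * a * a) := by
    rw [mul_assoc _ (a : E') d, s1, ← mul_assoc, mul_assoc (a : E') (a : E') d1, s2, ← mul_assoc, s3]
    simp only [mul_assoc]
  have R0 : (a : E') * a * a - (3 : ZMod p) • ((a : E') * a) + (3 : ZMod p) • (a : E') - 1 = 0 := by
    rw [← ha]
    simp only [sub_mul, mul_sub, one_mul, mul_one]
    module
  -- eliminate three times
  have R1 : (-(3 : ZMod p)) • ((d2 - d3) * ((a : E') * a)) + (3 : ZMod p) • ((d1 - d3) * a) - (d - d3) = 0 := by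
    have hr := congrArg (fun z => z * d) R0
    have hl := congrArg (fun z => d3 * z) R0
    simp only [sub_mul, add_mul, smul_mul_assoc, one_mul, zero_mul, s1, t2, t3] at hr
    simp only [mul_sub, mul_add, mul_smul_comm, mul_one, mul_zero] at hl
    simp only [sub_mul]
    linear_combination (norm := module) hr - hl
  have R2 : (3 : ZMod p) • ((d1 - d3) * (d1 - d2) * a) - (d - d3) * (d - d2) = 0 := by
    obtain ⟨A2, hA2⟩ : ∃ x, x = d2 - d3 := ⟨_, rfl⟩
    obtain ⟨B, hB⟩ : ∃ x, x = d1 - d3 := ⟨_, rfl⟩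
    obtain ⟨Q, hQ⟩ : ∃ x, x = d - d3 := ⟨_, rfl⟩
    rw [← hA2, ← hB, ← hQ] at R1
    rw [← hB, ← hQ]
    have cA : A2 * d2 = d2 * A2 := hcomm (hA2 ▸ sub_mem h2C h3C) h2C
    have cB1 : B * d1 = d1 * B := hcomm (hB ▸ sub_mem h1C h3C) h1C
    have cB2 : B * d2 = d2 * B := hcomm (hB ▸ sub_mem h1C h3C) h2C
    have cQ : Q * d2 = d2 * Q := hcomm (hQ ▸ sub_mem hdC h3C) h2C
    have r1 : A2 * ((a : E') * a) * d = d2 * A2 * ((a : E') * a) := by rw [mul_assoc A2, t2, ← mul_assoc A2, cA]
    have r2 : B * (a : E') * d = d1 * B * a := by rw [mul_assoc B, s1, ← mul_assoc B, cB1]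
    have hr := congrArg (fun z => z * d) R1
    have hl := congrArg (fun z => d2 * z) R1
    simp only [sub_mul, add_mul, smul_mul_assoc, zero_mul, r1, r2] at hr
    simp only [mul_sub, mul_add, mul_smul_comm, mul_zero, ← mul_assoc d2] at hl
    rw [mul_sub B, mul_sub Q, cB1, cB2, cQ, sub_mul]
    linear_combination (norm := module) hr - hl
  have R3 : (d - d3) * (d - d2) * (d - d1) = 0 := by
    obtain ⟨B, hB⟩ : ∃ x, x = (d1 - d3) * (d1 - d2) := ⟨_, rfl⟩
    obtain ⟨Q, hQ⟩ : ∃ x, x = (d - d3) * (d - d2) := ⟨_, rfl⟩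
    rw [← hB, ← hQ] at R2
    rw [← hQ]
    have cB : B * d1 = d1 * B := hcomm (hB ▸ mul_mem (sub_mem h1C h3C) (sub_mem h1C h2C)) h1C
    have cQ : Q * d1 = d1 * Q := hcomm (hQ ▸ mul_mem (sub_mem hdC h3C) (sub_mem hdC h2C)) h1C
    have r2 : B * (a : E') * d = d1 * B * a := by rw [mul_assoc B, s1, ← mul_assoc B, cB]
    have hr := congrArg (fun z => z * d) R2
    have hl := congrArg (fun z => d1 * z) R2
    simp only [sub_mul, smul_mul_assoc, zero_mul, r2] at hr
    simp only [mul_sub, mul_smul_comm, mul_zero, ← mul_assoc d1] at hl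
    rw [mul_sub Q, cQ]
    linear_combination (norm := module) hl - hr
  have key : ∀ n, conjE (a ^ n) d = d → (n = 1 ∨ n = 2 ∨ n = 3) → (a : E') * d = d * a := by
    intro n hn hn'
    have hst : a ^ n ∈ stabE d := hn
    have hcop : Nat.Coprime n p := by
      refine ((Fact.out : p.Prime).coprime_iff_not_dvd.mpr fun h => ?_).symm
      have := Nat.le_of_dvd (by omega) h
      omega
    have hord : orderOf a ∣ p := orderOf_dvd_of_pow_eq_one (pow_eq_one_of_cubic hp ha)
    obtain ⟨m, hm⟩ := exists_pow_eq_self_of_coprime (hcop.coprime_dvd_right hord)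
    exact (conjE_eq_iff _ _ _).mp (show a ∈ stabE d from hm ▸ pow_mem hst m)
  have hC0 : ∀ {x y : E'}, x ∈ C → y ∈ C → x * y = 0 → x = 0 ∨ y = 0 := fun {x y} hx hy h => by
    rcases mul_eq_zero.mp (show (⟨x, hx⟩ : C) * ⟨y, hy⟩ = 0 from Subtype.ext h) with e | e
    · exact Or.inl (congrArg Subtype.val e)
    · exact Or.inr (congrArg Subtype.val e)
  rcases hC0 (mul_mem (sub_mem hdC h3C) (sub_mem hdC h2C)) (sub_mem hdC h1C) R3 with h | h
  · rcases hC0 (sub_mem hdC h3C) (sub_mem hdC h2C) h with h | h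
    · exact key 3 (by rw [pow_succ, pow_two, conjE_mulAction, conjE_mulAction]; exact (sub_eq_zero.mp h).symm) (by omega)
    · exact key 2 (by rw [pow_two, conjE_mulAction]; exact (sub_eq_zero.mp h).symm) (by omega)
  · exact key 1 (by rw [pow_one]; exact (sub_eq_zero.mp h).symm) (by omega)

/-- The irreducible case, for two modules. -/
theorem form_fixed_irreducible (hp : 5 ≤ p) {W : Type u} [AddCommGroup W] [Module (ZMod p) W]
    [FiniteDimensional (ZMod p) W] {Γ : Type v} [Group Γ] (ρ : Γ →* GL')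
    (σ : Γ →* LinearMap.GeneralLinearGroup (ZMod p) W) (K0 : Subgroup Γ) {a : Γ}
    (haK : a ∈ Subgroup.normalizer (K0 : Set Γ))
    (ha : ((ρ a : E') - 1) * ((ρ a : E') - 1) * ((ρ a : E') - 1) = 0)
    (ha' : (((σ a).val : Module.End (ZMod p) W) - 1) * ((σ a).val - 1) * ((σ a).val - 1) = 0) (hne : ∃ m : M, m ≠ 0)
    (hirr : ∀ X : Submodule (ZMod p) M, QP.Inv (K0.map ρ) X → X ≠ ⊥ → X = ⊤)
    (hirr' : ∀ X : Submodule (ZMod p) W, QP.Inv (K0.map σ) X → X ≠ ⊥ → X = ⊤)
    (β : M →ₗ[ZMod p] W →ₗ[ZMod p] ZMod p) (hβ : ∀ k ∈ K0, ∀ u w, β ((ρ k).val u) ((σ k).val w) = β u w) (u : M) (w : W) :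
    β ((ρ a).val u) ((σ a).val w) = β u w := by
  by_cases hb : β = 0
  · rw [hb]; rfl
  have hβ' : ∀ k ∈ K0, ∀ u w, β ((ρ k).val u) w = β u ((σ k⁻¹).val w) := fun k hk u w => by
    conv_rhs => rw [← hβ k hk]
    rw [← Module.End.mul_apply (σ k).val, ← Units.val_mul, ← map_mul, mul_inv_cancel, map_one, Units.val_one,
      Module.End.one_apply]
  have h1 : LinearMap.ker β = ⊥ := by
    by_contra h0
    refine hb (LinearMap.ker_eq_top.mp (hirr _ ?_ h0))
    rintro _ ⟨k, hk, rfl⟩ v hv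
    refine LinearMap.mem_ker.mpr (LinearMap.ext fun w => ?_)
    rw [hβ' k hk, show β v = 0 from hv]
    rfl
  have h2 : LinearMap.ker β.flip = ⊥ := by
    by_contra h0
    refine hb (LinearMap.ext fun v => LinearMap.ext fun w => ?_)
    have htop := LinearMap.ker_eq_top.mp (hirr' (LinearMap.ker β.flip) (by
      rintro _ ⟨k, hk, rfl⟩ w hw
      refine LinearMap.mem_ker.mpr (LinearMap.ext fun v => ?_)
      have e := hβ' k⁻¹ (inv_mem hk) v w
      rw [inv_inv] at e
      rw [LinearMap.flip_apply, ← e, ← LinearMap.flip_apply β, show β.flip w = 0 from hw]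
      rfl) h0)
    exact LinearMap.congr_fun (LinearMap.congr_fun htop w) v
  have hinj : Function.Injective β := LinearMap.ker_eq_bot.mp h1
  have hsurj : Function.Surjective β := by
    refine (LinearMap.injective_iff_surjective_of_finrank_eq_finrank ?_).mp hinj
    refine le_antisymm (LinearMap.finrank_le_finrank_of_injective hinj) ?_
    rw [Subspace.dual_finrank_eq]
    exact (LinearMap.finrank_le_finrank_of_injective (LinearMap.ker_eq_bot.mp h2)).trans Subspace.dual_finrank_eq.le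
  set eq := LinearEquiv.ofBijective β ⟨hinj, hsurj⟩ with heq
  set e : E' := eq.symm.toLinearMap ∘ₗ β.compl₁₂ (ρ a).val (σ a).val with he
  have hev : ∀ u w, β (e u) w = β ((ρ a).val u) ((σ a).val w) := fun u w => by
    have : β (e u) = β.compl₁₂ (ρ a).val (σ a).val u := eq.apply_symm_apply _
    rw [this]; rfl
  have hcomm : ∀ g ∈ K0.map ρ, (g : E') * e = e * g := by
    rintro _ ⟨k, hk, rfl⟩
    refine LinearMap.ext fun u => hinj (LinearMap.ext fun w => ?_)
    rw [Module.End.mul_apply, Module.End.mul_apply, hβ' k hk, hev, hev]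
    have hk' : a * k * a⁻¹ ∈ K0 := (Subgroup.mem_normalizer_iff.mp haK k).mp hk
    rw [← Module.End.mul_apply (ρ a).val, ← Units.val_mul, ← map_mul, show a * k = a * k * a⁻¹ * a by group,
      map_mul, Units.val_mul, Module.End.mul_apply, hβ' _ hk', ← Module.End.mul_apply (σ (a * k * a⁻¹)⁻¹).val,
      ← Units.val_mul, ← map_mul, show (a * k * a⁻¹)⁻¹ * a = a * k⁻¹ by group, map_mul, Units.val_mul,
      Module.End.mul_apply]
  have hae := commute_of_cubic hp (K := K0.map ρ) (a := ρ a) (Subgroup.le_normalizer_map ρ ⟨a, haK, rfl⟩) ha hne hirr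
    hcomm
  have hiter : ∀ (n : ℕ) u w, β (((e : E') ^ n) u) w = β ((ρ (a ^ n)).val u) ((σ (a ^ n)).val w) := by
    intro n
    induction n with
    | zero => intro u w; simp
    | succ n ih =>
      intro u w
      rw [pow_succ', Module.End.mul_apply, hev, ← Module.End.mul_apply (ρ a).val, (Commute.pow_right hae n).eq,
        Module.End.mul_apply, ih, pow_succ, map_mul, map_mul, Units.val_mul, Units.val_mul, Module.End.mul_apply,
        Module.End.mul_apply]
  have hep : e ^ p = 1 := LinearMap.ext fun v => hinj (LinearMap.ext fun x => by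
    rw [hiter, map_pow, map_pow, pow_eq_one_of_cubic hp ha, pow_eq_one_of_cubic hp ha']
    rfl)
  have hk : QP.Inv (K0.map ρ) (LinearMap.ker (e - 1)) := fun g hg v hv => by
    show (e - 1) ((g : E') v) = 0
    rw [← Module.End.mul_apply, sub_mul, one_mul, ← hcomm g hg, LinearMap.sub_apply, Module.End.mul_apply,
      show e v = v from sub_eq_zero.mp hv, sub_self]
  have he1 : e = 1 := by
    by_cases hb0 : LinearMap.ker (e - 1) = ⊥
    · exfalso
      obtain ⟨m, hm⟩ := hne
      haveI : Nontrivial M := ⟨⟨m, 0, hm⟩⟩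
      haveI : CharP E' p := charP_of_injective_algebraMap (algebraMap (ZMod p) E').injective p
      have h0 : (e - 1) ^ p = 0 := by
        rw [sub_pow_char_of_commute p (Commute.one_right e), hep, one_pow, sub_self]
      have hinj' : ∀ n : ℕ, Function.Injective ((e - 1) ^ n : E') := fun n => by
        induction n with
        | zero => exact fun x y h => h
        | succ n ih => rw [pow_succ]; exact ih.comp (LinearMap.ker_eq_bot.mp hb0)
      exact hm (hinj' p (by rw [h0]; rfl))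
    · exact sub_eq_zero.mp (LinearMap.ker_eq_top.mp (hirr _ hk hb0))
  rw [← hev, he1]
  rfl

/-- Semisimplicity passes to the subgroups above a normal subgroup with `p`-group quotient. -/
theorem semi_of_pGroup_quotient {H K0 : Subgroup GL'} (hH : Semi H) (hK : H ≤ Subgroup.normalizer (K0 : Set GL'))
    (hq : ∀ h ∈ H, ∃ n : ℕ, h ^ (p ^ n) ∈ K0) : ∀ (m : ℕ) {J : Subgroup GL'}, K0 ≤ J → J ≤ H →
      Nat.card H - Nat.card J = m → Semi J := by
  intro m
  induction m using Nat.strong_induction_on with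
  | _ m ih =>
    intro J hKJ hJH hm
    by_cases he : J = H
    · exact he ▸ hH
    haveI : (K0.subgroupOf H).Normal :=
      (Subgroup.normal_subgroupOf_iff_le_normalizer (hKJ.trans hJH)).mpr hK
    set π := QuotientGroup.mk' (K0.subgroupOf H) with hπ
    have hπp : IsPGroup p (H ⧸ K0.subgroupOf H) := fun q => by
      obtain ⟨h, rfl⟩ := QuotientGroup.mk'_surjective _ q
      obtain ⟨n, hn⟩ := hq h h.2
      refine ⟨n, ?_⟩
      rw [← map_pow]
      exact (QuotientGroup.eq_one_iff _).mpr hn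
    haveI := hπp.isNilpotent
    set J' := J.subgroupOf H with hJ'
    have hcom : (J'.map π).comap π = J' := Subgroup.comap_map_eq_self (by
      rw [hπ, QuotientGroup.ker_mk']; exact fun x hx => hKJ hx)
    have hlt : J'.map π < ⊤ := lt_top_iff_ne_top.mpr fun e => he (le_antisymm hJH
      (Subgroup.subgroupOf_eq_top.mp (by rw [← hJ', ← hcom, e, Subgroup.comap_top])))
    obtain ⟨q, hqn, hqJ⟩ := SetLike.exists_of_lt (Group.normalizerCondition_of_isNilpotent _ hlt)
    obtain ⟨h, rfl⟩ := QuotientGroup.mk'_surjective _ q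
    have hhn : h ∈ Subgroup.normalizer (J' : Set H) := by
      rw [← hcom]
      refine Subgroup.mem_normalizer_iff.mpr fun x => ?_
      have := Subgroup.mem_normalizer_iff.mp hqn (π x)
      simpa only [Subgroup.mem_comap, map_mul, map_inv] using this
    set J1 := H ⊓ Subgroup.normalizer (J : Set GL') with hJ1
    have hhJ1 : (h : GL') ∈ J1 := ⟨h.2, Subgroup.mem_normalizer_iff.mpr fun z => by
      constructor
      · intro hz
        exact (Subgroup.mem_normalizer_iff.mp hhn ⟨z, hJH hz⟩).mp hz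
      · intro hz
        have hzH : z ∈ H := by
          have := mul_mem (mul_mem (inv_mem h.2) (hJH hz)) h.2
          simpa [mul_assoc] using this
        exact (Subgroup.mem_normalizer_iff.mp hhn ⟨z, hzH⟩).mpr hz⟩
    have hJJ1 : J ≤ J1 := le_inf hJH Subgroup.le_normalizer
    have hhJ : (h : GL') ∉ J := fun hh => hqJ (Subgroup.mem_map_of_mem π hh)
    have hcard : Nat.card J < Nat.card J1 := by
      by_contra hc
      exact hhJ ((Subgroup.eq_of_le_of_card_ge hJJ1 (not_lt.mp hc)).ge hhJ1)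
    have h1 : Nat.card J1 ≤ Nat.card H := Subgroup.card_le_of_le inf_le_left
    have hJ1s : Semi J1 := ih _ (by omega) (hKJ.trans hJJ1) inf_le_left rfl
    exact semi_normal hJ1s hJJ1 fun g hg => CfsgLib.Local.map_conj_eq_of_mem_normalizer hg.2

/-- An element cubic on a semisimple module fixes the forms invariant under a normal subgroup of `p`-power index. -/
theorem form_fixed (hp : 5 ≤ p) {H K0 : Subgroup GL'} (hH : Semi H) (hK : H ≤ Subgroup.normalizer (K0 : Set GL'))
    (hKH : K0 ≤ H) (hq : ∀ h ∈ H, ∃ n : ℕ, h ^ (p ^ n) ∈ K0) {a : GL'} (haH : a ∈ H)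
    (ha : ((a : E') - 1) * ((a : E') - 1) * ((a : E') - 1) = 0) (β : M →ₗ[ZMod p] M →ₗ[ZMod p] ZMod p)
    (hβ : ∀ k ∈ K0, ∀ u w, β ((k : E') u) ((k : E') w) = β u w) (u w : M) :
    β ((a : E') u) ((a : E') w) = β u w := by
  set J := K0 ⊔ Subgroup.zpowers a with hJ
  have haJ : a ∈ J := Subgroup.mem_sup_right (Subgroup.mem_zpowers a)
  have hJs : Semi J :=
    semi_of_pGroup_quotient hH hK hq _ le_sup_left (sup_le hKH (Subgroup.zpowers_le.mpr haH)) rfl
  set K := K0.subgroupOf J with hKdef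
  have haK : (⟨a, haJ⟩ : J) ∈ Subgroup.normalizer (K : Set J) :=
    Subgroup.mem_normalizer_iff.mpr fun x => Subgroup.mem_normalizer_iff.mp (hK haH) (x : GL')
  have key : ∀ V : Submodule (ZMod p) M, ∀ hV : MinInv J V,
      (((resHom J V hV.2.1 ⟨a, haJ⟩).val : Module.End (ZMod p) V) - 1) * ((resHom J V hV.2.1 ⟨a, haJ⟩).val - 1) *
          ((resHom J V hV.2.1 ⟨a, haJ⟩).val - 1) = 0 ∧ (∃ m : V, m ≠ 0) ∧
        ∀ X : Submodule (ZMod p) V, QP.Inv (K.map (resHom J V hV.2.1)) X → X ≠ ⊥ → X = ⊤ := by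
    intro V hV
    have hc : (((resHom J V hV.2.1 ⟨a, haJ⟩).val : Module.End (ZMod p) V) - 1) *
        ((resHom J V hV.2.1 ⟨a, haJ⟩).val - 1) * ((resHom J V hV.2.1 ⟨a, haJ⟩).val - 1) = 0 := by
      refine LinearMap.ext fun v => Subtype.ext ?_
      simp only [Module.End.mul_apply, resHom_sub_one]
      exact LinearMap.congr_fun ha (v : M)
    refine ⟨hc, ?_, fun X hX hX0 => ?_⟩
    · obtain ⟨m, hm, hm0⟩ := (Submodule.ne_bot_iff V).mp hV.1
      exact ⟨⟨m, hm⟩, fun e => hm0 (congrArg Subtype.val e)⟩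
    refine irreducible_of_cubic hp (a := resHom J V hV.2.1 ⟨a, haJ⟩)
      (Subgroup.le_normalizer_map _ ⟨_, haK, rfl⟩) hc (fun Y hY hYa => ?_) hX hX0
    have hK' : QP.Inv K0 (Y.map V.subtype) := by
      rintro g hg _ ⟨v, hv, rfl⟩
      exact ⟨_, hY _ ⟨⟨g, Subgroup.mem_sup_left hg⟩, hg, rfl⟩ v hv, rfl⟩
    have hJ' := inv_sup_of hK' (a := a) (by rintro _ ⟨v, hv, rfl⟩; exact ⟨_, hYa v hv, rfl⟩)
    by_cases h0 : Y.map V.subtype = ⊥
    · exact Or.inl (Submodule.map_injective_of_injective V.injective_subtype (by rw [h0, Submodule.map_bot]))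
    · refine Or.inr (Submodule.map_injective_of_injective V.injective_subtype ?_)
      rw [hV.2.2 _ (Submodule.map_subtype_le V Y) hJ' h0, Submodule.map_top, Submodule.range_subtype]
  have pair : ∀ V W : Submodule (ZMod p) M, MinInv J V → MinInv J W → ∀ u ∈ V, ∀ w ∈ W,
      β ((a : E') u) ((a : E') w) = β u w := by
    intro V W hV hW u hu w hw
    obtain ⟨c1, n1, i1⟩ := key V hV
    obtain ⟨c2, -, i2⟩ := key W hW
    exact form_fixed_irreducible hp (resHom J V hV.2.1) (resHom J W hW.2.1) K haK c1 c2 n1 i1 i2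
      (β.compl₁₂ V.subtype W.subtype) (fun k hk u w => hβ k hk (u : M) (w : M)) ⟨u, hu⟩ ⟨w, hw⟩
  have hmem : ∀ v : M, v ∈ ⨆ V : {V : Submodule (ZMod p) M // MinInv J V}, (V : Submodule (ZMod p) M) := fun v => by
    rw [show (⨆ V : {V : Submodule (ZMod p) M // MinInv J V}, (V : Submodule (ZMod p) M)) = ⊤ from
      (sSup_eq_iSup' _).symm.trans hJs]
    trivial
  have hw : ∀ V : {V : Submodule (ZMod p) M // MinInv J V}, ∀ u ∈ (V : Submodule (ZMod p) M), ∀ w,
      β ((a : E') u) ((a : E') w) = β u w := by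
    intro V u hu w
    refine Submodule.iSup_induction _ (motive := fun w => β ((a : E') u) ((a : E') w) = β u w) (hmem w) ?_ ?_ ?_
    · exact fun W x hx => pair _ _ V.2 W.2 u hu x hx
    · simp
    · intro x y hx hy; simp only [map_add, hx, hy]
  refine Submodule.iSup_induction _ (motive := fun u => β ((a : E') u) ((a : E') w) = β u w) (hmem u) ?_ ?_ ?_
  · exact fun V x hx => hw V x hx w
  · simp
  · intro x y hx hy; simp only [map_add, LinearMap.add_apply, hx, hy]

end CfsgLib.QuadEquiv
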