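import Cfsg.Agent.Lib.QuadEquiv.Main
import Cfsg.Agent.Lib.QuadEquiv.Bilinear
import Mathlib.LinearAlgebra.Dual.Lemmas

/-!
The two linear results for an abstract irreducible action on an elementary abelian group.
-/

set_option autoImplicit false
set_option linter.unusedSectionVars false

namespace CfsgLib.QuadEquiv

open CfsgLib.QP CfsgLib.QuadFixed Subgroup

universe u

variable {p : ℕ} [Fact p.Prime] {X : Type u} [Group X] [Finite X] {V : Type u} [CommGroup V] [Finite V]

/-- An elementary abelian group as a space over the prime field. -/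
@[reducible] def addModule (he : ∀ x : V, x ^ p = 1) :
    @Module (ZMod p) (Additive V) _ (Additive.addCommGroup : AddCommGroup (Additive V)).toAddCommMonoid :=
  AddCommGroup.zmodModule (n := p) fun x => (he (Additive.toMul x) : Additive.toMul x ^ p = 1)

/-- The linear action. -/
def linRep (he : ∀ x : V, x ^ p = 1) (c : X →* MulAut V) :
    letI := addModule he
    X →* LinearMap.GeneralLinearGroup (ZMod p) (Additive V) :=
  letI := addModule he
  MonoidHom.toHomUnits
    { toFun := fun g => (MonoidHom.toAdditive (c g : V ≃* V).toMonoidHom).toZModLinearMap p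
      map_one' := LinearMap.ext fun v => by
        show Additive.ofMul (c 1 (Additive.toMul v)) = v
        rw [map_one]; rfl
      map_mul' := fun a b => LinearMap.ext fun v => by
        show Additive.ofMul (c (a * b) (Additive.toMul v)) = Additive.ofMul (c a (c b (Additive.toMul v)))
        rw [map_mul]; rfl }

theorem semi_linRep (he : ∀ x : V, x ^ p = 1) (c : X →* MulAut V) [Nontrivial V]
    (hmin : ∀ K : Subgroup V, (∀ g, ∀ v ∈ K, c g v ∈ K) → K = ⊥ ∨ K = ⊤) (H : Subgroup X) [H.Normal] :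
    letI := addModule he
    Semi (H.map (linRep he c)) := by
  letI := addModule he
  haveI : Module.Finite (ZMod p) (Additive V) := Module.Finite.of_finite
  set ρ := linRep he c with hρ
  have htop : Semi ((⊤ : Subgroup X).map ρ) := by
    refine semi_of_minimal _ (exists_ne (0 : Additive V)) fun U hU => ?_
    have hKinv : ∀ g, ∀ v ∈ AddSubgroup.toSubgroup' U.toAddSubgroup, c g v ∈ AddSubgroup.toSubgroup' U.toAddSubgroup :=
      fun g v hv => hU (ρ g) (mem_map_of_mem ρ (mem_top g)) (Additive.ofMul v) hv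
    rcases hmin _ hKinv with h | h
    · refine Or.inl ((Submodule.eq_bot_iff U).mpr fun u hu => ?_)
      have h1 : Additive.toMul u ∈ AddSubgroup.toSubgroup' U.toAddSubgroup := hu
      rw [h, mem_bot] at h1
      exact Additive.toMul.injective h1
    · refine Or.inr (Submodule.eq_top_iff'.mpr fun u => ?_)
      exact (h ▸ mem_top _ : Additive.toMul u ∈ AddSubgroup.toSubgroup' U.toAddSubgroup)
  refine semi_normal htop (map_mono le_top) fun g hg => CfsgLib.Local.map_conj_eq_of_mem_normalizer ?_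
  obtain ⟨g, -, rfl⟩ := hg
  exact le_normalizer_map ρ ⟨g, by rw [normalizer_eq_top]; trivial, rfl⟩

theorem linRep_sub_one (he : ∀ x : V, x ^ p = 1) (c : X →* MulAut V) (g : X) (v : Additive V) :
    letI := addModule he
    (((linRep he c g).val : Module.End (ZMod p) (Additive V)) - 1) v =
      Additive.ofMul (c g (Additive.toMul v) * (Additive.toMul v)⁻¹) := by
  letI := addModule he
  show Additive.ofMul (c g (Additive.toMul v)) - v = _
  rw [← div_eq_mul_inv, ofMul_div, ofMul_toMul]

/-- An element of an invariant `p`-subgroup acting quadratically on an irreducible module acts trivially. -/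
theorem quad_trivial_action (hp : 5 ≤ p) (G A P : Subgroup X) [G.Normal]
    (hcop : (Nat.card A).Coprime (Nat.card G)) (hPG : P ≤ G) (hP : IsPGroup p P)
    (hAP : A ≤ normalizer (P : Set X)) (hCP : G ⊓ centralizer (A : Set X) ≤ normalizer (P : Set X))
    (he : ∀ x : V, x ^ p = 1) (c : X →* MulAut V) [Nontrivial V]
    (hmin : ∀ K : Subgroup V, (∀ g, ∀ v ∈ K, c g v ∈ K) → K = ⊥ ∨ K = ⊤) {a : X} (ha : a ∈ P)
    (hq : ∀ v, c a (c a v * v⁻¹) = c a v * v⁻¹) : c a = 1 := by
  classical
  letI := addModule he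
  haveI : Module.Finite (ZMod p) (Additive V) := Module.Finite.of_finite
  set ρ := linRep he c with hρ
  by_contra hout
  have hne : ρ a ≠ 1 := fun h => hout (MulEquiv.ext fun v => by
    have h1 : (ρ a).val (Additive.ofMul v) = Additive.ofMul v := by rw [h]; rfl
    exact Additive.ofMul.injective h1)
  have hsq : (((ρ a).val : Module.End (ZMod p) (Additive V)) - 1) * ((ρ a).val - 1) = 0 := by
    refine LinearMap.ext fun v => ?_
    rw [Module.End.mul_apply, linRep_sub_one, linRep_sub_one, LinearMap.zero_apply]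
    show Additive.ofMul _ = 0
    rw [toMul_ofMul, hq, mul_inv_cancel]
    rfl
  have hn : ∀ {B : Subgroup X} {g : X}, g ∈ normalizer (B : Set X) → ρ g ∈ normalizer ((B.map ρ : Subgroup _) : Set _) :=
    fun {B g} h => le_normalizer_map ρ ⟨g, h, rfl⟩
  refine no_quad hp (Nat.card (G.map ρ) + 1) (G.map ρ) (A.map ρ) (P.map ρ) (Nat.lt_succ_self _) (semi_linRep he c hmin G)
    ?_ ((hcop.coprime_dvd_left (card_map_dvd _ ρ)).coprime_dvd_right (card_map_dvd _ ρ)) (map_mono hPG) (hP.map ρ) ?_ ?_
    _ (mem_of_mem (mem_map_of_mem ρ ha) hsq hne)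
  · rintro _ ⟨g, -, rfl⟩
    exact hn (by rw [normalizer_eq_top]; trivial)
  · rintro _ ⟨g, hg, rfl⟩
    exact hn (hAP hg)
  · rintro _ ⟨⟨k, hk, rfl⟩, hkA⟩
    obtain ⟨d, hd, hkd⟩ := coprime_fixed_quotient (K := G) (N := ρ.ker ⊓ G)
      (by intro x _; rw [normalizer_eq_top]; trivial) hcop (solvable_or_of_coprime hcop) inf_le_right
      (by intro x _; rw [normalizer_eq_top]; trivial) (by intro x _; rw [normalizer_eq_top]; trivial) hk
      (fun x hx => by
        refine ⟨?_, G.mul_mem (Subgroup.Normal.conj_mem inferInstance k hk x) (G.inv_mem hk)⟩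
        show x * k * x⁻¹ * k⁻¹ ∈ ρ.ker
        rw [MonoidHom.mem_ker, map_mul, map_mul, map_mul, map_inv, map_inv,
          mem_centralizer_iff.mp hkA _ (mem_map_of_mem ρ hx)]
        group)
    have e : ρ d = ρ k := by
      have h1 := MonoidHom.mem_ker.mp hkd.1
      rwa [map_mul, map_inv, inv_mul_eq_one, eq_comm] at h1
    rw [← e]
    exact hn (hCP hd)

/-- The invariance of forms, for biadditive functions. -/
theorem biadditive_fixed (hp : 5 ≤ p) {M : Type u} [AddCommGroup M] [Module (ZMod p) M] [FiniteDimensional (ZMod p) M]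
    {N : Type u} [AddCommGroup N] [Module (ZMod p) N]
    {H K0 : Subgroup (LinearMap.GeneralLinearGroup (ZMod p) M)} (hH : Semi H)
    (hK : H ≤ normalizer (K0 : Set (LinearMap.GeneralLinearGroup (ZMod p) M))) (hKH : K0 ≤ H)
    (hq : ∀ h ∈ H, ∃ n : ℕ, h ^ (p ^ n) ∈ K0) {a : LinearMap.GeneralLinearGroup (ZMod p) M} (haH : a ∈ H)
    (ha : ((a : Module.End (ZMod p) M) - 1) * ((a : Module.End (ZMod p) M) - 1) * ((a : Module.End (ZMod p) M) - 1) = 0)
    (F : M → M → N) (hF1 : ∀ x x' y, F (x + x') y = F x y + F x' y) (hF2 : ∀ x y y', F x (y + y') = F x y + F x y')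
    (hFK : ∀ k ∈ K0, ∀ x y, F ((k : Module.End (ZMod p) M) x) ((k : Module.End (ZMod p) M) y) = F x y) (x y : M) :
    F ((a : Module.End (ZMod p) M) x) ((a : Module.End (ZMod p) M) y) = F x y := by
  let G1 : M → M →ₗ[ZMod p] N := fun x => (AddMonoidHom.mk' (F x) (hF2 x)).toZModLinearMap p
  let G0 : M →+ (M →ₗ[ZMod p] N) := AddMonoidHom.mk' G1 fun x x' => LinearMap.ext fun y => hF1 x x' y
  let G2 : M →ₗ[ZMod p] M →ₗ[ZMod p] N := G0.toZModLinearMap p
  rw [← sub_eq_zero, ← Module.forall_dual_apply_eq_zero_iff (ZMod p)]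
  intro φ
  have hb := form_fixed hp hH hK hKH hq haH ha (G2.compr₂ φ) (fun k hk x y => congrArg φ (hFK k hk x y)) x y
  rw [map_sub, sub_eq_zero]
  exact hb

/-- An element of a normal subgroup acting cubically fixes the bimultiplicative forms invariant under `K`. -/
theorem form_fixed_action (hp : 5 ≤ p) (H K : Subgroup X) [H.Normal] (hKH : K ≤ H) (hHK : H ≤ normalizer (K : Set X))
    (hq : ∀ h ∈ H, ∃ n : ℕ, h ^ (p ^ n) ∈ K) (he : ∀ x : V, x ^ p = 1) (c : X →* MulAut V) [Nontrivial V]
    (hmin : ∀ L : Subgroup V, (∀ g, ∀ v ∈ L, c g v ∈ L) → L = ⊥ ∨ L = ⊤) {Z : Type u} [CommGroup Z] [Finite Z]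
    (heZ : ∀ z : Z, z ^ p = 1) (F : V → V → Z) (hF1 : ∀ u u' w, F (u * u') w = F u w * F u' w)
    (hF2 : ∀ u w w', F u (w * w') = F u w * F u w') (hFK : ∀ k ∈ K, ∀ u w, F (c k u) (c k w) = F u w) {a : X}
    (haH : a ∈ H)
    (ha : ∀ v, c a (c a (c a v * v⁻¹) * (c a v * v⁻¹)⁻¹) = c a (c a v * v⁻¹) * (c a v * v⁻¹)⁻¹) (u w : V) :
    F (c a u) (c a w) = F u w := by
  classical
  letI := addModule he
  letI := addModule heZ
  haveI : Module.Finite (ZMod p) (Additive V) := Module.Finite.of_finite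
  set ρ := linRep he c with hρ
  have hcub : (((ρ a).val : Module.End (ZMod p) (Additive V)) - 1) * ((ρ a).val - 1) * ((ρ a).val - 1) = 0 := by
    refine LinearMap.ext fun v => ?_
    rw [Module.End.mul_apply, Module.End.mul_apply, linRep_sub_one, linRep_sub_one, linRep_sub_one,
      LinearMap.zero_apply, toMul_ofMul, toMul_ofMul, ha, mul_inv_cancel]
    rfl
  have hq' : ∀ h ∈ H.map ρ, ∃ n : ℕ, h ^ (p ^ n) ∈ K.map ρ := by
    rintro _ ⟨h, hh, rfl⟩
    obtain ⟨n, hn⟩ := hq h hh
    exact ⟨n, by rw [← map_pow]; exact mem_map_of_mem ρ hn⟩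
  have key := biadditive_fixed (p := p) (M := Additive V) (N := Additive Z) hp (semi_linRep he c hmin H)
    (fun g ⟨x, hx, e⟩ => e ▸ le_normalizer_map ρ ⟨x, hHK hx, rfl⟩) (map_mono hKH) hq' (mem_map_of_mem ρ haH) hcub
    (fun x y => Additive.ofMul (F (Additive.toMul x) (Additive.toMul y)))
    (fun _ _ _ => congrArg Additive.ofMul (hF1 _ _ _)) (fun _ _ _ => congrArg Additive.ofMul (hF2 _ _ _)) (by
      rintro _ ⟨k, hk, rfl⟩ x y
      exact congrArg Additive.ofMul (hFK k hk _ _)) (Additive.ofMul u) (Additive.ofMul w)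
  exact Additive.ofMul.injective key

end CfsgLib.QuadEquiv
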