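import Cfsg.Agent.Lib.QuadFixed.Main

/-!
Lines of minimal quadratic elements: stabilisers, the unipotent group of a line, connectedness by opposition.
-/

set_option autoImplicit false
set_option linter.unusedSectionVars false

namespace CfsgLib.QuadEquiv

open CfsgLib.QP CfsgLib.QuadFixed

universe u

variable {p : ℕ} [Fact p.Prime] {M : Type u} [AddCommGroup M] [Module (ZMod p) M] [FiniteDimensional (ZMod p) M]

local notation "GL'" => LinearMap.GeneralLinearGroup (ZMod p) M
local notation "E'" => Module.End (ZMod p) M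

variable {G : Subgroup (LinearMap.GeneralLinearGroup (ZMod p) M)} {x r s t : Module.End (ZMod p) M}

theorem Same.mul_left_zero {a b u : E'} (h : Same a b) (e : a * u = 0) : b * u = 0 :=
  LinearMap.ext fun v => LinearMap.mem_ker.mp (h.1.ge (LinearMap.congr_fun e v : u v ∈ LinearMap.ker a))

theorem Same.mul_right_zero {a b u : E'} (h : Same a b) (e : u * a = 0) : u * b = 0 :=
  LinearMap.ext fun v => by
    obtain ⟨w, hw⟩ := h.2.le ⟨v, rfl⟩
    show u (b v) = 0
    rw [← hw]
    exact LinearMap.congr_fun e w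

theorem Same.sandwich_zero {a b u : E'} (h : Same a b) (e : a * u * a = 0) : b * u * b = 0 := by
  rw [mul_assoc] at e ⊢
  refine Same.mul_left_zero h ?_
  rw [← mul_assoc]
  exact Same.mul_right_zero h (by rw [mul_assoc]; exact e)

theorem conjE_zero (g : GL') : conjE g (0 : E') = 0 := by simp [conjE]

theorem conjE_inj {g : GL'} {a b : E'} (h : conjE g a = conjE g b) : a = b := by
  rw [← conjE_conjE g a, h, conjE_conjE]

theorem conjE_isNilpotent {g : GL'} {a : E'} (h : IsNilpotent a) : IsNilpotent (conjE g a) := by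
  obtain ⟨n, hn⟩ := h
  refine ⟨n, ?_⟩
  have e : ∀ m : ℕ, conjE g a ^ m = conjE g (a ^ m) := fun m => by
    induction m with
    | zero => simp [conjE_one']
    | succ m ih => rw [pow_succ, ih, pow_succ, conjE_mul]
  rw [e, hn, conjE_zero]

theorem mk_conj (g : GL') {z : E'} (hz : z * z = 0) (hz' : conjE g z * conjE g z = 0) :
    g * mk z hz * g⁻¹ = mk (conjE g z) hz' := by
  refine Units.ext (sub_left_injective (b := (1 : E')) ?_)
  simp only
  rw [conj_sub_one, mk_sub_one, mk_sub_one]

/-- Elements commuting with `z` commute with `mk z`. -/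
theorem commute_mk_iff {g : GL'} {z : E'} (hz : z * z = 0) : g * mk z hz = mk z hz * g ↔ conjE g z = z := by
  rw [conjE_eq_iff]
  constructor
  · intro h
    have := congrArg Units.val h
    simpa [Units.val_mul, mul_add, add_mul] using this
  · intro h
    exact Units.ext (by simp [Units.val_mul, mul_add, add_mul, h])

theorem mk_mem (h : Mem G s) : mk s h.sq ∈ G := InG.mem (by rw [mk_val]; exact h.inG)

theorem conjE_mk_of_commute {z : E'} (hz : z * z = 0) {u : E'} (h : z * u = u * z) :
    conjE (mk z hz) u = u := by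
  rw [conjE_eq_iff, mk_val, add_mul, one_mul, mul_add, mul_one, h]

/-- The elements fixing a line. -/
def lineGroup (G : Subgroup GL') (x : E') : Subgroup GL' where
  carrier := {g | g ∈ G ∧ Same x (conjE g x)}
  one_mem' := ⟨one_mem _, by rw [conjE_one]; exact Same.refl x⟩
  mul_mem' := fun {a b} ⟨ha, ha'⟩ ⟨hb, hb'⟩ => ⟨mul_mem ha hb, by
    rw [conjE_mulAction]; exact ha'.trans (hb'.conjE a)⟩
  inv_mem' := fun {a} ⟨ha, ha'⟩ => ⟨inv_mem ha, by
    have := ha'.conjE a⁻¹
    rw [conjE_conjE] at this
    exact this.symm⟩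

theorem mem_lineGroup {g : GL'} : g ∈ lineGroup G x ↔ g ∈ G ∧ Same x (conjE g x) := Iff.rfl

/-- The unipotent group of a line does not see the frame. -/
theorem mem_unipGroup_iff (F : Frame G x r) {g : GL'} : g ∈ unipGroup G x r ↔
    g ∈ G ∧ x * ((g : E') - 1) = 0 ∧ ((g : E') - 1) * x = 0 ∧
      ∀ v, x v = 0 → ((g : E') - 1) v ∈ LinearMap.range x := by
  show unip G x r g ↔ _
  constructor
  · rintro ⟨h0, h1, h2, h3⟩
    refine ⟨h0, h1, h2, fun v hv => ⟨r (((g : E') - 1) v), ?_⟩⟩
    have e := LinearMap.congr_fun h3 v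
    simp only [Module.End.mul_apply, LinearMap.sub_apply, Module.End.one_apply, hv, map_zero, sub_zero,
      LinearMap.zero_apply, sub_eq_zero] at e
    exact e.symm
  · rintro ⟨h0, h1, h2, h3⟩
    refine ⟨h0, h1, h2, LinearMap.ext fun v => ?_⟩
    obtain ⟨w, hw⟩ := h3 ((1 - r * x : E') v) (by
      show (x * (1 - r * x)) v = 0
      rw [mul_sub, mul_one, ← mul_assoc, F.xrx, sub_self]; rfl)
    show (1 - x * r : E') (((g : E') - 1) ((1 - r * x : E') v)) = 0
    rw [← hw]
    show ((1 - x * r) * x) w = 0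
    rw [sub_mul, one_mul, F.xrx, sub_self]; rfl

theorem conj_mem_unipGroup (F : Frame G x r) {g u : GL'} (hg : g ∈ lineGroup G x) (hu : u ∈ unipGroup G x r) :
    g * u * g⁻¹ ∈ unipGroup G x r := by
  obtain ⟨hgG, hs⟩ := hg
  rw [mem_unipGroup_iff F] at hu ⊢
  obtain ⟨hu0, h1, h2, h3⟩ := hu
  refine ⟨mul_mem (mul_mem hgG hu0) (inv_mem hgG), ?_, ?_, fun v hv => ?_⟩
  · rw [conj_sub_one]
    exact Same.mul_left_zero hs.symm (by rw [conjE_mul, h1, conjE_zero])
  · rw [conj_sub_one]
    exact Same.mul_right_zero hs.symm (by rw [conjE_mul, h2, conjE_zero])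
  · rw [conj_sub_one, ← hs.2]
    have hv' : conjE g x v = 0 := LinearMap.mem_ker.mp (hs.1 ▸ LinearMap.mem_ker.mpr hv)
    obtain ⟨w, hw⟩ := h3 ((g⁻¹ : GL').1 v) (by
      have := congrArg (g⁻¹ : GL').1 hv'
      simpa [conjE, ← Module.End.mul_apply, ← mul_assoc] using this)
    refine ⟨(g : E') w, ?_⟩
    show (g : E') (x ((g⁻¹ : GL').1 ((g : E') w))) = (g : E') (((u : E') - 1) ((g⁻¹ : GL').1 v))
    rw [map_inv_cancel, hw]

theorem unipGroup_le_lineGroup (F : Frame G x r) : unipGroup G x r ≤ lineGroup G x := fun g hg => by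
  obtain ⟨h0, h1, h2, -⟩ := hg
  refine ⟨h0, ?_⟩
  have e : conjE g x = x := (conjE_eq_iff _ _ _).mpr (by
    rw [mul_sub, mul_one, sub_eq_zero] at h1
    rw [sub_mul, one_mul, sub_eq_zero] at h2
    rw [h1, h2])
  rw [e]; exact Same.refl x

theorem mk_mem_unipGroup_of_same (F : Frame G x r) {z : E'} (hz : Mem G z) (h : Same x z) :
    mk z hz.sq ∈ unipGroup G x r := by
  rw [mem_unipGroup_iff F]
  refine ⟨mk_mem hz, ?_, ?_, fun v hv => ?_⟩
  · rw [mk_sub_one]; exact mul_eq_zero_of_same F.left.1.sq (Same.refl x) h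
  · rw [mk_sub_one]; exact mul_eq_zero_of_same F.left.1.sq h (Same.refl x)
  · rw [mk_sub_one, LinearMap.mem_ker.mp (h.1.ge (LinearMap.mem_ker.mpr hv))]; exact zero_mem _

/-- A member opposite to `x` is on a line conjugate to that of `r` under the unipotent group. -/
theorem exists_unip_of_opp (hp : 5 ≤ p) (F : Frame G x r) {m : E'} (hm : Min G m)
    (h : ¬ IsNilpotent (x * m + m * x)) : ∃ n ∈ unipGroup G x r, Same (conjE n r) m := by
  obtain ⟨r', F', hs⟩ := exists_normalized (ringChar_ne_two hp) (card_ne_three hp) F.left hm h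
  obtain ⟨n, hn, -, e⟩ := frames_conj_unip hp F F'
  exact ⟨n, hn, by rw [e]; exact hs.symm⟩

/-! ### Connectedness -/

/-- One step of opposition, or on the same line. -/
def Adj (G : Subgroup GL') (a b : E') : Prop :=
  Min G a ∧ Min G b ∧ (Same a b ∨ ¬ IsNilpotent (a * b + b * a))

/-- Connected by opposition. -/
def Conn (G : Subgroup GL') : E' → E' → Prop := Relation.EqvGen (Adj G)

theorem Conn.refl (a : E') : Conn G a a := Relation.EqvGen.refl a

theorem Conn.symm {a b : E'} (h : Conn G a b) : Conn G b a := Relation.EqvGen.symm _ _ h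

theorem Conn.trans {a b c : E'} (h : Conn G a b) (h' : Conn G b c) : Conn G a c := Relation.EqvGen.trans _ _ _ h h'

theorem Conn.of_same {a b : E'} (ha : Min G a) (hb : Min G b) (h : Same a b) : Conn G a b :=
  Relation.EqvGen.rel _ _ ⟨ha, hb, Or.inl h⟩

theorem Conn.of_opp {a b : E'} (ha : Min G a) (hb : Min G b) (h : ¬ IsNilpotent (a * b + b * a)) : Conn G a b :=
  Relation.EqvGen.rel _ _ ⟨ha, hb, Or.inr h⟩

theorem Conn.frame (F : Frame G x r) : Conn G x r :=
  Conn.of_opp F.left F.right (not_nilpotent_of_xrx F.left.1.sq F.left.1.ne F.xrx)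

theorem Conn.conj {g : GL'} (hg : g ∈ G) {a b : E'} (h : Conn G a b) : Conn G (conjE g a) (conjE g b) := by
  induction h with
  | rel a b h =>
    obtain ⟨ha, hb, h⟩ := h
    refine Relation.EqvGen.rel _ _ ⟨ha.conjE hg, hb.conjE hg, h.imp (fun h => h.conjE g) fun h hn => h ?_⟩
    rw [conjE_mul, conjE_mul, ← conjE_add] at hn
    have := conjE_isNilpotent (g := g⁻¹) hn
    rwa [conjE_conjE] at this
  | refl a => exact Conn.refl _
  | symm a b _ ih => exact ih.symm
  | trans a b c _ _ ih ih' => exact ih.trans ih'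

/-- Members in different components commute. -/
theorem commute_of_not_conn (hp : 5 ≤ p) (hG : Semi G) (hS : Min G s) (hT : Min G t) (h : ¬ Conn G s t) :
    s * t = t * s := by
  have hk2 := ringChar_ne_two hp
  have hk3 := card_ne_three hp
  have hnil : IsNilpotent (s * t + t * s) := by
    by_contra hn
    exact h (Conn.of_opp hS hT hn)
  by_contra hne
  obtain ⟨h1, h2⟩ := deep_zero (two_ne hk2) hS hT hnil
  have hne' : s * t - t * s ≠ 0 := fun e => hne (sub_eq_zero.mp e)
  obtain ⟨hX, -⟩ := pair_spaces hS hT h1 h2 hne'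
  set v := s * t - t * s with hv
  obtain ⟨R, F⟩ := exists_frame_of_semi hk2 hk3 hG hX
  set g := mk t hT.1.sq with hg
  set g' := mk (-s) hS.neg.1.sq with hg'
  have hgs : conjE g s = s - v := by
    rw [conjE_eq_iff, hg, mk_val, hv]
    simp only [sub_mul, mul_add, add_mul, one_mul, mul_one, mul_assoc, hT.1.sq, mul_zero]
    rw [← mul_assoc t s t, h2]
    abel
  have hg't : conjE g' t = t - v := by
    rw [conjE_eq_iff, hg', mk_val, hv]
    simp only [sub_mul, mul_add, add_mul, one_mul, mul_one, mul_neg, neg_mul, mul_assoc, hS.1.sq, mul_zero]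
    rw [← mul_assoc s t s, h1]
    abel
  have hgG : g ∈ G := mk_mem hT.1
  have hg'G : g' ∈ G := mk_mem hS.neg.1
  have key : ∀ {a b : E'}, Min G a → Min G b → a - b = v ∨ b - a = v → Conn G a R ∨ Conn G b R := by
    intro a b ha hb hab
    by_contra hc
    push Not at hc
    have q : ∀ {c : E'}, Min G c → ¬ Conn G c R → R * c * R = 0 := fun hc hn =>
      (deep_zero (two_ne hk2) hc F.right (by by_contra h'; exact hn (Conn.of_opp hc F.right h'))).2
    refine F.right.1.ne (F.rxr.symm.trans ?_)
    rcases hab with e | e <;> rw [← e, mul_sub, sub_mul, q ha hc.1, q hb hc.2, sub_zero]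
  have gt : conjE g t = t := conjE_mk_of_commute _ rfl
  have g's : conjE g' s = s := conjE_mk_of_commute _ (by rw [neg_mul, mul_neg])
  rcases key hS (hS.conjE hgG) (Or.inl (by rw [hgs, sub_sub_cancel])) with a | a <;>
    rcases key hT (hT.conjE hg'G) (Or.inl (by rw [hg't, sub_sub_cancel])) with b | b
  · exact h (a.trans b.symm)
  · have := (a.trans b.symm).conj (inv_mem hg'G)
    rw [conjE_conjE, ← g's, conjE_conjE] at this
    exact h this
  · have := (a.trans b.symm).conj (inv_mem hgG)
    rw [conjE_conjE, ← gt, conjE_conjE] at this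
    exact h this
  · have e1 : conjE (g * g') s = conjE g s := by rw [conjE_mulAction, g's]
    have e2 : conjE (g * g') t = conjE g' t := by
      rw [conjE_mulAction, hg't, conjE_sub, gt, conjE_mk_of_commute]
      rw [hv, mul_sub, sub_mul, ← mul_assoc, ← mul_assoc, h2, hT.1.sq, zero_mul, mul_assoc s t t, hT.1.sq,
        mul_zero, sub_self]
    have := a.trans b.symm
    rw [← e1, ← e2] at this
    have := this.conj (inv_mem (mul_mem hgG hg'G))
    rw [conjE_conjE, conjE_conjE] at this
    exact h this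

/-- If the members generate, components are preserved. -/
theorem conn_conjE (hp : 5 ≤ p) (hG : Semi G) (hgen : G ≤ Subgroup.closure {g : GL' | g ∈ G ∧ Min G ((g : E') - 1)})
    {g : GL'} (hg : g ∈ G) (hx : Min G x) : Conn G x (conjE g x) := by
  have hg' := hgen hg
  clear hg
  induction hg' using Subgroup.closure_induction generalizing x with
  | mem g hg =>
    obtain ⟨hgG, hm⟩ := hg
    set m := (g : E') - 1 with hm'
    have hgm : conjE g m = m := by
      rw [conjE_eq_iff, hm', mul_sub, sub_mul, mul_one, one_mul]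
    by_cases hc : Conn G x m
    · have := hc.conj hgG
      rw [hgm] at this
      exact hc.trans this.symm
    · have e := commute_of_not_conn hp hG hx hm hc
      have : conjE g x = x := (conjE_eq_iff _ _ _).mpr (by
        have ge : (g : E') = 1 + m := by rw [hm']; abel
        rw [ge, add_mul, mul_add, one_mul, mul_one, e])
      rw [this]; exact Conn.refl x
  | one => rw [conjE_one]; exact Conn.refl x
  | mul a b ha hb iha ihb =>
    rw [conjE_mulAction]
    have hbG : b ∈ G := (Subgroup.closure_le G).mpr (fun y hy => hy.1) hb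
    exact (ihb hx).trans (iha (hx.conjE hbG))
  | inv a ha iha =>
    have haG : a ∈ G := (Subgroup.closure_le G).mpr (fun y hy => hy.1) ha
    have := iha (x := conjE a⁻¹ x) (hx.conjE (inv_mem haG))
    rw [← conjE_mulAction, mul_inv_cancel, conjE_one] at this
    exact this.symm

end CfsgLib.QuadEquiv
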