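import Cfsg.Agent.Lib.QuadEquiv.Action
import Cfsg.Agent.Lib.Basic

/-!
Quadratic elements of the invariant `p`-subgroup along the invariant series inside `O_p(G)`.
-/

set_option autoImplicit false
set_option linter.unusedSectionVars false

namespace CfsgLib.QuadEquiv

open Subgroup
open scoped commutatorElement

universe u

section Section

variable {Γ : Type u} [Group Γ] (U M : Subgroup Γ) [U.Normal] [M.Normal]

theorem map_conjNormal_subgroupOf (g : Γ) :
    (M.subgroupOf U).map (MulAut.conjNormal (H := U) g).toMonoidHom = M.subgroupOf U := by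
  refine le_antisymm ?_ fun v hv => ?_
  · rintro _ ⟨v, hv, rfl⟩
    show ((MulAut.conjNormal g v : U) : Γ) ∈ M
    rw [MulAut.conjNormal_apply]
    exact (inferInstance : M.Normal).conj_mem _ hv g
  · refine ⟨MulAut.conjNormal g⁻¹ v, ?_, ?_⟩
    · show ((MulAut.conjNormal g⁻¹ v : U) : Γ) ∈ M
      rw [MulAut.conjNormal_apply]
      exact (inferInstance : M.Normal).conj_mem _ hv g⁻¹
    · show MulAut.conjNormal g (MulAut.conjNormal g⁻¹ v) = v
      rw [← MulAut.mul_apply, ← map_mul, mul_inv_cancel, map_one, MulAut.one_apply]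

/-- Conjugation on a section of two normal subgroups. -/
def secConj : Γ →* MulAut (U ⧸ M.subgroupOf U) :=
  MonoidHom.mk' (fun g => QuotientGroup.congr _ _ (MulAut.conjNormal (H := U) g) (map_conjNormal_subgroupOf U M g))
    fun g h => MulEquiv.ext fun x => by
      obtain ⟨v, rfl⟩ := QuotientGroup.mk_surjective x
      show QuotientGroup.mk (MulAut.conjNormal (g * h) v) = QuotientGroup.mk (MulAut.conjNormal g (MulAut.conjNormal h v))
      rw [map_mul, MulAut.mul_apply]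

theorem secConj_mk (g : Γ) (v : U) :
    secConj U M g (QuotientGroup.mk v) = QuotientGroup.mk (MulAut.conjNormal g v) := rfl

theorem secConj_div (g : Γ) (v : U) :
    secConj U M g (QuotientGroup.mk v) * (QuotientGroup.mk v)⁻¹ =
      QuotientGroup.mk ⟨⁅g, (v : Γ)⁆, mul_mem (Subgroup.Normal.conj_mem inferInstance _ v.2 g) (inv_mem v.2)⟩ := by
  rw [secConj_mk, ← QuotientGroup.mk_inv, ← QuotientGroup.mk_mul]
  congr 1

theorem secConj_fixed_iff (g : Γ) (v : U) :
    secConj U M g (QuotientGroup.mk v) = QuotientGroup.mk v ↔ ⁅g, (v : Γ)⁆ ∈ M := by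
  rw [← mul_inv_eq_one, secConj_div, QuotientGroup.eq_one_iff]
  rfl

/-- The section of a minimal pair is minimal for conjugation. -/
theorem secConj_min (hMU : M ≤ U) (hmin : ∀ L : Subgroup Γ, L.Normal → M ≤ L → L ≤ U → L = M ∨ L = U)
    (K : Subgroup (U ⧸ M.subgroupOf U)) (hK : ∀ g, ∀ v ∈ K, secConj U M g v ∈ K) : K = ⊥ ∨ K = ⊤ := by
  set L := (K.comap (QuotientGroup.mk' (M.subgroupOf U))).map U.subtype with hL
  have hLn : L.Normal := ⟨by
    rintro _ ⟨v, hv, rfl⟩ g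
    exact ⟨MulAut.conjNormal g v, hK g _ hv, MulAut.conjNormal_apply g v⟩⟩
  have hML : M ≤ L := fun m hm => ⟨⟨m, hMU hm⟩, by
    show QuotientGroup.mk' (M.subgroupOf U) ⟨m, hMU hm⟩ ∈ K
    rw [QuotientGroup.mk'_apply, (QuotientGroup.eq_one_iff _).mpr (show (⟨m, hMU hm⟩ : U) ∈ M.subgroupOf U from hm)]
    exact one_mem _, rfl⟩
  rcases hmin L hLn hML (Subgroup.map_subtype_le _) with h | h
  · refine Or.inl ((Subgroup.eq_bot_iff_forall _).mpr fun x hx => ?_)
    obtain ⟨v, rfl⟩ := QuotientGroup.mk_surjective x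
    exact (QuotientGroup.eq_one_iff _).mpr (show (v : Γ) ∈ M from h ▸ ⟨v, hx, rfl⟩)
  · refine Or.inr ((Subgroup.eq_top_iff' _).mpr fun x => ?_)
    obtain ⟨v, rfl⟩ := QuotientGroup.mk_surjective x
    obtain ⟨w, hw, e⟩ : (v : Γ) ∈ L := h.symm ▸ v.2
    rw [← Subtype.ext e]
    exact hw

/-- A minimal section of a `p`-group is elementary abelian. -/
theorem sec_elementary [Finite Γ] {p : ℕ} [Fact p.Prime] (hMU : M ≤ U) (hne : M ≠ U) (hU : IsPGroup p U)
    (hmin : ∀ L : Subgroup Γ, L.Normal → M ≤ L → L ≤ U → L = M ∨ L = U) :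
    (∀ a ∈ U, ∀ b ∈ U, ⁅a, b⁆ ∈ M) ∧ ∀ u ∈ U, u ^ p ∈ M := by
  set π := QuotientGroup.mk' M with hπ
  set W := U.map π with hW
  have hW0 : W ≠ ⊥ := fun e => hne (le_antisymm hMU (by
    rw [hW, Subgroup.map_eq_bot_iff, QuotientGroup.ker_mk'] at e
    exact e))
  haveI : Nontrivial W := W.nontrivial_iff_ne_bot.mpr hW0
  have hWp : IsPGroup p W := hU.map π
  have hcomm : ∀ a ∈ U, ∀ b ∈ U, ⁅a, b⁆ ∈ M := by
    rcases hmin (⁅U, U⁆ ⊔ M) inferInstance le_sup_right (sup_le (commutator_le_self U) hMU) with h | h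
    · exact fun a ha b hb => h.le (Subgroup.mem_sup_left (Subgroup.commutator_mem_commutator ha hb))
    · exfalso
      have e : ⁅W, W⁆ = W := by
        rw [hW, ← Subgroup.map_commutator]
        conv_rhs => rw [← h, Subgroup.map_sup, QuotientGroup.map_mk'_self, sup_bot_eq]
      haveI := hWp.isNilpotent
      refine (Group.IsSolvable.commutator_lt_top_of_nontrivial W).ne (map_injective W.subtype_injective ?_)
      rw [map_subtype_commutator, e, ← MonoidHom.range_eq_map, range_subtype]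
  refine ⟨hcomm, ?_⟩
  set D := Subgroup.closure {x | ∃ u ∈ U, u ^ p = x} ⊔ M with hD
  haveI : (Subgroup.closure {x | ∃ u ∈ U, u ^ p = x}).Normal := by
    refine ⟨fun n hn g => ?_⟩
    have hle : Subgroup.closure {x | ∃ u ∈ U, u ^ p = x} ≤
        (Subgroup.closure {x | ∃ u ∈ U, u ^ p = x}).comap (MulAut.conj g).toMonoidHom := by
      refine (Subgroup.closure_le _).mpr ?_
      rintro _ ⟨u, hu, rfl⟩
      refine Subgroup.subset_closure ⟨g * u * g⁻¹, Subgroup.Normal.conj_mem inferInstance u hu g, ?_⟩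
      rw [conj_pow]; rfl
    exact hle hn
  rcases hmin D inferInstance le_sup_right
      (sup_le ((Subgroup.closure_le _).mpr (by rintro _ ⟨u, hu, rfl⟩; exact pow_mem hu p)) hMU) with h | h
  · exact fun u hu => h.le (Subgroup.mem_sup_left (Subgroup.subset_closure ⟨u, hu, rfl⟩))
  · exfalso
    let f : W →* W := MonoidHom.mk' (fun x => x ^ p) fun x y => (show Commute x y from by
      obtain ⟨_, a, ha, rfl⟩ := x
      obtain ⟨_, b, hb, rfl⟩ := y
      refine Subtype.ext (commutatorElement_eq_one_iff_mul_comm.mp ?_)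
      show ⁅π a, π b⁆ = 1
      rw [← map_commutatorElement]
      exact (QuotientGroup.eq_one_iff _).mpr (hcomm a ha b hb)).mul_pow p
    have hsurj : Function.Surjective f := by
      intro w
      have hle : D ≤ (f.range.map W.subtype).comap π := by
        refine sup_le ((Subgroup.closure_le _).mpr ?_) fun m hm => ?_
        · rintro _ ⟨u, hu, rfl⟩
          exact ⟨f ⟨π u, mem_map_of_mem π hu⟩, ⟨_, rfl⟩, (map_pow π u p).symm⟩
        · rw [Subgroup.mem_comap, show π m = 1 from (QuotientGroup.eq_one_iff m).mpr hm]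
          exact one_mem _
      obtain ⟨u, hu, e⟩ : (w : Γ ⧸ M) ∈ U.map π := w.2
      obtain ⟨w', hw', e'⟩ := hle (h.symm ▸ hu : u ∈ D)
      rw [Subtype.ext (e'.trans e) ] at hw'
      exact hw'
    obtain ⟨k, hk, hc⟩ := hWp.nontrivial_iff_card.mp inferInstance
    obtain ⟨x, hx⟩ := exists_prime_orderOf_dvd_card' (G := W) p (hc ▸ dvd_pow_self p (by omega))
    have h1 : f x = f 1 := by
      show x ^ p = 1 ^ p
      rw [one_pow, ← hx, pow_orderOf_eq_one]
    rw [(Finite.injective_iff_surjective.mpr hsurj) h1, orderOf_one] at hx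
    exact (Fact.out : p.Prime).ne_one hx.symm

end Section

variable {X : Type u} [Group X] {p : ℕ}

/-- The hypotheses on the group, the operators, the core and the invariant `p`-subgroup. -/
structure Setup (p : ℕ) (G R Q P : Subgroup X) : Prop where
  hRG : R ≤ normalizer (G : Set X)
  hcop : (Nat.card R).Coprime (Nat.card G)
  hQG : Q ≤ G
  hQn : G ⊔ R ≤ normalizer (Q : Set X)
  hQp : IsPGroup p Q
  hmax : ∀ N ≤ G, G ≤ normalizer (N : Set X) → IsPGroup p N → N ≤ Q
  hPG : P ≤ G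
  hPp : IsPGroup p P
  hQP : Q ≤ P
  hRP : R ≤ normalizer (P : Set X)
  hCP : G ⊓ centralizer (R : Set X) ≤ normalizer (P : Set X)

/-- Invariance under the group and the operators. -/
def GRInv (G R U : Subgroup X) : Prop := G ⊔ R ≤ normalizer (U : Set X)

/-- The elements stabilising a section. -/
def secKer (V1 V2 : Subgroup X) : Subgroup X where
  carrier := {g | g ∈ normalizer (V1 : Set X) ∧ g ∈ normalizer (V2 : Set X) ∧ ∀ v ∈ V2, ⁅g, v⁆ ∈ V1}
  one_mem' := ⟨one_mem _, one_mem _, fun v _ => by rw [commutatorElement_one_left]; exact one_mem _⟩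
  mul_mem' := fun {a b} ⟨a1, a2, a3⟩ ⟨b1, b2, b3⟩ => ⟨mul_mem a1 b1, mul_mem a2 b2, fun v hv => by
    have e : ⁅a * b, v⁆ = a * ⁅b, v⁆ * a⁻¹ * ⁅a, v⁆ := by simp only [commutatorElement_def]; group
    rw [e]
    exact mul_mem ((mem_normalizer_iff.mp a1 _).mp (b3 v hv)) (a3 v hv)⟩
  inv_mem' := fun {a} ⟨a1, a2, a3⟩ => ⟨inv_mem a1, inv_mem a2, fun v hv => by
    have e : ⁅a⁻¹, v⁆ = a⁻¹ * ⁅a, v⁆⁻¹ * a⁻¹⁻¹ := by simp only [commutatorElement_def]; group
    rw [e]
    exact (mem_normalizer_iff.mp (inv_mem a1) _).mp (inv_mem (a3 v hv))⟩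

theorem GRInv.le_G {G R U : Subgroup X} (h : GRInv G R U) : G ≤ normalizer (U : Set X) := le_sup_left.trans h

theorem conj_mem_secKer {V1 V2 : Subgroup X} {n g : X} (h1 : n ∈ normalizer (V1 : Set X))
    (h2 : n ∈ normalizer (V2 : Set X)) (hg : g ∈ secKer V1 V2) : n * g * n⁻¹ ∈ secKer V1 V2 := by
  obtain ⟨g1, g2, g3⟩ := hg
  refine ⟨mul_mem (mul_mem h1 g1) (inv_mem h1), mul_mem (mul_mem h2 g2) (inv_mem h2), fun v hv => ?_⟩
  have e : ⁅n * g * n⁻¹, v⁆ = n * ⁅g, n⁻¹ * v * n⁻¹⁻¹⁆ * n⁻¹ := by simp only [commutatorElement_def]; group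
  rw [e]
  exact (mem_normalizer_iff.mp h1 _).mp (g3 _ ((mem_normalizer_iff.mp (inv_mem h2) v).mp hv))

theorem secKer_normalizer {G R V1 V2 : Subgroup X} (h1 : GRInv G R V1) (h2 : GRInv G R V2) :
    GRInv G R (secKer V1 V2) := fun n hn => mem_normalizer_iff.mpr fun g =>
  ⟨conj_mem_secKer (h1 hn) (h2 hn), fun h => by
    simpa [mul_assoc] using conj_mem_secKer (inv_mem (h1 hn)) (inv_mem (h2 hn)) h⟩

theorem GRInv.inf {G R U V : Subgroup X} (h1 : GRInv G R U) (h2 : GRInv G R V) : GRInv G R (U ⊓ V) :=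
  fun _ hn => mem_normalizer_inf (h1 hn) (h2 hn)

theorem GRInv.self {G R : Subgroup X} (hR : R ≤ normalizer (G : Set X)) : GRInv G R G := sup_le le_normalizer hR

theorem GRInv.bot {G R : Subgroup X} : GRInv G R (⊥ : Subgroup X) := fun n _ => mem_normalizer_iff.mpr fun x => by
  simp only [mem_bot, mul_inv_eq_one, mul_eq_left]

theorem GRInv.sup {G R U V : Subgroup X} (h1 : GRInv G R U) (h2 : GRInv G R V) : GRInv G R (U ⊔ V) := fun n hn =>
  CfsgLib.Local.mem_normalizer_of_map_conj_eq (by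
    rw [Subgroup.map_sup, CfsgLib.Local.map_conj_eq_of_mem_normalizer (h1 hn),
      CfsgLib.Local.map_conj_eq_of_mem_normalizer (h2 hn)])

theorem GRInv.commutator {G R U V : Subgroup X} (h1 : GRInv G R U) (h2 : GRInv G R V) : GRInv G R ⁅U, V⁆ :=
  fun n hn => CfsgLib.Local.mem_normalizer_of_map_conj_eq (by
    rw [Subgroup.map_commutator, CfsgLib.Local.map_conj_eq_of_mem_normalizer (h1 hn),
      CfsgLib.Local.map_conj_eq_of_mem_normalizer (h2 hn)])

theorem GRInv.centralizer {G R U : Subgroup X} (h : GRInv G R U) : GRInv G R (Subgroup.centralizer (U : Set X)) := by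
  have key : ∀ n ∈ G ⊔ R, ∀ g ∈ Subgroup.centralizer (U : Set X), n * g * n⁻¹ ∈ Subgroup.centralizer (U : Set X) := by
    intro n hn g hg
    refine mem_centralizer_iff.mpr fun u hu => ?_
    have h1 := mem_centralizer_iff.mp hg _ ((mem_normalizer_iff.mp (inv_mem (h hn)) u).mp hu)
    calc u * (n * g * n⁻¹) = n * ((n⁻¹ * u * n⁻¹⁻¹) * g) * n⁻¹ := by group
      _ = n * (g * (n⁻¹ * u * n⁻¹⁻¹)) * n⁻¹ := by rw [h1]
      _ = n * g * n⁻¹ * u := by group
  intro n hn
  exact mem_normalizer_iff.mpr fun g => ⟨key n hn g, fun hg => by simpa [mul_assoc] using key _ (inv_mem hn) _ hg⟩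

/-- A normal subgroup acting as a `p`-group on a section. -/
structure Good (p : ℕ) (G R V1 V2 N : Subgroup X) : Prop where
  le : N ≤ G
  inv : GRInv G R N
  pow : ∀ g ∈ N, ∃ k : ℕ, g ^ (p ^ k) ∈ secKer V1 V2

/-- The element lies in a normal subgroup acting as a `p`-group on the section. -/
def Triv (p : ℕ) (G R V1 V2 : Subgroup X) (x : X) : Prop := ∃ N, Good p G R V1 V2 N ∧ x ∈ N

theorem mul_pow_mem {K : Subgroup X} {m k : X} (hm : m ∈ normalizer (K : Set X)) (hk : k ∈ K) (e : ℕ) :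
    ∃ k' ∈ K, (m * k) ^ e = m ^ e * k' := by
  induction e with
  | zero => exact ⟨1, one_mem _, by simp⟩
  | succ e ih =>
    obtain ⟨k', hk', h⟩ := ih
    refine ⟨m⁻¹ * k' * m⁻¹⁻¹ * k, mul_mem ((mem_normalizer_iff.mp (inv_mem hm) _).mp hk') hk, ?_⟩
    rw [pow_succ, h, pow_succ]
    group

theorem Good.sup {G R V1 V2 N1 N2 : Subgroup X} (h1 : GRInv G R V1) (h2 : GRInv G R V2)
    (g1 : Good p G R V1 V2 N1) (g2 : Good p G R V1 V2 N2) : Good p G R V1 V2 (N1 ⊔ N2) := by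
  refine ⟨sup_le g1.le g2.le, g1.inv.sup g2.inv, fun g hg => ?_⟩
  obtain ⟨w, hw, a, ha, rfl⟩ := CfsgLib.mem_sup_of_le_normalizer (g2.le.trans g1.inv.le_G) hg
  have han : a ∈ normalizer (N1 : Set X) := g1.inv.le_G (g2.le ha)
  obtain ⟨i, hi⟩ := g2.pow a ha
  obtain ⟨m, hm, e1⟩ := mul_pow_mem han ((mem_normalizer_iff.mp (inv_mem han) w).mp hw) (p ^ i)
  have e0 : a * (a⁻¹ * w * a⁻¹⁻¹) = w * a := by group
  rw [e0] at e1
  have hK : ∀ {x}, x ∈ G → x ∈ normalizer (secKer V1 V2 : Set X) := fun hx =>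
    (secKer_normalizer h1 h2).le_G hx
  set k := a ^ (p ^ i) with hk
  have e2 : k * m = k * m * k⁻¹ * k := by group
  have hm' : k * m * k⁻¹ ∈ N1 := (mem_normalizer_iff.mp (pow_mem han _) m).mp hm
  obtain ⟨j, hj⟩ := g1.pow _ hm'
  obtain ⟨k', hk', e3⟩ := mul_pow_mem (hK (g1.le hm')) hi (p ^ j)
  refine ⟨i + j, ?_⟩
  rw [pow_add, pow_mul, e1, e2, e3]
  exact mul_mem hj hk'

variable [Finite X] [Fact p.Prime]

theorem stab_pow {V1 W V2 : Subgroup X} (hW : IsPGroup p W) :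
    ∃ k : ℕ, ∀ g ∈ secKer V1 W ⊓ secKer W V2, g ^ (p ^ k) ∈ secKer V1 V2 := by
  obtain ⟨k, hk⟩ := IsPGroup.iff_card.mp hW
  refine ⟨k, fun g hg => ⟨pow_mem hg.1.1 _, pow_mem hg.2.2.1 _, fun v hv => ?_⟩⟩
  set w := ⁅g, v⁆ with hw
  have hwW : w ∈ W := hg.2.2.2 v hv
  have key : ∀ n : ℕ, ∃ z ∈ V1, ⁅g ^ n, v⁆ = z * w ^ n := by
    intro n
    induction n with
    | zero => exact ⟨1, one_mem _, by simp⟩
    | succ n ih =>
      obtain ⟨z, hz, e⟩ := ih
      refine ⟨g * z * g⁻¹ * ⁅g, w ^ n⁆, mul_mem ((mem_normalizer_iff.mp hg.1.1 z).mp hz)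
        (hg.1.2.2 _ (pow_mem hwW n)), ?_⟩
      have e' : ⁅g ^ (n + 1), v⁆ = g * ⁅g ^ n, v⁆ * g⁻¹ * w := by
        rw [pow_succ', hw]; simp only [commutatorElement_def]; group
      rw [e', e, pow_succ]
      simp only [commutatorElement_def]
      group
  obtain ⟨z, hz, e⟩ := key (p ^ k)
  rw [e, show w ^ (p ^ k) = 1 by
    rw [← hk]; exact congrArg Subtype.val (pow_card_eq_one' (G := W) (x := ⟨w, hwW⟩)), mul_one]
  exact hz

theorem Good.combine {G R V1 W V2 N1 N2 : Subgroup X} (hW : IsPGroup p W) (g1 : Good p G R V1 W N1)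
    (g2 : Good p G R W V2 N2) : Good p G R V1 V2 (N1 ⊓ N2) := by
  refine ⟨inf_le_left.trans g1.le, g1.inv.inf g2.inv, fun g hg => ?_⟩
  obtain ⟨i, hi⟩ := g1.pow g hg.1
  obtain ⟨j, hj⟩ := g2.pow g hg.2
  obtain ⟨k, hk⟩ := stab_pow (p := p) (V1 := V1) (V2 := V2) hW
  refine ⟨i + j + k, ?_⟩
  rw [pow_add, pow_mul]
  refine hk _ ⟨?_, ?_⟩
  · rw [pow_add, pow_mul]; exact pow_mem hi _
  · rw [add_comm, pow_add, pow_mul]; exact pow_mem hj _

theorem Triv.combine {G R V1 W V2 : Subgroup X} {x : X} (hW : IsPGroup p W) (t1 : Triv p G R V1 W x)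
    (t2 : Triv p G R W V2 x) : Triv p G R V1 V2 x := by
  obtain ⟨N1, g1, h1⟩ := t1
  obtain ⟨N2, g2, h2⟩ := t2
  exact ⟨N1 ⊓ N2, g1.combine hW g2, h1, h2⟩

/-- A quadratic element acts trivially on a chief section. -/
theorem Setup.chief {G R Q P : Subgroup X} (S : Setup p G R Q P) (hp : 5 ≤ p) {V1 V2 : Subgroup X}
    (h1 : GRInv G R V1) (h2 : GRInv G R V2) (h12 : V1 ≤ V2) (hne : V1 ≠ V2) (h2Q : V2 ≤ Q)
    (hmin : ∀ L, GRInv G R L → V1 ≤ L → L ≤ V2 → L = V1 ∨ L = V2) {x : X} (hx : x ∈ P)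
    (hq : ∀ v ∈ V2, ⁅x, ⁅x, v⁆⁆ ∈ V1) : ∀ v ∈ V2, ⁅x, v⁆ ∈ V1 := by
  classical
  set Γ := G ⊔ R with hΓ
  have h2Γ : V2 ≤ Γ := (h2Q.trans S.hQG).trans le_sup_left
  haveI : (V1.subgroupOf Γ).Normal := (normal_subgroupOf_iff_le_normalizer (h12.trans h2Γ)).mpr h1
  haveI : (V2.subgroupOf Γ).Normal := (normal_subgroupOf_iff_le_normalizer h2Γ).mpr h2
  haveI : (G.subgroupOf Γ).Normal := (normal_subgroupOf_iff_le_normalizer le_sup_left).mpr (GRInv.self S.hRG)
  set U := V2.subgroupOf Γ with hU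
  set M := V1.subgroupOf Γ with hM
  have hMU : M ≤ U := fun g hg => h12 hg
  have hne' : M ≠ U := fun e => hne (by
    have := congrArg (Subgroup.map Γ.subtype) e
    rwa [hM, hU, map_subgroupOf_eq_of_le (h12.trans h2Γ), map_subgroupOf_eq_of_le h2Γ] at this)
  have hmin' : ∀ L : Subgroup Γ, L.Normal → M ≤ L → L ≤ U → L = M ∨ L = U := by
    intro L hL hML hLU
    have hLinv : GRInv G R (L.map Γ.subtype) := fun g hg =>
      le_normalizer_map Γ.subtype ⟨⟨g, hg⟩, by rw [normalizer_eq_top]; trivial, rfl⟩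
    have e1 := map_mono (f := Γ.subtype) hML
    have e2 := map_mono (f := Γ.subtype) hLU
    rw [hM, map_subgroupOf_eq_of_le (h12.trans h2Γ)] at e1
    rw [hU, map_subgroupOf_eq_of_le h2Γ] at e2
    rcases hmin _ hLinv e1 e2 with h | h
    · exact Or.inl (map_injective Γ.subtype_injective (by rw [h, hM, map_subgroupOf_eq_of_le (h12.trans h2Γ)]))
    · exact Or.inr (map_injective Γ.subtype_injective (by rw [h, hU, map_subgroupOf_eq_of_le h2Γ]))
  have hUp : IsPGroup p U := (S.hQp.to_le h2Q).comap_of_injective Γ.subtype Γ.subtype_injective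
  obtain ⟨hcm, hpm⟩ := sec_elementary U M hMU hne' hUp hmin'
  letI : CommGroup (U ⧸ M.subgroupOf U) :=
    { (inferInstance : Group (U ⧸ M.subgroupOf U)) with
      mul_comm := fun a b => by
        obtain ⟨a, rfl⟩ := QuotientGroup.mk_surjective a
        obtain ⟨b, rfl⟩ := QuotientGroup.mk_surjective b
        rw [← commutatorElement_eq_one_iff_mul_comm]
        refine (map_commutatorElement (QuotientGroup.mk' (M.subgroupOf U)) a b).symm.trans ?_
        exact (QuotientGroup.eq_one_iff _).mpr (hcm a a.2 b b.2) }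
  have he : ∀ a : U ⧸ M.subgroupOf U, a ^ p = 1 := fun a => by
    obtain ⟨a, rfl⟩ := QuotientGroup.mk_surjective a
    exact (QuotientGroup.eq_one_iff _).mpr (hpm a a.2)
  haveI : Nontrivial (U ⧸ M.subgroupOf U) := QuotientGroup.nontrivial_iff.mpr fun e =>
    hne' (le_antisymm hMU (Subgroup.subgroupOf_eq_top.mp e))
  set x' : Γ := ⟨x, mem_sup_left (S.hPG hx)⟩ with hx'
  have dG : Nat.card (G.subgroupOf Γ) = Nat.card G := Nat.card_congr (subgroupOfEquivOfLe le_sup_left).toEquiv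
  have dR : Nat.card (R.subgroupOf Γ) = Nat.card R := Nat.card_congr (subgroupOfEquivOfLe le_sup_right).toEquiv
  have key := quad_trivial_action hp (G.subgroupOf Γ) (R.subgroupOf Γ) (P.subgroupOf Γ) (by rw [dG, dR]; exact S.hcop)
    (fun g hg => S.hPG hg) (S.hPp.comap_of_injective Γ.subtype Γ.subtype_injective)
    (fun g hg => mem_normalizer_iff.mpr fun y => mem_normalizer_iff.mp (S.hRP hg) (y : X))
    (fun g hg => mem_normalizer_iff.mpr fun y => mem_normalizer_iff.mp (S.hCP ⟨hg.1, mem_centralizer_iff.mpr fun r hr =>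
      congrArg Subtype.val (mem_centralizer_iff.mp hg.2 ⟨r, mem_sup_right hr⟩ hr)⟩) (y : X))
    he (secConj U M) (secConj_min U M hMU hmin') (a := x') hx (fun v => by
      obtain ⟨v, rfl⟩ := QuotientGroup.mk_surjective v
      rw [secConj_div, secConj_fixed_iff]
      exact hq ((v : Γ) : X) v.2)
  intro v hv
  have h3 : secConj U M x' (QuotientGroup.mk ⟨⟨v, h2Γ hv⟩, hv⟩) = QuotientGroup.mk ⟨⟨v, h2Γ hv⟩, hv⟩ := by
    rw [key]; rfl
  exact (secConj_fixed_iff U M x' _).mp h3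

/-- A quadratic element lies in a normal subgroup acting as a `p`-group on the section. -/
theorem Setup.triv {G R Q P : Subgroup X} (S : Setup p G R Q P) (hp : 5 ≤ p) {V1 : Subgroup X} (h1 : GRInv G R V1)
    {x : X} (hx : x ∈ P) : ∀ (n : ℕ) {V2 : Subgroup X}, Nat.card V2 = n → GRInv G R V2 → V1 ≤ V2 → V2 ≤ Q →
      (∀ v ∈ V2, ⁅x, ⁅x, v⁆⁆ ∈ V1) → Triv p G R V1 V2 x := by
  intro n
  induction n using Nat.strong_induction_on with
  | _ n ih =>
    intro V2 hn h2 h12 h2Q hq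
    by_cases e : V1 = V2
    · subst e
      exact ⟨G, ⟨le_rfl, GRInv.self S.hRG, fun g hg => ⟨0, h1.le_G (by simpa using hg), h1.le_G (by simpa using hg),
        fun v hv => mul_mem ((mem_normalizer_iff.mp (h1.le_G (by simpa using hg)) v).mp hv) (inv_mem hv)⟩⟩, S.hPG hx⟩
    obtain ⟨W, ⟨hWi, h1W, hW2⟩, hmax⟩ := (Set.toFinite {W : Subgroup X | GRInv G R W ∧ V1 ≤ W ∧ W < V2}).exists_maximal
      ⟨V1, h1, le_rfl, lt_of_le_of_ne h12 e⟩
    have hlt : Nat.card W < n := by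
      rw [← hn]
      by_contra hc
      exact hW2.ne (Subgroup.eq_of_le_of_card_ge hW2.le (not_lt.mp hc))
    have hxW : x ∈ normalizer (W : Set X) := hWi.le_G (S.hPG hx)
    have t1 := ih _ hlt rfl hWi h1W (hW2.le.trans h2Q) fun v hv => hq v (hW2.le hv)
    have hk := S.chief hp hWi h2 hW2.le hW2.ne h2Q (fun L hL hWL hL2 => by
      by_cases hLe : L = V2
      · exact Or.inr hLe
      · exact Or.inl (le_antisymm (hmax ⟨hL, h1W.trans hWL, lt_of_le_of_ne hL2 hLe⟩ hWL) hWL)) hx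
      (fun v hv => h1W (hq v hv))
    exact Triv.combine (S.hQp.to_le (hW2.le.trans h2Q)) t1
      ⟨G ⊓ secKer W V2, ⟨inf_le_left, (GRInv.self S.hRG).inf (secKer_normalizer hWi h2),
        fun g hg => ⟨0, by simpa using hg.2⟩⟩, S.hPG hx, hxW, h2.le_G (S.hPG hx), hk⟩

/-- An element acting as a `p`-element on a detecting subgroup lies in the core. -/
theorem Setup.mem_core {G R Q P : Subgroup X} (S : Setup p G R Q P) {C0 : Subgroup X}
    (hdet : ∀ g ∈ G, (orderOf g).Coprime p → (∀ c ∈ C0, ⁅g, c⁆ = 1) → g ∈ centralizer (G : Set X)) {x : X}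
    (hx : x ∈ P) (h : Triv p G R ⊥ C0 x) : x ∈ Q := by
  classical
  obtain ⟨N, hN, hxN⟩ := h
  set Z : Subgroup N := (centralizer (G : Set X)).subgroupOf N with hZ
  have hZc : Z ≤ center N := fun z hz => mem_center_iff.mpr fun n =>
    Subtype.ext (mem_centralizer_iff.mp hz n (hN.le n.2))
  have hpow : ∀ g ∈ N, ∃ e : ℕ, g ^ (p ^ e) ∈ centralizer (G : Set X) := by
    intro g hg
    obtain ⟨k, hk⟩ := hN.pow g hg
    set h := g ^ (p ^ k) with hh
    set a := (orderOf h).factorization p with ha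
    have hord : (orderOf (h ^ (p ^ a))).Coprime p := by
      rw [orderOf_pow, Nat.gcd_eq_right (Nat.ordProj_dvd _ _)]
      exact (Nat.coprime_ordCompl (Fact.out : p.Prime) (orderOf_pos h).ne').symm
    refine ⟨k + a, ?_⟩
    rw [pow_add, pow_mul]
    exact hdet _ (pow_mem (pow_mem (hN.le hg) _) _) hord fun c hc => mem_bot.mp ((pow_mem hk (p ^ a)).2.2 c hc)
  haveI : Z.Normal := ⟨fun z hz n => by
    rw [mem_center_iff.mp (hZc hz) n, mul_inv_cancel_right]; exact hz⟩
  haveI hnil : Group.IsNilpotent N := by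
    have hq : IsPGroup p (N ⧸ Z) := by
      intro y
      obtain ⟨g, rfl⟩ := QuotientGroup.mk_surjective y
      obtain ⟨e, he⟩ := hpow g g.2
      refine ⟨e, ?_⟩
      rw [← QuotientGroup.mk_pow, QuotientGroup.eq_one_iff, hZ, mem_subgroupOf, SubmonoidClass.coe_pow]
      exact he
    haveI := hq.isNilpotent
    exact Subgroup.isNilpotent_of_ker_le_center (QuotientGroup.mk' Z) (by rw [QuotientGroup.ker_mk']; exact hZc)
  obtain ⟨T⟩ : Nonempty (Sylow p N) := inferInstance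
  have hnormal : ∀ (q : ℕ) (_ : Fact q.Prime) (T : Sylow q N), (T : Subgroup N).Normal :=
    ((Group.isNilpotent_of_finite_tfae (G := N)).out 0 3).mp hnil
  have hTn : (T : Subgroup N).Normal := hnormal p inferInstance T
  have hxT : (⟨x, hxN⟩ : N) ∈ (T : Subgroup N) := by
    have hp' : IsPGroup p (zpowers (⟨x, hxN⟩ : N)) :=
      (S.hPp.comap_of_injective N.subtype N.subtype_injective).to_le
        (zpowers_le.mpr (show (⟨x, hxN⟩ : N) ∈ P.comap N.subtype from hx))
    obtain ⟨T', hT'⟩ := hp'.exists_le_sylow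
    haveI := Sylow.unique_of_normal T hTn
    rw [Subsingleton.elim T' T] at hT'
    exact hT' (mem_zpowers _)
  refine S.hmax ((T : Subgroup N).map N.subtype) ((map_subtype_le _).trans hN.le) ?_ (T.2.map _)
    ⟨_, hxT, rfl⟩
  haveI : (T : Subgroup N).Characteristic := T.characteristic_of_normal hTn
  have key : ∀ g ∈ G, ∀ y ∈ (T : Subgroup N).map N.subtype, g * y * g⁻¹ ∈ (T : Subgroup N).map N.subtype := by
    rintro g hg _ ⟨y, hy, rfl⟩
    have hle := characteristic_iff_map_le.mp (inferInstance : (T : Subgroup N).Characteristic)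
      (N.normalizerMonoidHom ⟨g, hN.inv.le_G hg⟩)
    exact ⟨_, hle (mem_map_of_mem _ hy), rfl⟩
  exact fun g hg => mem_normalizer_iff.mpr fun y => ⟨key g hg y, fun hy => by
    simpa [mul_assoc] using key _ (inv_mem hg) _ hy⟩

end CfsgLib.QuadEquiv
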