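import Cfsg.Agent.Lib.Basic

/-!
A characteristic functor on subgroups: the least fixed point of the square of an antitone operator.
-/

set_option autoImplicit false
set_option linter.unusedSectionVars false

namespace CfsgLib.QuadEquiv

open Subgroup
open scoped commutatorElement

universe u v

variable {X : Type u} [Group X] {A Y W : Subgroup X}

/-- The centre of a subgroup, inside the group. -/
def zc (W : Subgroup X) : Subgroup X := W ⊓ centralizer (W : Set X)

theorem mem_zc {x : X} : x ∈ zc W ↔ x ∈ W ∧ ∀ w ∈ W, w * x = x * w := Iff.rfl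

/-- The members attached to a test subgroup. -/
structure FMember (A Y W : Subgroup X) : Prop where
  le : W ≤ A
  norm : Y ≤ normalizer (W : Set X)
  comm : ∀ a ∈ W, ∀ b ∈ W, ⁅a, b⁆ ∈ zc W
  test : ∀ x ∈ Y, (∀ b ∈ W, ⁅x, ⁅x, b⁆⁆ ∈ zc W) → (∀ z ∈ zc W, ⁅x, ⁅x, z⁆⁆ = 1) → ∀ b ∈ W, ⁅x, b⁆ ∈ zc W

/-- The span of the members. -/
def phi (A Y : Subgroup X) : Subgroup X := sSup {W | FMember A Y W}

theorem phi_le : phi A Y ≤ A := sSup_le fun _ h => h.le

theorem phi_anti {Y' : Subgroup X} (h : Y' ≤ Y) : phi A Y ≤ phi A Y' :=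
  sSup_le_sSup fun _ hW => ⟨hW.le, h.trans hW.norm, hW.comm, fun x hx => hW.test x (h hx)⟩

/-- The least fixed point. -/
def kGroup (A : Subgroup X) : Subgroup X := sInf {Y | Y ≤ A ∧ phi A (phi A Y) ≤ Y}

theorem kGroup_le : kGroup A ≤ A := sInf_le ⟨le_rfl, phi_le⟩

theorem phi_kGroup_le : phi A (phi A (kGroup A)) ≤ kGroup A :=
  le_sInf fun _ hY => (phi_anti (phi_anti (sInf_le hY))).trans hY.2

theorem kGroup_le_phi : kGroup A ≤ phi A (phi A (kGroup A)) :=
  sInf_le ⟨phi_le, phi_anti (phi_anti phi_kGroup_le)⟩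

variable {X' : Type v} [Group X'] {f : X →* X'}

theorem map_mem_zc_iff (hf : Function.Injective f) {x : X} : f x ∈ zc (W.map f) ↔ x ∈ zc W := by
  constructor
  · rintro ⟨h1, h2⟩
    refine ⟨(mem_map_iff_mem hf).mp h1, fun w hw => hf ?_⟩
    rw [map_mul, map_mul]
    exact h2 (f w) (mem_map_of_mem f hw)
  · rintro ⟨h1, h2⟩
    refine ⟨mem_map_of_mem f h1, ?_⟩
    rintro _ ⟨w, hw, rfl⟩
    rw [← map_mul, h2 w hw, map_mul]

theorem fMember_map_iff (hf : Function.Injective f) : FMember (A.map f) (Y.map f) (W.map f) ↔ FMember A Y W := by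
  constructor
  · intro h
    refine ⟨(map_le_map_iff_of_injective hf).mp h.le, fun y hy => ?_, fun a ha b hb => ?_, fun x hx h1 h2 b hb => ?_⟩
    · refine mem_normalizer_iff.mpr fun w => ?_
      have := mem_normalizer_iff.mp (h.norm (mem_map_of_mem f hy)) (f w)
      simpa only [← map_inv, ← map_mul, mem_map_iff_mem hf] using this
    · rw [← map_mem_zc_iff hf, map_commutatorElement]
      exact h.comm _ (mem_map_of_mem f ha) _ (mem_map_of_mem f hb)
    · rw [← map_mem_zc_iff hf, map_commutatorElement]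
      refine h.test _ (mem_map_of_mem f hx) ?_ ?_ _ (mem_map_of_mem f hb)
      · rintro _ ⟨c, hc, rfl⟩
        rw [← map_commutatorElement, ← map_commutatorElement, map_mem_zc_iff hf]
        exact h1 c hc
      · rintro z hz
        obtain ⟨c, hc, rfl⟩ := hz.1
        rw [← map_commutatorElement, ← map_commutatorElement, h2 c ((map_mem_zc_iff hf).mp hz), map_one]
  · intro h
    refine ⟨map_mono h.le, ?_, ?_, ?_⟩
    · rintro _ ⟨y, hy, rfl⟩
      exact le_normalizer_map f ⟨y, h.norm hy, rfl⟩
    · rintro _ ⟨a, ha, rfl⟩ _ ⟨b, hb, rfl⟩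
      rw [← map_commutatorElement, map_mem_zc_iff hf]
      exact h.comm a ha b hb
    · rintro _ ⟨x, hx, rfl⟩ h1 h2 _ ⟨b, hb, rfl⟩
      rw [← map_commutatorElement, map_mem_zc_iff hf]
      refine h.test x hx (fun c hc => ?_) (fun z hz => hf ?_) b hb
      · rw [← map_mem_zc_iff hf, map_commutatorElement, map_commutatorElement]
        exact h1 _ (mem_map_of_mem f hc)
      · rw [map_commutatorElement, map_commutatorElement, h2 _ ((map_mem_zc_iff hf).mpr hz), map_one]

theorem phi_map (hf : Function.Injective f) : (phi A Y).map f = phi (A.map f) (Y.map f) := by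
  refine le_antisymm (map_le_iff_le_comap.mpr (sSup_le fun W hW => ?_)) (sSup_le fun W hW => ?_)
  · exact map_le_iff_le_comap.mp (le_sSup ((fMember_map_iff hf).mpr hW))
  · have e : (W.comap f).map f = W := map_comap_eq_self (hW.le.trans (map_le_range f A))
    rw [← e] at hW ⊢
    exact map_mono (le_sSup ((fMember_map_iff hf).mp hW))

theorem kGroup_map (hf : Function.Injective f) : (kGroup A).map f = kGroup (A.map f) := by
  refine le_antisymm ?_ (sInf_le ⟨map_mono kGroup_le, ?_⟩)
  · have e : ((kGroup (A.map f)).comap f).map f = kGroup (A.map f) :=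
      map_comap_eq_self (kGroup_le.trans (map_le_range f A))
    rw [← e]
    refine map_mono (sInf_le ⟨?_, ?_⟩)
    · rw [← map_le_map_iff_of_injective hf, e]; exact kGroup_le
    · rw [← map_le_map_iff_of_injective hf, phi_map hf, phi_map hf, e]; exact phi_kGroup_le
  · rw [← phi_map hf, ← phi_map hf]; exact map_mono phi_kGroup_le

theorem kGroup_top_characteristic : (kGroup (⊤ : Subgroup X)).Characteristic := by
  rw [characteristic_iff_map_eq]
  intro φ
  rw [kGroup_map (f := φ.toMonoidHom) φ.injective, map_top_of_surjective _ φ.surjective]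

theorem kGroup_top_map (P : Subgroup X) : (kGroup (⊤ : Subgroup P)).map P.subtype = kGroup P := by
  rw [kGroup_map P.subtype_injective, ← MonoidHom.range_eq_map, range_subtype]

theorem mem_normalizer_kGroup {g : X} (hg : g ∈ normalizer (A : Set X)) : g ∈ normalizer (kGroup A : Set X) := by
  have key : ∀ {g : X}, g ∈ normalizer (A : Set X) → ∀ x ∈ kGroup A, g * x * g⁻¹ ∈ kGroup A := by
    intro g hg x hx
    have e : A.map (MulAut.conj g).toMonoidHom = A := by
      ext y
      constructor
      · rintro ⟨z, hz, rfl⟩; exact (mem_normalizer_iff.mp hg z).mp hz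
      · intro hy
        exact ⟨g⁻¹ * y * g⁻¹⁻¹, (mem_normalizer_iff.mp (inv_mem hg) y).mp hy, by simp [mul_assoc]⟩
    have := mem_map_of_mem (MulAut.conj g).toMonoidHom hx
    rw [kGroup_map (MulAut.conj g).injective, e] at this
    exact this
  exact mem_normalizer_iff.mpr fun x => ⟨key hg x, fun h => by simpa [mul_assoc] using key (inv_mem hg) _ h⟩

end CfsgLib.QuadEquiv
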