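import Cfsg.Agent.Lib.QuadEquiv.Chief
import Cfsg.Agent.Lib.QuadEquiv.Functor

/-!
The members for test groups above a critical subgroup lie in `O_p(G)`, so the two least fixed points agree.
-/

set_option autoImplicit false
set_option linter.unusedSectionVars false

namespace CfsgLib.QuadEquiv

open Subgroup
open scoped commutatorElement

universe u

variable {X : Type u} [Group X] [Finite X] {p : ℕ} [Fact p.Prime] {G R Q P : Subgroup X}

/-- The data of a critical subgroup of the core. -/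
structure CritData (p : ℕ) (G R Q C0 : Subgroup X) : Prop where
  le : C0 ≤ Q
  inv : GRInv G R C0
  comm : ∀ q ∈ Q, ∀ c ∈ C0, ⁅q, c⁆ ∈ zc C0
  det : ∀ g ∈ G, (orderOf g).Coprime p → (∀ c ∈ C0, ⁅g, c⁆ = 1) → g ∈ centralizer (G : Set X)

theorem crit_member (S : Setup p G R Q P) (hp : 5 ≤ p) {C0 : Subgroup X} (C : CritData p G R Q C0) {Y : Subgroup X}
    (hY : Y ≤ P) : FMember P Y C0 := by
  refine ⟨C.le.trans S.hQP, (hY.trans S.hPG).trans C.inv.le_G, fun a ha b hb => C.comm a (C.le ha) b hb,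
    fun x hx h1 h2 b hb => ?_⟩
  have hzi : GRInv G R (zc C0) := C.inv.inf C.inv.centralizer
  have hzC : zc C0 ≤ C0 := inf_le_left
  have t1 : Triv p G R ⊥ (zc C0) x := S.triv hp GRInv.bot (hY hx) _ rfl hzi bot_le (hzC.trans C.le)
    fun v hv => by rw [h2 v hv]; exact one_mem _
  have t2 : Triv p G R (zc C0) C0 x := S.triv hp hzi (hY hx) _ rfl C.inv hzC C.le h1
  exact C.comm x (S.mem_core C.det (hY hx) (Triv.combine (S.hQp.to_le (hzC.trans C.le)) t1 t2)) b hb

theorem commutator_left_mul {a m b : X} (h1 : m * b = b * m) : ⁅a * m, b⁆ = ⁅a, b⁆ := by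
  simp only [commutatorElement_def, mul_inv_rev]
  calc a * m * b * (m⁻¹ * a⁻¹) * b⁻¹ = a * (m * b) * (m⁻¹ * a⁻¹) * b⁻¹ := by group
    _ = a * b * a⁻¹ * b⁻¹ := by rw [h1]; group

theorem commutator_right_mul {a m b : X} (h1 : m * a = a * m) : ⁅a, b * m⁆ = ⁅a, b⁆ := by
  rw [← inv_inj, commutatorElement_inv, commutatorElement_inv, commutator_left_mul h1]

/-- The members for test groups above the critical subgroup lie in the core. -/
theorem member_le_core (S : Setup p G R Q P) (hp : 5 ≤ p) {C0 : Subgroup X} (C : CritData p G R Q C0)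
    {Y W : Subgroup X} (hY : Y ≤ P) (hC0Y : C0 ≤ Y) (hW : FMember P Y W) : W ≤ Q := by
  classical
  set Γ := G ⊔ R with hΓ
  have hzW : ∀ z ∈ zc W, z ∈ Q := by
    intro z hz
    refine S.mem_core C.det (hW.le hz.1) (S.triv hp GRInv.bot (hW.le hz.1) _ rfl C.inv bot_le C.le fun c hc => ?_)
    have hcW := hW.norm (hC0Y hc)
    have h1 : c * z⁻¹ * c⁻¹ ∈ zc W := by
      refine mem_zc.mpr ⟨(mem_normalizer_iff.mp hcW _).mp (inv_mem hz.1), fun w hw => ?_⟩
      have h3 := (mem_zc.mp (inv_mem hz)).2 _ ((mem_normalizer_iff.mp (inv_mem hcW) w).mp hw)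
      calc w * (c * z⁻¹ * c⁻¹) = c * ((c⁻¹ * w * c⁻¹⁻¹) * z⁻¹) * c⁻¹ := by group
        _ = c * (z⁻¹ * (c⁻¹ * w * c⁻¹⁻¹)) * c⁻¹ := by rw [h3]
        _ = c * z⁻¹ * c⁻¹ * w := by group
    have h4 : ⁅z, c⁆ ∈ zc W := by
      rw [show ⁅z, c⁆ = z * (c * z⁻¹ * c⁻¹) by simp only [commutatorElement_def]; group]
      exact mul_mem hz h1
    rw [mem_bot, commutatorElement_eq_one_iff_mul_comm]
    exact (mem_zc.mp h4).2 z hz.1
  suffices h : ∀ (n : ℕ) (U : Subgroup X), Nat.card U = n → GRInv G R U → U ≤ C0 → ∀ w ∈ W, Triv p G R ⊥ U w from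
    fun w hw => S.mem_core C.det (hW.le hw) (h _ C0 rfl C.inv le_rfl w hw)
  intro n
  induction n using Nat.strong_induction_on with
  | _ n ih =>
    intro U hn hUi hUC w0 hw0
    have hUQ : U ≤ Q := hUC.trans C.le
    by_cases hU0 : U = ⊥
    · refine S.triv hp GRInv.bot (hW.le hw0) _ rfl hUi bot_le hUQ fun v hv => ?_
      rw [hU0, mem_bot] at hv
      rw [hv, commutatorElement_one_right, commutatorElement_one_right]
      exact one_mem _
    have hlt' : ∀ {L : Subgroup X}, L < U → Nat.card L < n := fun {L} h => by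
      rw [← hn]
      by_contra hc
      exact h.ne (Subgroup.eq_of_le_of_card_ge h.le (not_lt.mp hc))
    obtain ⟨M, ⟨hMi, hMU⟩, hMmax⟩ := (Set.toFinite {L : Subgroup X | GRInv G R L ∧ L < U}).exists_maximal
      ⟨⊥, GRInv.bot, bot_lt_iff_ne_bot.mpr hU0⟩
    have hMp : IsPGroup p M := S.hQp.to_le (hMU.le.trans hUQ)
    -- a common normal subgroup for `M`
    have hGb : Good p G R ⊥ M ⊥ := ⟨bot_le, GRInv.bot, fun g hg => ⟨0, by
      rw [mem_bot.mp hg, one_pow]; exact one_mem _⟩⟩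
    obtain ⟨H, hH, hHmax⟩ := (Set.toFinite {N : Subgroup X | Good p G R ⊥ M N}).exists_maximal ⟨⊥, hGb⟩
    have hWH : W ≤ H := fun w hw => by
      obtain ⟨N, hN, hwN⟩ := ih _ (hlt' hMU) M rfl hMi (hMU.le.trans hUC) w hw
      exact hHmax (Good.sup GRInv.bot hMi hH hN) le_sup_left (mem_sup_right hwN)
    set K0 := H ⊓ centralizer (M : Set X) with hK0
    have hK0i : GRInv G R K0 := hH.inv.inf hMi.centralizer
    have hq : ∀ h ∈ H, ∃ k : ℕ, h ^ (p ^ k) ∈ K0 := fun h hh => by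
      obtain ⟨k, hk⟩ := hH.pow h hh
      exact ⟨k, pow_mem hh _, mem_centralizer_iff.mpr fun m hm =>
        (commutatorElement_eq_one_iff_mul_comm.mp (mem_bot.mp (hk.2.2 m hm))).symm⟩
    have hUG : U ≤ G := hUQ.trans S.hQG
    have hU2le : ⁅U, K0⁆ ≤ U := commutator_le.mpr fun u hu k hk => by
      rw [show ⁅u, k⁆ = u * (k * u⁻¹ * k⁻¹) by simp only [commutatorElement_def]; group]
      exact mul_mem hu ((mem_normalizer_iff.mp (hUi.le_G (hH.le hk.1)) _).mp (inv_mem hu))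
    by_cases hU2 : ⁅U, K0⁆ = U
    swap
    · have hlt : ⁅U, K0⁆ < U := lt_of_le_of_ne hU2le hU2
      have h2i : GRInv G R ⁅U, K0⁆ := hUi.commutator hK0i
      refine Triv.combine (S.hQp.to_le (hlt.le.trans hUQ)) (ih _ (hlt' hlt) _ rfl h2i (hlt.le.trans hUC) w0 hw0)
        ⟨H, ⟨hH.le, hH.inv, fun g hg => ?_⟩, hWH hw0⟩
      obtain ⟨k, hk⟩ := hq g hg
      refine ⟨k, h2i.le_G (hH.le hk.1), hUi.le_G (hH.le hk.1), fun v hv => ?_⟩
      rw [← commutatorElement_inv]
      exact inv_mem (commutator_mem_commutator hv hk)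
    -- `M` is central in `U`
    have hMc : ∀ m ∈ M, ∀ u ∈ U, m * u = u * m := by
      intro m hm u hu
      have hle : U ≤ centralizer ({m} : Set X) := by
        rw [← hU2]
        refine commutator_le.mpr fun v hv k hk => mem_centralizer_singleton_iff.mpr ?_
        have hfix : ∀ m' ∈ M, k * m' = m' * k := fun m' hm' => (mem_centralizer_iff.mp hk.2 m' hm').symm
        have hm2 : v⁻¹ * m * v ∈ M := by
          simpa [mul_assoc] using (mem_normalizer_iff.mp (inv_mem (hMi.le_G (hUG hv))) m).mp hm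
        have hm3 := hfix _ hm2
        have hm4 := hfix _ hm
        simp only [commutatorElement_def]
        calc v * k * v⁻¹ * k⁻¹ * m = v * k * v⁻¹ * (k⁻¹ * (m * k)) * k⁻¹ := by group
          _ = v * k * v⁻¹ * (k⁻¹ * (k * m)) * k⁻¹ := by rw [hm4]
          _ = v * (k * (v⁻¹ * m * v)) * v⁻¹ * k⁻¹ := by group
          _ = v * (v⁻¹ * m * v * k) * v⁻¹ * k⁻¹ := by rw [hm3]
          _ = m * (v * k * v⁻¹ * k⁻¹) := by group
      exact (mem_centralizer_singleton_iff.mp (hle hu)).symm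
    -- the section as a module
    have hUΓ : U ≤ Γ := hUG.trans le_sup_left
    haveI : (M.subgroupOf Γ).Normal := (normal_subgroupOf_iff_le_normalizer (hMU.le.trans hUΓ)).mpr hMi
    haveI : (U.subgroupOf Γ).Normal := (normal_subgroupOf_iff_le_normalizer hUΓ).mpr hUi
    haveI : (H.subgroupOf Γ).Normal := (normal_subgroupOf_iff_le_normalizer (hH.le.trans le_sup_left)).mpr hH.inv
    set U' := U.subgroupOf Γ with hU'
    set M' := M.subgroupOf Γ with hM'
    have hMU' : M' ≤ U' := fun g hg => hMU.le hg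
    have hne' : M' ≠ U' := fun e => hMU.ne (by
      have := congrArg (Subgroup.map Γ.subtype) e
      rwa [hM', hU', map_subgroupOf_eq_of_le (hMU.le.trans hUΓ), map_subgroupOf_eq_of_le hUΓ] at this)
    have hminX : ∀ L, GRInv G R L → M ≤ L → L ≤ U → L = M ∨ L = U := fun L hL hML hLU => by
      by_cases hLe : L = U
      · exact Or.inr hLe
      · exact Or.inl (le_antisymm (hMmax ⟨hL, lt_of_le_of_ne hLU hLe⟩ hML) hML)
    have hmin' : ∀ L : Subgroup Γ, L.Normal → M' ≤ L → L ≤ U' → L = M' ∨ L = U' := by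
      intro L hL hML hLU
      have hLinv : GRInv G R (L.map Γ.subtype) := fun g hg =>
        le_normalizer_map Γ.subtype ⟨⟨g, hg⟩, by rw [normalizer_eq_top]; trivial, rfl⟩
      have e1 := map_mono (f := Γ.subtype) hML
      have e2 := map_mono (f := Γ.subtype) hLU
      rw [hM', map_subgroupOf_eq_of_le (hMU.le.trans hUΓ)] at e1
      rw [hU', map_subgroupOf_eq_of_le hUΓ] at e2
      rcases hminX _ hLinv e1 e2 with h | h
      · exact Or.inl (map_injective Γ.subtype_injective (by rw [h, hM', map_subgroupOf_eq_of_le (hMU.le.trans hUΓ)]))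
      · exact Or.inr (map_injective Γ.subtype_injective (by rw [h, hU', map_subgroupOf_eq_of_le hUΓ]))
    obtain ⟨hcm, hpm⟩ := sec_elementary U' M' hMU' hne'
      ((S.hQp.to_le hUQ).comap_of_injective Γ.subtype Γ.subtype_injective) hmin'
    letI : CommGroup (U' ⧸ M'.subgroupOf U') :=
      { (inferInstance : Group (U' ⧸ M'.subgroupOf U')) with
        mul_comm := fun a b => by
          obtain ⟨a, rfl⟩ := QuotientGroup.mk_surjective a
          obtain ⟨b, rfl⟩ := QuotientGroup.mk_surjective b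
          rw [← commutatorElement_eq_one_iff_mul_comm]
          refine (map_commutatorElement (QuotientGroup.mk' (M'.subgroupOf U')) a b).symm.trans ?_
          exact (QuotientGroup.eq_one_iff _).mpr (hcm a a.2 b b.2) }
    have he : ∀ a : U' ⧸ M'.subgroupOf U', a ^ p = 1 := fun a => by
      obtain ⟨a, rfl⟩ := QuotientGroup.mk_surjective a
      exact (QuotientGroup.eq_one_iff _).mpr (hpm a a.2)
    haveI : Nontrivial (U' ⧸ M'.subgroupOf U') := QuotientGroup.nontrivial_iff.mpr fun e =>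
      hne' (le_antisymm hMU' (Subgroup.subgroupOf_eq_top.mp e))
    have hcM : ∀ a ∈ U, ∀ b ∈ U, ⁅a, b⁆ ∈ M := fun a ha b hb => hcm ⟨a, hUΓ ha⟩ ha ⟨b, hUΓ hb⟩ hb
    have hexp : ∀ a ∈ U, ∀ b ∈ U, ⁅a, b⁆ ^ p = 1 := by
      intro a ha b hb
      have hk : ∀ k : ℕ, ⁅a ^ k, b⁆ = ⁅a, b⁆ ^ k := by
        intro k
        induction k with
        | zero => simp
        | succ k ihk =>
          have h2 := hMc _ (hcM a ha b hb) _ (pow_mem ha k)
          have e : ⁅a ^ (k + 1), b⁆ = a ^ k * ⁅a, b⁆ * (a ^ k)⁻¹ * ⁅a ^ k, b⁆ := by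
            rw [pow_succ]; simp only [commutatorElement_def]; group
          rw [e, ← h2, mul_inv_cancel_right, ihk, ← pow_succ']
      rw [← hk, commutatorElement_eq_one_iff_mul_comm]
      exact hMc _ (hpm ⟨a, hUΓ ha⟩ ha) b hb
    let Z : Subgroup X :=
      { carrier := {z | z ∈ M ∧ z ^ p = 1}
        one_mem' := ⟨one_mem _, one_pow _⟩
        mul_mem' := fun {a b} ha hb => ⟨mul_mem ha.1 hb.1, by
          rw [(show Commute a b from hMc a ha.1 b (hMU.le hb.1)).mul_pow, ha.2, hb.2, one_mul]⟩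
        inv_mem' := fun {a} ha => ⟨inv_mem ha.1, by rw [inv_pow, ha.2, inv_one]⟩ }
    letI : CommGroup Z :=
      { (inferInstance : Group Z) with
        mul_comm := fun a b => Subtype.ext (hMc a.1 a.2.1 b.1 (hMU.le b.2.1)) }
    let F : U' ⧸ M'.subgroupOf U' → U' ⧸ M'.subgroupOf U' → Z := fun a b =>
      ⟨⁅((a.out : Γ) : X), ((b.out : Γ) : X)⁆, hcM _ a.out.2 _ b.out.2, hexp _ a.out.2 _ b.out.2⟩
    have hF : ∀ a b : U', ((F (QuotientGroup.mk a) (QuotientGroup.mk b) : Z) : X) =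
        ⁅((a : Γ) : X), ((b : Γ) : X)⁆ := by
      intro a b
      obtain ⟨m, hm⟩ := QuotientGroup.mk_out_eq_mul (M'.subgroupOf U') a
      obtain ⟨m', hm'⟩ := QuotientGroup.mk_out_eq_mul (M'.subgroupOf U') b
      show ⁅_, _⁆ = _
      rw [hm, hm']
      simp only [Subgroup.coe_mul]
      exact (commutator_left_mul (hMc _ m.2 _ (mul_mem b.2 (hMU.le m'.2)))).trans
        (commutator_right_mul (hMc _ m'.2 _ a.2))
    have hbil1 : ∀ s ∈ U, ∀ t ∈ U, ∀ r ∈ U, ⁅s * t, r⁆ = ⁅s, r⁆ * ⁅t, r⁆ := fun s hs t ht r hr => by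
      have e : ⁅s * t, r⁆ = s * ⁅t, r⁆ * s⁻¹ * ⁅s, r⁆ := by simp only [commutatorElement_def]; group
      have h2 := hMc _ (hcM t ht r hr) s hs
      have h3 := hMc _ (hcM t ht r hr) _ (hMU.le (hcM s hs r hr))
      rw [e, ← h2, mul_inv_cancel_right, h3]
    have hbil2 : ∀ r ∈ U, ∀ s ∈ U, ∀ t ∈ U, ⁅r, s * t⁆ = ⁅r, s⁆ * ⁅r, t⁆ := fun r hr s hs t ht => by
      have e : ⁅r, s * t⁆ = ⁅r, s⁆ * (s * ⁅r, t⁆ * s⁻¹) := by simp only [commutatorElement_def]; group
      have h2 := hMc _ (hcM r hr t ht) s hs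
      rw [e, ← h2, mul_inv_cancel_right]
    have hqH : ∀ h ∈ H.subgroupOf Γ, ∃ k : ℕ, h ^ (p ^ k) ∈ K0.subgroupOf Γ := fun h hh => hq (h : X) hh
    have hyW : ∀ u ∈ U, ∀ w ∈ W, ⁅w, u⁆ ∈ W := fun u hu w hw => by
      rw [show ⁅w, u⁆ = w * (u * w⁻¹ * u⁻¹) by simp only [commutatorElement_def]; group]
      exact mul_mem hw ((mem_normalizer_iff.mp (hW.norm (hC0Y (hUC hu))) _).mp (inv_mem hw))
    have hfix : ∀ w ∈ W, ∀ a ∈ U, ∀ b ∈ U, w * ⁅a, b⁆ * w⁻¹ = ⁅a, b⁆ := by
      intro w hw a ha b hb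
      have hwG : w ∈ G := hH.le (hWH hw)
      have key := form_fixed_action hp (H.subgroupOf Γ) (K0.subgroupOf Γ) (fun g hg => hg.1)
        (fun g hg => mem_normalizer_iff.mpr fun y => mem_normalizer_iff.mp (hK0i.le_G (hH.le hg)) (y : X)) hqH he
        (secConj U' M') (secConj_min U' M' hMU' hmin') (Z := Z) (fun z => Subtype.ext z.2.2) F
        (fun x x' y => by
          obtain ⟨x, rfl⟩ := QuotientGroup.mk_surjective x
          obtain ⟨x', rfl⟩ := QuotientGroup.mk_surjective x'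
          obtain ⟨y, rfl⟩ := QuotientGroup.mk_surjective y
          refine Subtype.ext ?_
          rw [← QuotientGroup.mk_mul, Subgroup.coe_mul, hF, hF, hF]
          simp only [Subgroup.coe_mul]
          exact hbil1 _ x.2 _ x'.2 _ y.2)
        (fun x y y' => by
          obtain ⟨x, rfl⟩ := QuotientGroup.mk_surjective x
          obtain ⟨y, rfl⟩ := QuotientGroup.mk_surjective y
          obtain ⟨y', rfl⟩ := QuotientGroup.mk_surjective y'
          refine Subtype.ext ?_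
          rw [← QuotientGroup.mk_mul, Subgroup.coe_mul, hF, hF, hF]
          simp only [Subgroup.coe_mul]
          exact hbil2 _ x.2 _ y.2 _ y'.2)
        (fun k hk x y => by
          obtain ⟨x, rfl⟩ := QuotientGroup.mk_surjective x
          obtain ⟨y, rfl⟩ := QuotientGroup.mk_surjective y
          refine Subtype.ext ?_
          rw [secConj_mk, secConj_mk, hF, hF]
          simp only [MulAut.conjNormal_apply, Subgroup.coe_mul, Subgroup.coe_inv]
          rw [← conjugate_commutatorElement]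
          exact mul_inv_eq_iff_eq_mul.mpr (mem_centralizer_iff.mp hk.2 _ (hcM _ x.2 _ y.2)).symm)
        (a := ⟨w, mem_sup_left hwG⟩) (hWH hw) (fun v => by
          obtain ⟨v, rfl⟩ := QuotientGroup.mk_surjective v
          rw [secConj_div, secConj_div, secConj_fixed_iff]
          show ⁅w, ⁅w, ⁅w, ((v : Γ) : X)⁆⁆⁆ ∈ M
          have h5 : ⁅w, ⁅w, ((v : Γ) : X)⁆⁆ ∈ zc W := hW.comm w hw _ (hyW _ v.2 w hw)
          rw [commutatorElement_eq_one_iff_mul_comm.mpr ((mem_zc.mp h5).2 w hw)]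
          exact one_mem _)
        (QuotientGroup.mk ⟨⟨a, hUΓ ha⟩, ha⟩) (QuotientGroup.mk ⟨⟨b, hUΓ hb⟩, hb⟩)
      have e := congrArg Subtype.val key
      rw [secConj_mk, secConj_mk, hF, hF] at e
      simp only [MulAut.conjNormal_apply, Subgroup.coe_mul, Subgroup.coe_inv] at e
      rwa [← conjugate_commutatorElement] at e
    have hUW : ∀ u ∈ U, ∀ b ∈ W, ⁅u, b⁆ ∈ zc W := by
      intro u hu
      have hbU : ∀ b ∈ W, ⁅u, b⁆ ∈ U := fun b hb => by
        rw [show ⁅u, b⁆ = u * (b * u⁻¹ * b⁻¹) by simp only [commutatorElement_def]; group]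
        exact mul_mem hu ((mem_normalizer_iff.mp (hUi.le_G (hH.le (hWH hb))) _).mp (inv_mem hu))
      refine hW.test u (hC0Y (hUC hu)) (fun b hb => ?_) fun z hz => ?_
      · have hc : ⁅u, b⁆ ∈ W := by rw [← commutatorElement_inv]; exact inv_mem (hyW u hu b hb)
        refine mem_zc.mpr ⟨by rw [← commutatorElement_inv]; exact inv_mem (hyW u hu _ hc), fun w hw => ?_⟩
        exact mul_inv_eq_iff_eq_mul.mp (hfix w hw u hu _ (hbU b hb))
      · rw [commutatorElement_eq_one_iff_mul_comm]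
        have h1 : ⁅u, z⁆ ∈ zc C0 := by
          rw [← commutatorElement_inv]; exact inv_mem (C.comm z (hzW z hz) u (hUC hu))
        exact (mem_zc.mp h1).2 u (hUC hu)
    have hk : ∀ v ∈ U, ⁅w0, v⁆ ∈ M := by
      refine S.chief hp hMi hUi hMU.le hMU.ne hUQ hminX (hW.le hw0) fun v hv => ?_
      have h1 : ⁅w0, v⁆ ∈ zc W := by rw [← commutatorElement_inv]; exact inv_mem (hUW v hv w0 hw0)
      rw [commutatorElement_eq_one_iff_mul_comm.mpr ((mem_zc.mp h1).2 w0 hw0)]
      exact one_mem _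
    refine ⟨_, Good.combine (W := M) hMp hH
      ⟨inf_le_left, (GRInv.self S.hRG).inf (secKer_normalizer hMi hUi), fun g hg => ⟨0, by simpa using hg.2⟩⟩,
      hWH hw0, S.hPG (hW.le hw0), hMi.le_G (S.hPG (hW.le hw0)), hUi.le_G (S.hPG (hW.le hw0)), hk⟩

/-- The two least fixed points agree and contain the critical subgroup. -/
theorem kGroup_eq (S : Setup p G R Q P) (hp : 5 ≤ p) {C0 : Subgroup X} (C : CritData p G R Q C0) :
    kGroup P = kGroup Q ∧ C0 ≤ kGroup Q := by
  have memQ : ∀ {Y : Subgroup X}, Y ≤ P → FMember Q Y C0 := fun hY =>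
    { crit_member S hp C hY with le := C.le }
  have heq : ∀ {Y : Subgroup X}, Y ≤ P → C0 ≤ Y → phi P Y = phi Q Y := fun {Y} hY hC =>
    le_antisymm (sSup_le_sSup fun W hW => ⟨member_le_core S hp C hY hC hW, hW.norm, hW.comm, hW.test⟩)
      (sSup_le_sSup fun W hW => ⟨hW.le.trans S.hQP, hW.norm, hW.comm, hW.test⟩)
  have cP : ∀ {Y : Subgroup X}, Y ≤ P → C0 ≤ phi P Y := fun hY => le_sSup (crit_member S hp C hY)
  have cQ : ∀ {Y : Subgroup X}, Y ≤ P → C0 ≤ phi Q Y := fun hY => le_sSup (memQ hY)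
  have hQP' : ∀ {Y : Subgroup X}, phi Q Y ≤ P := fun {Y} => phi_le.trans S.hQP
  have hcK : C0 ≤ kGroup Q := (cQ hQP').trans phi_kGroup_le
  refine ⟨le_antisymm (sInf_le ⟨kGroup_le.trans S.hQP, ?_⟩) (sInf_le ⟨?_, ?_⟩), hcK⟩
  · rw [heq (kGroup_le.trans S.hQP) hcK, heq hQP' (cQ (kGroup_le.trans S.hQP))]
    exact phi_kGroup_le
  · refine kGroup_le_phi.trans ?_
    rw [heq phi_le (cP kGroup_le)]
    exact phi_le
  · have hc : C0 ≤ kGroup P := (cP phi_le).trans phi_kGroup_le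
    rw [← heq kGroup_le hc, ← heq phi_le (cP kGroup_le)]
    exact phi_kGroup_le

end CfsgLib.QuadEquiv
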