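import Cfsg.Agent.Lib.QuadEquiv.Basic

/-!
The stabiliser of a line of a minimal member has index prime to `p` in a group generated by its members.
-/

set_option autoImplicit false
set_option linter.unusedSectionVars false

namespace CfsgLib.QuadEquiv

open CfsgLib.QP CfsgLib.QuadFixed
open scoped Pointwise

universe u

variable {p : ℕ} [Fact p.Prime] {M : Type u} [AddCommGroup M] [Module (ZMod p) M] [FiniteDimensional (ZMod p) M]

local notation "GL'" => LinearMap.GeneralLinearGroup (ZMod p) M
local notation "E'" => Module.End (ZMod p) M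

variable {G : Subgroup (LinearMap.GeneralLinearGroup (ZMod p) M)} {x r : Module.End (ZMod p) M}

/-- The linear group elements mapping each invariant subspace of `G` into itself. -/
theorem mem_inv_of_mem {z : E'} (hz : InG G (1 + z)) {V : Submodule (ZMod p) M} (hV : QP.Inv G V) :
    ∀ v ∈ V, z v ∈ V := fun v hv => by
  obtain ⟨g, hg, e⟩ := hz
  have := V.sub_mem (hV g hg v hv) hv
  rwa [e, LinearMap.add_apply, Module.End.one_apply, add_sub_cancel_left] at this

/-- The weight parts in a frame. -/
def w0 (x r y : E') : E' := x * r * y * (x * r) + cc x r * y * cc x r + r * x * y * (r * x)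

/-- The top part in a frame. -/
def w2 (x r y : E') : E' := x * r * y * (r * x)

theorem weights (F : Frame G x r) {y : E'} (hxy : x * y = y * x) :
    y = w0 x r y + hom1 x r y + w2 x r y ∧ ∀ a : (ZMod p)ˣ,
      conjE (sl2 F (torus a)) y = w0 x r y + (a : ZMod p) • hom1 x r y + ((a : ZMod p) * a) • w2 x r y := by
  obtain ⟨hx, hr, hxrx, hrxr⟩ := frame_rules F
  obtain ⟨c1, c2, c3, c4, c5⟩ := F.cc_mul
  set P := x * r with hP
  set Q := r * x with hQ
  set C := cc x r with hC
  have z1 : Q * y * P = 0 := by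
    rw [hQ, hP, mul_assoc r x y, hxy, mul_assoc r, mul_assoc y x, ← mul_assoc x x, hx, zero_mul, mul_zero, mul_zero]
  have z2 : C * y * P = 0 := by
    rw [hP, ← mul_assoc, mul_assoc C y x, ← hxy, ← mul_assoc, c1, zero_mul, zero_mul]
  have z3 : Q * y * C = 0 := by
    rw [hQ, mul_assoc r x y, hxy, ← mul_assoc, mul_assoc _ x C, c2, mul_zero]
  have hone : (1 : E') = C + P + Q := by rw [hC, cc, hP, hQ]; abel
  refine ⟨?_, fun a => ?_⟩
  · conv_lhs => rw [← one_mul y, ← mul_one (1 * y), hone]
    simp only [w0, hom1, w2, ← hP, ← hQ, ← hC, add_mul, mul_add, z1, z2, z3, add_zero, zero_add]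
    abel
  · have hli : ((a : (ZMod p)ˣ) : ZMod p) * ((a⁻¹ : (ZMod p)ˣ) : ZMod p) = 1 := by
      rw [← Units.val_mul, mul_inv_cancel, Units.val_one]
    rw [conjE, ← map_inv, ← map_inv, torus_val, torus_val, inv_inv]
    simp only [w0, hom1, w2, ← hP, ← hQ, ← hC, add_mul, mul_add, smul_mul_assoc, mul_smul_comm, smul_add, smul_smul, z1, z2, z3,
      smul_zero, add_zero, zero_add, hli, mul_comm ((a⁻¹ : (ZMod p)ˣ) : ZMod p), one_smul]
    abel

/-- An additive map vanishing on three combinations vanishes on the parts. -/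
theorem three_combos {N : Type*} [AddCommGroup N] [Module (ZMod p) N] (hp : 5 ≤ p) {l : ZMod p} (hl : l * l ≠ 1)
    {d0 d1 d2 : N} (h1 : d0 + d1 + d2 = 0) (hm : d0 - d1 + d2 = 0) (hll : d0 + l • d1 + (l * l) • d2 = 0) :
    d0 = 0 ∧ d1 = 0 ∧ d2 = 0 := by
  have h2 : (2 : ZMod p) ≠ 0 := two_ne (ringChar_ne_two hp)
  have e1 : (2 : ZMod p) • d1 = 0 := by linear_combination (norm := module) h1 - hm
  have e1' : d1 = 0 := (smul_eq_zero.mp e1).resolve_left h2
  rw [e1', smul_zero, add_zero] at hll
  rw [e1', add_zero] at h1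
  have e2 : (l * l - 1) • d2 = 0 := by linear_combination (norm := module) hll - h1
  have e2' : d2 = 0 := (smul_eq_zero.mp e2).resolve_left (sub_ne_zero.mpr hl)
  rw [e2', add_zero] at h1
  exact ⟨h1, e1', e2'⟩

/-- A member on the conjugate lines that is fixed by the unipotent group lies on the line. -/
theorem same_of_fixed (hp : 5 ≤ p) (hG : Semi G)
    (hgen : G ≤ Subgroup.closure {g : GL' | g ∈ G ∧ Min G ((g : E') - 1)}) (F : Frame G x r) {y : E'}
    (hy : Min G y) (hc : Conn G x y) (hfix : ∀ u ∈ unipGroup G x r, conjE u y = y) : Same x y := by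
  have hk2 := ringChar_ne_two hp
  have hk3 := card_ne_three hp
  have h2 : (2 : ZMod p) ≠ 0 := two_ne hk2
  obtain ⟨hx, hr, hxrx, hrxr⟩ := frame_rules F
  obtain ⟨c1, c2, c3, c4, c5⟩ := F.cc_mul
  have commX : ∀ {z : E'}, (∀ u ∈ unipGroup G x r, conjE u z = z) → x * z = z * x := fun {z} hz => by
    have := (conjE_eq_iff _ _ _).mp (hz _ (mk_mem_unipGroup_of_same F F.left.1 (Same.refl x)))
    simpa [mul_add, add_mul] using this
  have hxy : x * y = y * x := commX hfix
  obtain ⟨hsum, htor⟩ := weights F hxy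
  set y0 := w0 x r y with hy0def
  set y1 := hom1 x r y with hy1def
  set y2 := w2 x r y with hy2def
  -- the conjugates under the torus
  have tline : ∀ a : (ZMod p)ˣ, sl2 F (torus a) ∈ lineGroup G x := fun a => by
    refine ⟨sl2_mem F _, ?_⟩
    have e : conjE (sl2 F (torus a)) x = ((a : ZMod p) * a) • x := by
      rw [conjE, (x_mul_torus F a).2, smul_mul_assoc, ← map_inv, ← map_inv, (x_mul_torus F a⁻¹).1, inv_inv, smul_smul]
    have ha : ((a : ZMod p) * a) ≠ 0 := mul_ne_zero a.ne_zero a.ne_zero
    rw [e]; exact ⟨ker_smul_eq x ha, range_smul_eq x ha⟩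
  have hya : ∀ a : (ZMod p)ˣ, Min G (conjE (sl2 F (torus a)) y) ∧ Conn G x (conjE (sl2 F (torus a)) y) ∧
      ∀ u ∈ unipGroup G x r, conjE u (conjE (sl2 F (torus a)) y) = conjE (sl2 F (torus a)) y := fun a => by
    refine ⟨hy.conjE (sl2_mem F _), hc.trans (conn_conjE hp hG hgen (sl2_mem F _) hy), fun u hu => ?_⟩
    have := hfix _ (conj_mem_unipGroup F (inv_mem (tline a)) hu)
    rw [inv_inv, conjE_mulAction, conjE_mulAction] at this
    conv_rhs => rw [← this, ← conjE_mulAction, mul_inv_cancel, conjE_one]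
  obtain ⟨_, l, -, -, -, -, hl2⟩ := exists_scalar_primePower hp
  have hl : ((l : ZMod p) * l) ≠ 1 := fun e => hl2 (Units.ext (by simpa using e))
  have em : conjE (sl2 F (torus (-1))) y = y0 - y1 + y2 := by
    rw [htor, Units.val_neg, Units.val_one, neg_mul_neg, one_mul, neg_one_smul, one_smul]; abel
  -- fixed by whatever fixes the three conjugates
  have split : ∀ g : GL', conjE g y = y → conjE g (conjE (sl2 F (torus (-1))) y) = conjE (sl2 F (torus (-1))) y →
      conjE g (conjE (sl2 F (torus l)) y) = conjE (sl2 F (torus l)) y →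
      conjE g y0 = y0 ∧ conjE g y1 = y1 ∧ conjE g y2 = y2 := by
    intro g g1 g2 g3
    rw [hsum] at g1
    rw [em] at g2
    rw [htor] at g3
    simp only [conjE_add, conjE_sub, conjE_smul] at g1 g2 g3
    obtain ⟨a, b, c⟩ := three_combos hp hl (d0 := conjE g y0 - y0) (d1 := conjE g y1 - y1) (d2 := conjE g y2 - y2)
      (by linear_combination (norm := module) g1) (by linear_combination (norm := module) g2)
      (by linear_combination (norm := module) g3)
    exact ⟨sub_eq_zero.mp a, sub_eq_zero.mp b, sub_eq_zero.mp c⟩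
  have hUfix : ∀ u ∈ unipGroup G x r, conjE u y0 = y0 ∧ conjE u y1 = y1 ∧ conjE u y2 = y2 := fun u hu =>
    split u (hfix u hu) ((hya _).2.2 u hu) ((hya _).2.2 u hu)
  -- the middle part vanishes
  have hy00 : y0 = 0 := by
    have hxP : x * (x * r) = 0 := by rw [← mul_assoc, hx, zero_mul]
    have hQx : r * x * x = 0 := by rw [mul_assoc, hx, mul_zero]
    have hyx : x * y0 = y0 * x := commX fun u hu => (hUfix u hu).1
    have hyr : r * y0 = y0 * r := by
      have e1 : r * y0 = r * y * (x * r) := by
        simp only [hy0def, w0, mul_add, ← mul_assoc, hr, zero_mul, c4, hrxr, add_zero, zero_add]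
      have e2 : y0 * r = r * x * y * r := by
        simp only [hy0def, w0, add_mul, mul_assoc, hr, mul_zero, c3, hrxr, add_zero, zero_add]
      rw [e1, e2, mul_assoc r x y, hxy, ← mul_assoc, ← mul_assoc]
    set K0 := G ⊓ stabE y0 with hK0
    have hUK : unipGroup G x r ≤ K0 := fun u hu => ⟨hu.1, (hUfix u hu).1⟩
    have hwK : sl2 F wmat ∈ K0 := by
      refine ⟨sl2_mem F _, (conjE_eq_iff _ _ _).mpr ?_⟩
      have hcy : Commute y0 x := hyx.symm
      have hcr : Commute y0 r := hyr.symm
      rw [w_val, cc]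
      exact (((((Commute.one_right y0).sub_right (hcy.mul_right hcr)).sub_right (hcr.mul_right hcy)).add_right
        hcy).sub_right hcr).symm.eq
    let PP : E' → Prop := fun m => ∃ k ∈ K0, Same (conjE k x) m
    have hadj : ∀ {a b : E'}, Adj G a b → PP a → PP b := by
      intro a b hab
      obtain ⟨ha, hb, hab⟩ := hab
      rintro ⟨k, hk, hs⟩
      rcases hab with h | h
      · exact ⟨k, hk, hs.trans h⟩
      · have hb' := hb.conjE (inv_mem hk.1)
        have ha' := ha.conjE (inv_mem hk.1)
        have hn : ¬ IsNilpotent (x * conjE k⁻¹ b + conjE k⁻¹ b * x) := fun hn => h (by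
          have hsx : Same (conjE k⁻¹ a) x := by
            have := (hs.conjE k⁻¹).symm
            rwa [conjE_conjE] at this
          have h' := (nilpotent_iff_of_same hk2 hk3 F.left hb' ha' hb' hsx.symm (Same.refl _)).mp hn
          have := conjE_isNilpotent (g := k) h'
          rwa [conjE_add, ← conjE_mul, ← conjE_mul, ← conjE_mulAction, ← conjE_mulAction, mul_inv_cancel,
            conjE_one, conjE_one] at this)
        obtain ⟨n, hn', hs'⟩ := exists_unip_of_opp hp F hb' hn
        refine ⟨k * n * sl2 F wmat, mul_mem (mul_mem hk (hUK hn')) hwK, ?_⟩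
        rw [conjE_mulAction, conjE_mulAction, conj_w_self]
        have hs'' : Same (conjE n (-r)) (conjE k⁻¹ b) := by
          refine Same.trans ?_ hs'
          rw [conjE_neg]
          exact ⟨by ext v; simp, by rw [LinearMap.range_neg]⟩
        have := hs''.conjE k
        rwa [← conjE_mulAction k k⁻¹, mul_inv_cancel, conjE_one] at this
    have hconn : ∀ {a b : E'}, Conn G a b → (PP a ↔ PP b) := by
      intro a b hab
      induction hab with
      | rel a b h =>
        refine ⟨hadj h, hadj ⟨h.2.1, h.1, h.2.2.imp Same.symm fun h' => by rwa [add_comm]⟩⟩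
      | refl => exact Iff.rfl
      | symm _ _ _ ih => exact ih.symm
      | trans _ _ _ _ _ i1 i2 => exact i1.trans i2
    have hall : ∀ g ∈ G, conjE g y0 = y0 := by
      intro g hg
      have hle : Subgroup.closure {g : GL' | g ∈ G ∧ Min G ((g : E') - 1)} ≤ K0 := by
        refine (Subgroup.closure_le _).mpr ?_
        rintro g ⟨hgG, hm⟩
        set m := (g : E') - 1 with hmdef
        by_cases hxm : Conn G x m
        · obtain ⟨k, hk, hs⟩ := (hconn hxm).mp ⟨1, one_mem _, by rw [conjE_one]; exact Same.refl x⟩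
          have hz := hm.conjE (inv_mem hk.1)
          have hsx : Same x (conjE k⁻¹ m) := by
            have := hs.conjE k⁻¹
            rwa [conjE_conjE] at this
          have hmem := hUK (mk_mem_unipGroup_of_same F hz.1 hsx)
          have e : k⁻¹ * g * k = mk (conjE k⁻¹ m) hz.1.sq := by
            rw [← mk_conj k⁻¹ hm.1.sq hz.1.sq, inv_inv, ← eq_mk_of_sub_one g hm.1.sq]
          rw [← e] at hmem
          have := mul_mem (mul_mem hk hmem) (inv_mem hk)
          simpa [mul_assoc] using this
        · have key : ∀ {z : E'}, Min G z → Conn G x z → conjE g z = z := fun {z} hz hcz => by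
            have e := commute_of_not_conn hp hG hz hm fun h => hxm (hcz.trans h)
            refine (conjE_eq_iff _ _ _).mpr ?_
            have ge : (g : E') = 1 + m := by rw [hmdef]; abel
            rw [ge, add_mul, mul_add, one_mul, mul_one, e]
          exact ⟨hgG, (split g (key hy hc) (key (hya _).1 (hya _).2.1) (key (hya _).1 (hya _).2.1)).1⟩
      exact (hle (hgen hg)).2
    have hinv : ∀ V : Submodule (ZMod p) M, QP.Inv G V → ∀ v ∈ V, y0 v ∈ V := by
      intro V hV v hv
      have hpres : ∀ {z : E'}, Min G z → z v ∈ V := fun hz => mem_inv_of_mem hz.1.inG hV v hv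
      have q1 := hpres hy
      have q2 := hpres (hya (-1)).1
      have q3 := hpres (hya l).1
      rw [hsum] at q1
      rw [em] at q2
      rw [htor] at q3
      obtain ⟨a, -, -⟩ := three_combos (N := M ⧸ V) hp hl (d0 := V.mkQ (y0 v)) (d1 := V.mkQ (y1 v))
        (d2 := V.mkQ (y2 v))
        (by rw [← map_add, ← map_add]; exact (Submodule.Quotient.mk_eq_zero V).mpr q1)
        (by rw [← map_sub, ← map_add]; exact (Submodule.Quotient.mk_eq_zero V).mpr q2)
        (by
          rw [← LinearMap.map_smul V.mkQ, ← LinearMap.map_smul V.mkQ, ← map_add, ← map_add]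
          exact (Submodule.Quotient.mk_eq_zero V).mpr q3)
      exact (Submodule.Quotient.mk_eq_zero V).mp a
    have hsq : y0 * y0 = 0 := by
      have hQP : r * x * (x * r) = 0 := by rw [← mul_assoc, hQx, zero_mul]
      have e12 : y1 * y2 = 0 := by
        simp only [hy1def, hy2def, hom1, w2, add_mul, mul_assoc, asc2 hx, asc2 c1, mul_zero, zero_mul, add_zero]
      have e21 : y2 * y1 = 0 := by
        simp only [hy1def, hy2def, hom1, w2, mul_add, mul_assoc, asc2 hx, asc2 c2, mul_zero, zero_mul, add_zero]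
      have e22 : y2 * y2 = 0 := by
        simp only [hy2def, w2, mul_assoc, asc2 hx, mul_zero, zero_mul]
      have k1 := hy.1.sq
      have k2 := (hya (-1)).1.1.sq
      have k3 := (hya l).1.1.sq
      rw [hsum] at k1
      rw [em] at k2
      rw [htor] at k3
      simp only [add_mul, mul_add, sub_mul, mul_sub, smul_mul_assoc, mul_smul_comm, smul_add, e12, e21, e22, smul_zero,
        add_zero, sub_zero, smul_smul] at k1 k2 k3
      exact (three_combos hp hl (d0 := y0 * y0) (d1 := y0 * y1 + y1 * y0) (d2 := y1 * y1 + y0 * y2 + y2 * y0)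
        (by linear_combination (norm := module) k1) (by linear_combination (norm := module) k2)
        (by linear_combination (norm := module) k3)).1
    refine LinearMap.ker_eq_top.mp (top_le_iff.mp (hG ▸ sSup_le fun V hV => ?_))
    have hker : QP.Inv G (V ⊓ LinearMap.ker y0) := fun g hg v hv => ⟨hV.2.1 g hg v hv.1, by
      show y0 ((g : E') v) = 0
      rw [show y0 ((g : E') v) = (g : E') (y0 v) from (LinearMap.congr_fun ((conjE_eq_iff _ _ _).mp (hall g hg)) v).symm,
        LinearMap.mem_ker.mp hv.2, map_zero]⟩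
    have hne : V ⊓ LinearMap.ker y0 ≠ ⊥ := by
      obtain ⟨v, hv, hv0⟩ := (Submodule.ne_bot_iff V).mp hV.1
      refine (Submodule.ne_bot_iff _).mpr ?_
      by_cases h : y0 v = 0
      · exact ⟨v, ⟨hv, h⟩, hv0⟩
      · exact ⟨y0 v, ⟨hinv V hV.2.1 v hv, LinearMap.congr_fun hsq v⟩, h⟩
    exact (hV.2.2 _ inf_le_left hker hne) ▸ inf_le_right
  rw [hy00, zero_add] at hsum
  by_cases hy1 : y1 = 0
  · rw [hy1, zero_add] at hsum
    refine (same_of_le_frame F hy.1 (fun v hv => ?_) ?_).1
    · show y v = 0
      rw [hsum, hy2def, w2]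
      show (x * r * y) (r (x v)) = 0
      rw [LinearMap.mem_ker.mp hv, map_zero, map_zero]
    · rw [hsum, hy2def, w2, mul_assoc x r, mul_assoc x]
      exact LinearMap.range_comp_le_range _ _
  -- members not opposite to the line
  have key : ∀ {y' : E'}, Min G y' → (∀ u ∈ unipGroup G x r, conjE u y' = y') →
      ∀ {m : E'}, Min G m → IsNilpotent (x * m + m * x) → ¬ IsNilpotent (y' * m + m * y') →
      w0 x r y' = 0 → hom1 x r y' = 0 := by
    intro y' hy' hfix' m hm hxm hym h0
    have hxy' : x * y' = y' * x := commX hfix'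
    obtain ⟨t, Ft, hmt⟩ := exists_normalized hk2 hk3 hy' hm hym
    obtain ⟨t1, t2⟩ := deep_zero h2 F.left Ft.right
      ((nilpotent_iff_of_same hk2 hk3 F.left hm F.left Ft.right (Same.refl x) hmt).mp hxm)
    have hxt : x * t = t * x := by
      by_cases hg : x * t - t * x = 0
      · exact sub_eq_zero.mp hg
      have hgM : Mem G (x * t - t * x) := ⟨comm_sq hx Ft.right.1.sq t1 t2, hg, inG_comm F.left.1 Ft.right.1 t1 t2⟩
      have hgU : mk (x * t - t * x) hgM.sq ∈ unipGroup G x r := by
        rw [mem_unipGroup_iff F]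
        refine ⟨mk_mem hgM, ?_, ?_, fun v hv => ?_⟩
        · rw [mk_sub_one, mul_sub, ← mul_assoc, hx, zero_mul, zero_sub, ← mul_assoc, t1, neg_zero]
        · rw [mk_sub_one, sub_mul, t1, mul_assoc, hx, mul_zero, sub_zero]
        · rw [mk_sub_one]
          show x (t v) - t (x v) ∈ _
          rw [hv, map_zero, sub_zero]
          exact ⟨t v, rfl⟩
      have e := (conjE_eq_iff _ _ _).mp (hfix' _ hgU)
      rw [mk_val] at e
      simp only [mul_sub, sub_mul, add_mul, one_mul, mul_add, mul_one] at e
      have e' : y' * x * t - y' * t * x = x * t * y' - t * x * y' := by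
        simp only [← mul_assoc] at e
        linear_combination (norm := abel) -e
      have a1 := congrArg (fun z => t * z) e'
      have a2 := congrArg (fun z => z * t) e'
      simp only [mul_sub, sub_mul, ← mul_assoc, t2, Ft.rxr, zero_mul, zero_sub, Ft.right.1.sq] at a1
      simp only [sub_mul, mul_assoc, Ft.right.1.sq, mul_zero, zero_sub] at a2
      simp only [← mul_assoc] at a2
      have a1' : t * y' * x * t = t * x := by linear_combination (norm := abel) a1
      have e3 : x * t * y' * t = x * t := by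
        rw [mul_assoc (x * t) y' t, mul_assoc x t, ← mul_assoc t y' t, Ft.rxr]
      have a2' : t * x * y' * t = x * t := by
        rw [e3, mul_assoc (y' * t) x t] at a2
        have e4 : y' * t * (x * t) = y' * (t * x * t) := by simp only [mul_assoc]
        rw [e4, t2, mul_zero, neg_zero] at a2
        linear_combination (norm := abel) a2
      rw [← a2', mul_assoc t x y', hxy', ← mul_assoc, a1']
    -- the parts of `y'` sandwiching `t`
    have hA : x * r * y' * cc x r = x * r * (y' * t * y') * cc x r := by rw [Ft.xrx]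
    have hB : cc x r * y' * (r * x) = cc x r * (y' * t * y') * (r * x) := by rw [Ft.xrx]
    obtain ⟨hsum', -⟩ := weights F hxy'
    rw [h0, zero_add] at hsum'
    have z1 : r * x * t * (x * r) = 0 := by
      rw [mul_assoc r x t, mul_assoc r, ← mul_assoc (x * t) x r, t1, zero_mul, mul_zero]
    have z2 : cc x r * t * (x * r) = 0 := by
      rw [mul_assoc, ← mul_assoc t, ← hxt, ← mul_assoc, ← mul_assoc, c1, zero_mul, zero_mul]
    have z3 : r * x * t * cc x r = 0 := by
      rw [mul_assoc r x t, hxt, ← mul_assoc, mul_assoc _ x, c2, mul_zero]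
    have yC : y' * cc x r = x * r * y' * cc x r := by
      conv_lhs => rw [hsum']
      simp only [hom1, w2, add_mul, mul_assoc, c2, c5, mul_zero, add_zero]
    have Cy : cc x r * y' = cc x r * y' * (r * x) := by
      conv_lhs => rw [hsum']
      simp only [hom1, w2, mul_add, mul_assoc, asc2 c1, asc2 c5, zero_mul, mul_zero, add_zero, zero_add]
    have yy : y' = hom1 x r y' + w2 x r y' := hsum'
    have hA0 : x * r * y' * cc x r = 0 := by
      rw [hA, show x * r * (y' * t * y') * cc x r = x * r * y' * t * (y' * cc x r) by simp only [mul_assoc], yC]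
      have e : x * r * y' = x * r * y' * cc x r + x * r * y' * (r * x) := by
        conv_lhs => rw [yy]
        conv_rhs => rw [yy]
        simp only [hom1, w2, add_mul, mul_add, mul_assoc, asc2 hx, asc2 hr, c1, asc2 c1, c2, asc2 c2, c3, asc2 c3,
          c4, asc2 c4, asc2 c5, c5, hxrx, asc3 F.xrx, asc3 F.rxr, hrxr, mul_zero, zero_mul, add_zero, zero_add]
      calc x * r * y' * t * (x * r * y' * cc x r)
          = (x * r * y' * cc x r + x * r * y' * (r * x)) * t * (x * r * y' * cc x r) := by rw [← e]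
        _ = x * r * y' * (cc x r * t * (x * r)) * (y' * cc x r) +
              x * r * y' * (r * x * t * (x * r)) * (y' * cc x r) := by simp only [add_mul, mul_assoc]
        _ = 0 := by rw [z1, z2]; simp
    have hB0 : cc x r * y' * (r * x) = 0 := by
      rw [hB, show cc x r * (y' * t * y') * (r * x) = cc x r * y' * t * (y' * (r * x)) by simp only [mul_assoc], Cy]
      have e : y' * (r * x) = cc x r * y' * (r * x) + x * r * y' * (r * x) := by
        conv_lhs => rw [yy]
        conv_rhs => rw [yy]
        simp only [hom1, w2, add_mul, mul_add, mul_assoc, asc2 hx, asc2 hr, c1, asc2 c1, c2, asc2 c2, c3, asc2 c3,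
          c4, asc2 c4, asc2 c5, c5, hxrx, asc3 F.xrx, asc3 F.rxr, hrxr, mul_zero, zero_mul, add_zero, zero_add]
      calc cc x r * y' * (r * x) * t * (y' * (r * x))
          = cc x r * y' * (r * x) * t * (cc x r * y' * (r * x) + x * r * y' * (r * x)) := by rw [← e]
        _ = cc x r * y' * (r * x * t * cc x r) * (y' * (r * x)) +
              cc x r * y' * (r * x * t * (x * r)) * (y' * (r * x)) := by simp only [mul_add, mul_assoc]
        _ = 0 := by rw [z1, z3]; simp
    rw [hom1, hA0, hB0, add_zero]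
  -- the odd part kills every member on both sides
  obtain ⟨hm1, hm2, hm3⟩ := hya (-1)
  have hxym := commX hm3
  have e1 : hom1 x r (conjE (sl2 F (torus (-1))) y) = -y1 := by
    rw [em, hy00, zero_sub]
    simp only [hy1def, hy2def, hom1, w2, mul_add, add_mul, mul_neg, neg_mul, mul_assoc, asc2 hx, asc2 hr, c1, asc2 c1, c2, asc2 c2,
      c3, asc2 c3, c4, asc2 c4, asc2 c5, c5, hxrx, asc3 F.xrx, asc3 F.rxr, hrxr, mul_zero, zero_mul, add_zero, zero_add, neg_add_rev, neg_zero]
    try abel
  have e0 : w0 x r (conjE (sl2 F (torus (-1))) y) = 0 := by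
    rw [em, hy00, zero_sub]
    simp only [hy1def, hy2def, hom1, w0, w2, mul_add, add_mul, mul_neg, neg_mul, mul_assoc, asc2 hx, asc2 hr, c1, asc2 c1, c2,
      asc2 c2, c3, asc2 c3, c4, asc2 c4, asc2 c5, c5, hxrx, hrxr, mul_zero, zero_mul, add_zero, zero_add, neg_zero]
  have hkill : ∀ m, Min G m → m * y1 * m = 0 := by
    intro m hm
    by_cases hxm : IsNilpotent (x * m + m * x)
    · have n1 : IsNilpotent (y * m + m * y) := by
        by_contra hn
        exact hy1 (key hy hfix hm hxm hn hy00)
      have n2 : IsNilpotent (conjE (sl2 F (torus (-1))) y * m + m * conjE (sl2 F (torus (-1))) y) := by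
        by_contra hn
        exact hy1 (neg_eq_zero.mp (e1.symm.trans (key hm1 hm3 hm hxm hn e0)))
      have d1 := (deep_zero h2 hy hm n1).2
      have d2 := (deep_zero h2 hm1 hm n2).2
      rw [hsum] at d1
      rw [em, hy00, zero_sub] at d2
      have : (2 : ZMod p) • (m * y1 * m) = 0 := by
        simp only [mul_add, add_mul, mul_neg, neg_mul] at d1 d2
        linear_combination (norm := module) d1 - d2
      exact (smul_eq_zero.mp this).resolve_left h2
    · obtain ⟨n, hn, hs⟩ := exists_unip_of_opp hp F hm hxm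
      refine Same.sandwich_zero hs ?_
      have er : r * y1 * r = 0 := by
        simp only [hy1def, hom1, mul_add, add_mul, mul_assoc, c3, asc2 c4, hr, mul_zero, zero_mul, add_zero]
      rw [← (hUfix n hn).2.1, conjE_mul, conjE_mul, er, conjE_zero]
  have hD : Dec x r y := by
    refine ⟨?_, ?_, ?_⟩
    · conv_lhs => rw [hsum]
      simp only [hy1def, hy2def, hom1, w2, add_mul, mul_assoc, c1, hx, mul_zero, add_zero]
    · conv_lhs => rw [hsum]
      simp only [hy1def, hy2def, hom1, w2, mul_add, mul_assoc, asc2 hx, asc2 c2, zero_mul, mul_zero, add_zero]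
    · conv_lhs => rw [hsum]
      simp only [hy1def, hy2def, hom1, w2, mul_add, add_mul, mul_assoc, asc2 c1, c2, zero_mul, mul_zero, add_zero]
  obtain ⟨hM1, -⟩ := hom_mem hk2 hk3 F hy hD hy1
  obtain ⟨t1, F1⟩ := exists_frame_of_semi hk2 hk3 hG hM1
  exact absurd (F1.rxr.symm.trans (hkill t1 F1.right)) F1.right.1.ne

/-- A `p`-group fixing a line and containing the unipotent group has a non-zero fixed point on it. -/
theorem exists_fixed_on_line {U : Subgroup GL'} (hU : IsPGroup p U) (hUG : U ≤ G) {z : E'} (hz : Min G z)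
    (hline : ∀ u ∈ U, Same z (conjE u z)) : ∃ y, Min G y ∧ Same z y ∧ ∀ u ∈ U, conjE u y = y := by
  have hinv : ∀ u ∈ U, ∀ w ∈ lineSpace G z, conjE u w ∈ lineSpace G z := by
    intro u hu w hw
    by_cases h0 : w = 0
    · rw [h0, conjE_zero]; exact zero_mem _
    · obtain ⟨hs, hm⟩ := same_of_mem_lineSpace hz hw h0
      exact mem_lineSpace_of_same hz (hm.conjE (hUG hu)) ((hline u hu).trans (hs.conjE u))
  letI : MulAction U (lineSpace G z) :=
    { smul := fun u w => ⟨conjE (u : GL') w, hinv u u.2 w w.2⟩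
      one_smul := fun w => Subtype.ext (by show conjE ((1 : U) : GL') (w : E') = w; rw [OneMemClass.coe_one, conjE_one])
      mul_smul := fun a b w => Subtype.ext (by
        show conjE ((a * b : U) : GL') (w : E') = conjE (a : GL') (conjE (b : GL') w)
        rw [Subgroup.coe_mul, conjE_mulAction]) }
  have hz0 : (⟨z, mem_lineSpace_of_same hz hz (Same.refl z)⟩ : lineSpace G z) ≠ 0 := fun e =>
    hz.1.ne (congrArg Subtype.val e)
  have hdvd : p ∣ Nat.card (lineSpace G z) := by
    have hp0 : (p : ℕ) • (⟨z, mem_lineSpace_of_same hz hz (Same.refl z)⟩ : lineSpace G z) = 0 := by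
      rw [← Nat.cast_smul_eq_nsmul (ZMod p), ZMod.natCast_self, zero_smul]
    have := addOrderOf_dvd_natCard (⟨z, mem_lineSpace_of_same hz hz (Same.refl z)⟩ : lineSpace G z)
    rwa [addOrderOf_eq_prime hp0 hz0] at this
  obtain ⟨w, hw, hne⟩ := hU.exists_fixed_point_of_prime_dvd_card_of_fixed_point (lineSpace G z) hdvd
    (a := 0) (fun u => Subtype.ext (conjE_zero (u : GL')))
  obtain ⟨hs, hm⟩ := same_of_mem_lineSpace hz w.2 fun e => hne (Subtype.ext e.symm)
  exact ⟨w, hm, hs, fun u hu => congrArg Subtype.val (hw ⟨u, hu⟩)⟩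

/-- The index of the stabiliser of a line is prime to `p`. -/
theorem lineGroup_relIndex (hp : 5 ≤ p) (hG : Semi G)
    (hgen : G ≤ Subgroup.closure {g : GL' | g ∈ G ∧ Min G ((g : E') - 1)}) (hx : Min G x) :
    ¬ p ∣ (lineGroup G x).relIndex G := by
  obtain ⟨r, F⟩ := exists_frame_of_semi (ringChar_ne_two hp) (card_ne_three hp) hG hx
  set L := (lineGroup G x).subgroupOf G with hL
  set V := ((unipGroup G x r).subgroupOf G).subgroupOf L with hV
  haveI hVn : V.Normal := ⟨fun v hv g => conj_mem_unipGroup F (g := ((g : G) : GL')) g.2 hv⟩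
  have hVp : IsPGroup p V :=
    (((isPGroup_unipGroup (G := G) (x := x) (r := r) hp).comap_of_injective G.subtype G.subtype_injective)).comap_of_injective
      L.subtype L.subtype_injective
  obtain ⟨S0, hVS⟩ := hVp.exists_le_sylow
  obtain ⟨S1, hS1⟩ := (S0.2.map L.subtype).exists_le_sylow
  set Q : Subgroup G := (S0 : Subgroup L).map L.subtype with hQ
  have hQL : Q ≤ L := Subgroup.map_subtype_le _
  intro hdvd
  rw [Subgroup.relIndex, ← hL] at hdvd
  have hcard : Nat.card Q = p ^ (Nat.card L).factorization p := by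
    rw [hQ, Subgroup.card_map_of_injective L.subtype_injective, S0.card_eq_multiplicity]
  have hQS : Q ≠ (S1 : Subgroup G) := by
    intro e
    rw [e, S1.card_eq_multiplicity] at hcard
    have h1 := Nat.pow_right_injective (Fact.out : p.Prime).two_le hcard
    rw [← L.card_mul_index, Nat.factorization_mul Nat.card_pos.ne' Subgroup.index_ne_zero_of_finite,
      Finsupp.add_apply, add_eq_left] at h1
    exact absurd hdvd (fun hd => absurd h1
      ((Fact.out : p.Prime).factorization_pos_of_dvd Subgroup.index_ne_zero_of_finite hd).ne')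
  have hlt : Q.subgroupOf (S1 : Subgroup G) < ⊤ := lt_top_iff_ne_top.mpr fun e =>
    hQS (le_antisymm hS1 (Subgroup.subgroupOf_eq_top.mp e))
  haveI := S1.2.isNilpotent
  obtain ⟨⟨g, hgS⟩, hgn, hgQ⟩ := SetLike.exists_of_lt (Group.normalizerCondition_of_isNilpotent _ hlt)
  have hgnorm : ∀ q ∈ Q, g⁻¹ * q * g ∈ Q := fun q hq =>
    (Subgroup.mem_normalizer_iff''.mp hgn ⟨q, hS1 hq⟩).mp hq
  have hgL : g ∉ L := by
    intro hg
    have hp' : IsPGroup p ((S1 : Subgroup G).subgroupOf L) := S1.2.comap_of_injective L.subtype L.subtype_injective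
    have e := S0.3 hp' fun s hs => hS1 ⟨s, hs, rfl⟩
    refine hgQ ?_
    show g ∈ Q
    exact ⟨⟨g, hg⟩, e ▸ hgS, rfl⟩
  set y0 := conjE (g : GL') x with hy0
  have hy0M : Min G y0 := hx.conjE g.2
  have hline : ∀ u ∈ unipGroup G x r, Same y0 (conjE u y0) := by
    intro u hu
    have huG : u ∈ G := hu.1
    have huL : (⟨u, huG⟩ : G) ∈ L := unipGroup_le_lineGroup F hu
    have huQ : (⟨u, huG⟩ : G) ∈ Q := ⟨⟨_, huL⟩, hVS hu, rfl⟩
    have h1 : Same x (conjE ((g⁻¹ * ⟨u, huG⟩ * g : G) : GL') x) := (hQL (hgnorm _ huQ)).2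
    have h2 := h1.conjE (g : GL')
    rw [← conjE_mulAction] at h2
    rw [hy0, ← conjE_mulAction]
    have e : (g : GL') * ((g⁻¹ * ⟨u, huG⟩ * g : G) : GL') = u * g := by
      simp [← mul_assoc]
    rwa [e] at h2
  obtain ⟨y, hyM, hys, hyf⟩ := exists_fixed_on_line (isPGroup_unipGroup (G := G) (x := x) (r := r) hp)
    (fun u hu => hu.1) hy0M hline
  have hc : Conn G x y := (conn_conjE hp hG hgen g.2 hx).trans (Conn.of_same hy0M hyM hys)
  exact hgL ⟨g.2, (same_of_fixed hp hG hgen F hyM hc hyf).trans hys.symm⟩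

/-- A Sylow subgroup fixes a conjugate line, and its normaliser is transitive on the fixed conjugate lines. -/
theorem exists_fixed_line (hp : 5 ≤ p) (hG : Semi G)
    (hgen : G ≤ Subgroup.closure {g : GL' | g ∈ G ∧ Min G ((g : E') - 1)}) (hx : Min G x) (S : Sylow p G) :
    (∃ g ∈ G, (S : Subgroup G).map G.subtype ≤ lineGroup G (conjE g x)) ∧
      ∀ g ∈ G, (S : Subgroup G).map G.subtype ≤ lineGroup G x →
        (S : Subgroup G).map G.subtype ≤ lineGroup G (conjE g x) →
          ∃ n ∈ Subgroup.normalizer (((S : Subgroup G).map G.subtype : Subgroup GL') : Set GL') ⊓ G,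
            Same (conjE n x) (conjE g x) := by
  have hidx : ¬ p ∣ ((lineGroup G x).subgroupOf G).index := lineGroup_relIndex hp hG hgen hx
  set L := (lineGroup G x).subgroupOf G with hL
  obtain ⟨S0⟩ : Nonempty (Sylow p L) := inferInstance
  have hconj : ∀ (a : G) (z : GL'), z ∈ lineGroup G x → (a : GL') * z * (a : GL')⁻¹ ∈ lineGroup G (conjE (a : GL') x) := by
    rintro a z ⟨hz, hs⟩
    refine ⟨mul_mem (mul_mem a.2 hz) (inv_mem a.2), ?_⟩
    rw [← conjE_mulAction, inv_mul_cancel_right, conjE_mulAction]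
    exact hs.conjE _
  constructor
  · obtain ⟨S1, hS1⟩ := (S0.2.map L.subtype).exists_le_sylow
    have hS1L : (S1 : Subgroup G) ≤ L := by
      have hc1 : Nat.card ((S0 : Subgroup L).map L.subtype) = Nat.card (S1 : Subgroup G) := by
        rw [Subgroup.card_map_of_injective L.subtype_injective, S0.card_eq_multiplicity, S1.card_eq_multiplicity,
          ← L.card_mul_index, Nat.factorization_mul Nat.card_pos.ne' Subgroup.index_ne_zero_of_finite,
          Finsupp.add_apply, Nat.factorization_eq_zero_of_not_dvd hidx, add_zero]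
      rw [← Subgroup.eq_of_le_of_card_ge hS1 hc1.ge]
      exact Subgroup.map_subtype_le _
    obtain ⟨a, ha⟩ := MulAction.exists_smul_eq G S1 S
    refine ⟨a, a.2, ?_⟩
    rintro _ ⟨s, hs, rfl⟩
    rw [← ha] at hs
    obtain ⟨t, ht, rfl⟩ := hs
    exact hconj a t (hS1L ht)
  · intro g hg hx1 hx2
    set Lg := (lineGroup G (conjE g x)).subgroupOf G with hLg
    have hSL : (S : Subgroup G) ≤ Lg := fun s hs => hx2 ⟨s, hs, rfl⟩
    have hSL' : ((MulAut.conj (⟨g, hg⟩ : G)) • (S : Subgroup G)) ≤ Lg := by
      rintro _ ⟨s, hs, rfl⟩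
      exact hconj ⟨g, hg⟩ s (hx1 ⟨s, hs, rfl⟩)
    obtain ⟨h, hh⟩ := MulAction.exists_smul_eq Lg (((⟨g, hg⟩ : G) • S).subtype hSL') (S.subtype hSL)
    rw [Sylow.smul_subtype] at hh
    have hfix := Sylow.subtype_injective hh
    change (h : G) • (⟨g, hg⟩ : G) • S = S at hfix; rw [← mul_smul] at hfix
    refine ⟨((h : G) * ⟨g, hg⟩ : G), ⟨?_, ((h : G) * ⟨g, hg⟩ : G).2⟩, ?_⟩
    · exact Subgroup.le_normalizer_map G.subtype ⟨_, Sylow.smul_eq_iff_mem_normalizer.mp hfix, rfl⟩
    · show Same (conjE (((h : G) : GL') * g) x) _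
      rw [conjE_mulAction]
      exact (h.2 : ((h : G) : GL') ∈ lineGroup G (conjE g x)).2.symm

end CfsgLib.QuadEquiv
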