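import Cfsg.Agent.Lib.QuadEquiv.Members
import Cfsg.Agent.Lib.QuadFixed.Stable

/-!
A minimal member with an opposite inside a smaller group: restriction to invariant subspaces and to quotients.
-/

set_option autoImplicit false
set_option linter.unusedSectionVars false

namespace CfsgLib.QuadEquiv

open CfsgLib.QP CfsgLib.QuadFixed Subgroup

universe u

variable (p : ℕ) [Fact p.Prime]

/-- No quadratic element in an invariant `p`-subgroup, for groups of order less than `n`. -/
def NoQuad (n : ℕ) : Prop :=
  ∀ {M : Type u} [AddCommGroup M] [Module (ZMod p) M] [FiniteDimensional (ZMod p) M]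
    (T A P : Subgroup (LinearMap.GeneralLinearGroup (ZMod p) M)), Nat.card T < n → Semi T →
    A ≤ normalizer (T : Set (LinearMap.GeneralLinearGroup (ZMod p) M)) → (Nat.card A).Coprime (Nat.card T) → P ≤ T →
    IsPGroup p P → A ≤ normalizer (P : Set (LinearMap.GeneralLinearGroup (ZMod p) M)) →
    T ⊓ centralizer (A : Set (LinearMap.GeneralLinearGroup (ZMod p) M)) ≤
      normalizer (P : Set (LinearMap.GeneralLinearGroup (ZMod p) M)) →
    ∀ e, ¬ Mem P e

variable {p}
variable {M : Type u} [AddCommGroup M] [Module (ZMod p) M] [FiniteDimensional (ZMod p) M]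

local notation "GL'" => LinearMap.GeneralLinearGroup (ZMod p) M
local notation "E'" => Module.End (ZMod p) M

/-- A square-zero element of a subgroup is a member. -/
theorem mem_of_mem {P : Subgroup GL'} {g : GL'} (hg : g ∈ P) (hsq : ((g : E') - 1) * ((g : E') - 1) = 0) (hne : g ≠ 1) :
    Mem P ((g : E') - 1) := by
  refine ⟨hsq, fun h => hne (Units.ext (sub_eq_zero.mp h)), fun c => ?_⟩
  set z := (g : E') - 1 with hz
  have hn : ∀ n : ℕ, InG P (1 + n • z) := by
    intro n
    induction n with
    | zero => simpa using inG_one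
    | succ n ih =>
      have := ih.mul (show InG P (1 + z) from ⟨g, hg, by rw [hz]; abel⟩)
      rwa [show (1 + n • z) * (1 + z) = 1 + (n + 1) • z by
        rw [mul_add, mul_one, add_mul, one_mul, smul_mul_assoc, hsq, smul_zero, add_zero, succ_nsmul]; abel] at this
  have := hn c.val
  rwa [← Nat.cast_smul_eq_nsmul (ZMod p), ZMod.natCast_zmod_val] at this

theorem mk_ne_one {z : E'} (hz : z * z = 0) (h : z ≠ 0) : mk z hz ≠ 1 := fun e =>
  h (by rw [← mk_sub_one z hz, e, Units.val_one, sub_self])

theorem mem_normalizer_inf {Γ : Type*} [Group Γ] {P Q : Subgroup Γ} {g : Γ} (h1 : g ∈ normalizer (P : Set Γ))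
    (h2 : g ∈ normalizer (Q : Set Γ)) : g ∈ normalizer ((P ⊓ Q : Subgroup Γ) : Set Γ) :=
  mem_normalizer_iff.mpr fun x => and_congr (mem_normalizer_iff.mp h1 x) (mem_normalizer_iff.mp h2 x)

/-- Restriction to an invariant subspace. -/
def resHom (U : Subgroup GL') (V : Submodule (ZMod p) M) (hV : QP.Inv U V) :
    U →* LinearMap.GeneralLinearGroup (ZMod p) V :=
  MonoidHom.toHomUnits
    { toFun := fun g => ((g : GL') : E').restrict (hV g g.2)
      map_one' := LinearMap.ext fun _ => Subtype.ext rfl
      map_mul' := fun _ _ => LinearMap.ext fun _ => Subtype.ext rfl }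

/-- Action on the quotient by an invariant subspace. -/
def quotHom (U : Subgroup GL') (V : Submodule (ZMod p) M) (hV : QP.Inv U V) :
    U →* LinearMap.GeneralLinearGroup (ZMod p) (M ⧸ V) :=
  MonoidHom.toHomUnits
    { toFun := fun g => V.mapQ V ((g : GL') : E') (hV g g.2)
      map_one' := LinearMap.ext fun a => by
        induction a using Submodule.Quotient.induction_on with | _ v => rfl
      map_mul' := fun _ _ => LinearMap.ext fun a => by
        induction a using Submodule.Quotient.induction_on with | _ v => rfl }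

theorem resHom_sub_one {U : Subgroup GL'} {V : Submodule (ZMod p) M} (hV : QP.Inv U V) (g : U) (v : V) :
    ((((resHom U V hV g).val - 1) v : V) : M) = (((g : GL') : E') - 1) (v : M) := rfl

theorem quotHom_sub_one {U : Subgroup GL'} {V : Submodule (ZMod p) M} (hV : QP.Inv U V) (g : U) (v : M) :
    ((quotHom U V hV g).val - 1) (Submodule.Quotient.mk v) = Submodule.Quotient.mk ((((g : GL') : E') - 1) v) := rfl

/-- The images of the data under an action. -/
theorem descend {M' : Type u} [AddCommGroup M'] [Module (ZMod p) M'] [FiniteDimensional (ZMod p) M']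
    {U H A P : Subgroup GL'} (ρ : U →* LinearMap.GeneralLinearGroup (ZMod p) M') (hHU : H ≤ U) (hAU : A ≤ U)
    (hA : A ≤ normalizer (H : Set GL')) (hcop : (Nat.card A).Coprime (Nat.card H)) (hPH : P ≤ H) (hP : IsPGroup p P)
    (hAP : A ≤ normalizer (P : Set GL')) (hCP : H ⊓ centralizer (A : Set GL') ≤ normalizer (P : Set GL')) :
    let H' := (H.subgroupOf U).map ρ
    let A' := (A.subgroupOf U).map ρ
    let P' := (P.subgroupOf U).map ρ
    Nat.card H' ≤ Nat.card H ∧ A' ≤ normalizer (H' : Set _) ∧ (Nat.card A').Coprime (Nat.card H') ∧ P' ≤ H' ∧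
      IsPGroup p P' ∧ A' ≤ normalizer (P' : Set _) ∧ H' ⊓ centralizer (A' : Set _) ≤ normalizer (P' : Set _) := by
  intro H' A' P'
  have hnU : ∀ {a : U} {Q : Subgroup GL'}, (a : GL') ∈ normalizer (Q : Set GL') →
      a ∈ normalizer (Q.subgroupOf U : Set U) := fun {a Q} h =>
    mem_normalizer_iff.mpr fun x => mem_normalizer_iff.mp h (x : GL')
  have hn' : ∀ {a : U} {Q : Subgroup GL'}, (a : GL') ∈ normalizer (Q : Set GL') →
      ρ a ∈ normalizer (((Q.subgroupOf U).map ρ : Subgroup _) : Set _) := fun {a Q} h =>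
    le_normalizer_map ρ ⟨a, hnU h, rfl⟩
  have dH : Nat.card (H.subgroupOf U) ∣ Nat.card H := card_comap_dvd_of_injective H U.subtype U.subtype_injective
  have dA : Nat.card (A.subgroupOf U) ∣ Nat.card A := card_comap_dvd_of_injective A U.subtype U.subtype_injective
  have hcopU : (Nat.card (A.subgroupOf U)).Coprime (Nat.card (H.subgroupOf U)) :=
    (hcop.coprime_dvd_left dA).coprime_dvd_right dH
  refine ⟨Nat.le_of_dvd Nat.card_pos ((card_map_dvd _ ρ).trans dH), ?_,
    (hcop.coprime_dvd_left ((card_map_dvd _ ρ).trans dA)).coprime_dvd_right ((card_map_dvd _ ρ).trans dH),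
    map_mono fun x hx => hPH hx, (hP.comap_of_injective U.subtype U.subtype_injective).map ρ, ?_, ?_⟩
  · rintro _ ⟨a, ha, rfl⟩; exact hn' (hA ha)
  · rintro _ ⟨a, ha, rfl⟩; exact hn' (hAP ha)
  · rintro _ ⟨⟨k, hk, rfl⟩, hkA⟩
    have hk0 : ∀ a : U, a ∈ normalizer (ρ.ker : Set U) := fun a => by rw [normalizer_eq_top]; exact mem_top a
    obtain ⟨c, hc, hkc⟩ := coprime_fixed_quotient (A := A.subgroupOf U) (K := H.subgroupOf U)
      (N := ρ.ker ⊓ H.subgroupOf U) (fun a ha => hnU (hA ha)) hcopU (solvable_or_of_coprime hcopU) inf_le_right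
      (fun a ha => mem_normalizer_inf (hk0 a) (le_normalizer ha))
      (fun a ha => mem_normalizer_inf (hk0 a) (hnU (hA ha))) hk
      (fun a ha => ⟨by
          show a * k * a⁻¹ * k⁻¹ ∈ ρ.ker
          rw [MonoidHom.mem_ker, map_mul, map_mul, map_mul, map_inv, map_inv,
            mem_centralizer_iff.mp hkA _ (mem_map_of_mem ρ ha)]
          group,
        mul_mem ((mem_normalizer_iff.mp (hnU (hA ha)) k).mp hk) ((H.subgroupOf U).inv_mem hk)⟩)
    have e : ρ c = ρ k := by
      have h1 := MonoidHom.mem_ker.mp hkc.1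
      rwa [map_mul, map_inv, inv_mul_eq_one, eq_comm] at h1
    rw [← e]
    refine hn' (hCP ⟨hc.1, mem_centralizer_iff.mpr fun a ha => ?_⟩)
    exact congrArg Subtype.val (mem_centralizer_iff.mp hc.2 ⟨a, hAU ha⟩ ha)

/-- No quadratic element of the `p`-subgroup has an opposite in the group. -/
theorem kill {n : ℕ} (IH : NoQuad.{u} p n) : ∀ (d : ℕ) {M : Type u} [AddCommGroup M] [Module (ZMod p) M]
    [FiniteDimensional (ZMod p) M] (H A P : Subgroup (LinearMap.GeneralLinearGroup (ZMod p) M)),
    Module.finrank (ZMod p) M = d → Nat.card H < n → A ≤ normalizer (H : Set _) →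
    (Nat.card A).Coprime (Nat.card H) → P ≤ H → IsPGroup p P → A ≤ normalizer (P : Set _) →
    H ⊓ centralizer (A : Set _) ≤ normalizer (P : Set _) → ∀ g ∈ P, g ≠ 1 →
    ((g : Module.End (ZMod p) M) - 1) * ((g : Module.End (ZMod p) M) - 1) = 0 → ∀ h ∈ H,
    ((g : Module.End (ZMod p) M) - 1) * ((h : Module.End (ZMod p) M) - 1) * ((g : Module.End (ZMod p) M) - 1) =
      (g : Module.End (ZMod p) M) - 1 → False := by
  intro d
  induction d using Nat.strong_induction_on with
  | _ d ihd =>
    intro M _ _ _ H A P hd hn hA hcop hPH hP hAP hCP g hg hg1 hsq h hh hrel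
    classical
    set U := H ⊔ A with hU
    have hUH : U ≤ normalizer (H : Set _) := sup_le le_normalizer hA
    by_cases hirr : ∀ W : Submodule (ZMod p) M, QP.Inv U W → W = ⊥ ∨ W = ⊤
    · have hne : ∃ m : M, m ≠ 0 := by
        by_contra hc
        push Not at hc
        exact hg1 (Units.ext (LinearMap.ext fun v => by rw [hc v, map_zero, map_zero]))
      have hsemi : Semi H := semi_normal (semi_of_minimal U hne hirr) le_sup_left fun a ha =>
        CfsgLib.Local.map_conj_eq_of_mem_normalizer (hUH ha)
      exact IH H A P hn hsemi hA hcop hPH hP hAP hCP _ (mem_of_mem hg hsq hg1)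
    push Not at hirr
    obtain ⟨V, hV, hV0, hVt⟩ := hirr
    set gU : U := ⟨g, mem_sup_left (hPH hg)⟩ with hgU
    set hU' : U := ⟨h, mem_sup_left hh⟩ with hhU
    by_cases hgV : resHom U V hV gU = 1
    · obtain ⟨c1, c2, c3, c4, c5, c6, c7⟩ := descend (quotHom U V hV) (le_sup_left : H ≤ U) le_sup_right hA hcop hPH hP
        hAP hCP
      have hlt : Module.finrank (ZMod p) (M ⧸ V) < d := by
        have e := Submodule.finrank_quotient_add_finrank V
        have h1 : 1 ≤ Module.finrank (ZMod p) V := Submodule.one_le_finrank_iff.mpr hV0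
        omega
      refine ihd _ hlt _ _ _ rfl (c1.trans_lt hn) c2 c3 c4 c5 c6 c7 (quotHom U V hV gU) ⟨gU, hg, rfl⟩ ?_ ?_
        (quotHom U V hV hU') ⟨hU', hh, rfl⟩ ?_
      · intro e
        refine hg1 (Units.ext (sub_eq_zero.mp (LinearMap.ext fun v => ?_)))
        have hz : ∀ w ∈ V, ((g : Module.End (ZMod p) M) - 1) w = 0 := fun w hw => by
          rw [← resHom_sub_one hV gU ⟨w, hw⟩, hgV, Units.val_one, sub_self]
          rfl
        have hyv : ((g : Module.End (ZMod p) M) - 1) v ∈ V := by
          rw [← Submodule.Quotient.mk_eq_zero, ← quotHom_sub_one hV gU v, e, Units.val_one, sub_self,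
            LinearMap.zero_apply]
        show ((g : Module.End (ZMod p) M) - 1) v = (0 : Module.End (ZMod p) M) v
        rw [← hrel, Module.End.mul_apply, Module.End.mul_apply, LinearMap.zero_apply]
        refine hz _ (Submodule.sub_mem _ (hV h (mem_sup_left hh) _ hyv) hyv)
      · refine LinearMap.ext fun a => ?_
        induction a using Submodule.Quotient.induction_on with
        | _ v =>
          rw [Module.End.mul_apply, quotHom_sub_one, quotHom_sub_one, ← Module.End.mul_apply, hsq,
            LinearMap.zero_apply, Submodule.Quotient.mk_zero, LinearMap.zero_apply]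
      · refine LinearMap.ext fun a => ?_
        induction a using Submodule.Quotient.induction_on with
        | _ v =>
          simp only [Module.End.mul_apply, quotHom_sub_one]
          exact congrArg Submodule.Quotient.mk (LinearMap.congr_fun hrel v)
    · obtain ⟨c1, c2, c3, c4, c5, c6, c7⟩ := descend (resHom U V hV) (le_sup_left : H ≤ U) le_sup_right hA hcop hPH hP
        hAP hCP
      have hlt : Module.finrank (ZMod p) V < d := hd ▸ Submodule.finrank_lt hVt
      refine ihd _ hlt _ _ _ rfl (c1.trans_lt hn) c2 c3 c4 c5 c6 c7 (resHom U V hV gU) ⟨gU, hg, rfl⟩ hgV ?_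
        (resHom U V hV hU') ⟨hU', hh, rfl⟩ ?_
      · refine LinearMap.ext fun v => Subtype.ext ?_
        rw [Module.End.mul_apply, resHom_sub_one, resHom_sub_one]
        exact LinearMap.congr_fun hsq (v : M)
      · refine LinearMap.ext fun v => Subtype.ext ?_
        simp only [Module.End.mul_apply, resHom_sub_one]
        exact LinearMap.congr_fun hrel (v : M)

end CfsgLib.QuadEquiv
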