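import Cfsg.Agent.Lib.QuadEquiv.Index
import Cfsg.Agent.Lib.QuadEquiv.Kill

/-!
A `p`-subgroup normalised by coprime operators and by their fixed points has no quadratic element on a
semisimple module (`p ≥ 5`).
-/

set_option autoImplicit false
set_option linter.unusedSectionVars false

namespace CfsgLib.QuadEquiv

open CfsgLib.QP CfsgLib.QuadFixed

universe u

variable {p : ℕ} [Fact p.Prime] {M : Type u} [AddCommGroup M] [Module (ZMod p) M] [FiniteDimensional (ZMod p) M]

local notation "GL'" => LinearMap.GeneralLinearGroup (ZMod p) M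
local notation "E'" => Module.End (ZMod p) M

variable {T A P : Subgroup (LinearMap.GeneralLinearGroup (ZMod p) M)} {x r y : Module.End (ZMod p) M}

theorem exists_min {e : E'} (he : Mem T e) : ∃ m, Min T m := by
  classical
  have hex : ∃ j, ∃ u, Mem T u ∧ rk u = j := ⟨_, e, he, rfl⟩
  obtain ⟨u, hu, h⟩ := Nat.find_spec hex
  exact ⟨u, hu, fun v hv => h ▸ Nat.find_min' hex ⟨v, hv, rfl⟩⟩

/-- The group generated by the members of least rank. -/
def genGroup (T : Subgroup GL') : Subgroup GL' := Subgroup.closure {g : GL' | g ∈ T ∧ Min T ((g : E') - 1)}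

theorem genGroup_le : genGroup T ≤ T := (Subgroup.closure_le _).mpr fun _ h => h.1

theorem normalizer_le_genGroup {g : GL'} (hg : g ∈ Subgroup.normalizer (T : Set GL')) :
    g ∈ Subgroup.normalizer (genGroup T : Set GL') := by
  have key : ∀ {g : GL'}, g ∈ Subgroup.normalizer (T : Set GL') → ∀ u ∈ genGroup T, g * u * g⁻¹ ∈ genGroup T := by
    intro g hg u hu
    have hle : genGroup T ≤ (genGroup T).comap (MulAut.conj g).toMonoidHom := by
      refine (Subgroup.closure_le _).mpr fun v hv => Subgroup.subset_closure ⟨normalizer_conj hg hv.1, ?_⟩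
      show Min T (((g * v * g⁻¹ : GL') : E') - 1)
      rw [conj_sub_one]
      exact min_conjE_of_normalizer hg hv.2
    exact hle hu
  refine Subgroup.mem_normalizer_iff.mpr fun u => ⟨key hg u, fun h => ?_⟩
  have := key (inv_mem hg) _ h
  simpa [mul_assoc] using this

theorem normalizer_le_lineGroup {g : GL'} (hg : g ∈ Subgroup.normalizer (T : Set GL')) {u : GL'}
    (hu : u ∈ lineGroup T x) : g * u * g⁻¹ ∈ lineGroup T (conjE g x) := by
  refine ⟨normalizer_conj hg hu.1, ?_⟩
  rw [← conjE_mulAction, inv_mul_cancel_right, conjE_mulAction]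
  exact hu.2.conjE g

theorem lineGroup_le_of_same {x' : E'} (h : Same x x') : lineGroup T x ≤ lineGroup T x' := fun u hu =>
  ⟨hu.1, h.symm.trans (hu.2.trans (h.conjE u))⟩

theorem same_of_neg {a b : E'} (h : Same (-a) (-b)) : Same a b := by
  obtain ⟨h1, h2⟩ := h
  rw [LinearMap.range_neg, LinearMap.range_neg] at h2
  refine ⟨?_, h2⟩
  ext v
  simpa using SetLike.ext_iff.mp h1 v

/-- A minimal member fixing the line of another commutes with it. -/
theorem commute_of_fix_line (hp : 5 ≤ p) {y z : E'} (hy : Min T y) (hz : Min T z)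
    (h : Same z (conjE (mk y hy.1.sq) z)) : y * z = z * y := by
  have hk2 := ringChar_ne_two hp
  have hk3 := card_ne_three hp
  have einv : ((mk y hy.1.sq)⁻¹ : GL').1 = 1 - y := rfl
  by_cases hnil : IsNilpotent (y * z + z * y)
  · obtain ⟨h1, h2⟩ := deep_zero (two_ne hk2) hy hz hnil
    by_contra hne
    obtain ⟨hX, -, hXd, -, -, -⟩ := pair_spaces hy hz h1 h2 (sub_ne_zero.mpr hne)
    set v := y * z - z * y with hv
    have hconj : conjE (mk y hy.1.sq) z = z + v := by
      rw [conjE, einv, mk_val, hv]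
      simp only [add_mul, mul_sub, one_mul, mul_one, h1]
      abel
    rw [hconj] at h
    have hr : ∀ w, v w ∈ LinearMap.range z := fun w => by
      have := Submodule.sub_mem _ (h.2.le ⟨w, rfl⟩) (⟨w, rfl⟩ : z w ∈ LinearMap.range z)
      rwa [LinearMap.add_apply, add_sub_cancel_left] at this
    have hk : ∀ w, z w = 0 → v w = 0 := fun w hw => by
      have h0 : (z + v) w = 0 := LinearMap.mem_ker.mp (h.1.ge (LinearMap.mem_ker.mpr hw))
      rwa [LinearMap.add_apply, hw, zero_add] at h0
    have z1 : y * z = 0 := LinearMap.ext fun w => by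
      refine Submodule.disjoint_def.mp hXd _ ⟨⟨_, rfl⟩, LinearMap.congr_fun h2 w⟩
        ⟨?_, LinearMap.congr_fun hy.1.sq (z w)⟩
      have e : (y * z) w = v w + (z * y) w := by rw [hv, LinearMap.sub_apply, sub_add_cancel]
      show (y * z) w ∈ LinearMap.range z
      rw [e]
      exact Submodule.add_mem _ (hr w) ⟨y w, rfl⟩
    obtain ⟨hst, -⟩ := hz.same_of_le hX.1 (fun u hu => hk u hu) (by rintro _ ⟨u, rfl⟩; exact hr u)
    refine hne (z1.trans (Eq.symm (LinearMap.ext fun w => ?_)))
    show y w ∈ LinearMap.ker z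
    rw [← hst.1, LinearMap.mem_ker, hv, z1, zero_sub]
    show -(z (y (y w))) = 0
    rw [show y (y w) = 0 from LinearMap.congr_fun hy.1.sq w, map_zero, neg_zero]
  · exfalso
    obtain ⟨r', F, hs⟩ := exists_normalized hk2 hk3 hy hz hnil
    have h' : Same r' (conjE (mk y hy.1.sq) r') := hs.symm.trans (h.trans (hs.conjE _))
    have h0 := mul_eq_zero_of_same F.right.1.sq (Same.refl r') h'
    rw [conjE, einv, mk_val] at h0
    simp only [add_mul, mul_sub, one_mul, mul_one, F.xrx, mul_add, F.right.1.sq, zero_add] at h0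
    rw [← mul_assoc, F.rxr, show r' * (r' * y) = 0 by rw [← mul_assoc, F.right.1.sq, zero_mul], zero_add, sub_eq_zero]
      at h0
    have h1 := congrArg (fun a => a * y) h0
    simp only [mul_assoc, hy.1.sq, mul_zero] at h1
    exact F.right.1.ne (by rw [h0, h1])

/-! ### Lines -/

/-- A line as a pair of subspaces. -/
def linePair (z : E') : Submodule (ZMod p) M × Submodule (ZMod p) M := (LinearMap.range z, LinearMap.ker z)

theorem linePair_eq_iff {z z' : E'} : linePair z = linePair z' ↔ Same z z' :=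
  ⟨fun h => ⟨(congrArg Prod.snd h).symm, (congrArg Prod.fst h).symm⟩, fun h => Prod.ext h.2.symm h.1.symm⟩

/-- The action on pairs of subspaces. -/
@[reducible] def pairAction : MulAction GL' (Submodule (ZMod p) M × Submodule (ZMod p) M) where
  smul g W := (W.1.map (g : E'), W.2.map (g : E'))
  one_smul W := Prod.ext (Submodule.map_id _) (Submodule.map_id _)
  mul_smul _ _ W := Prod.ext (Submodule.map_comp _ _ _) (Submodule.map_comp _ _ _)

/-- A line fixed by an invariant Sylow subgroup and by the operators preserving its class, and a frame on it. -/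
theorem exists_frame_fixed (hp : 5 ≤ p) (hT : Semi T) (hgen : T ≤ genGroup T)
    (hA : A ≤ Subgroup.normalizer (T : Set GL')) (hcop : (Nat.card A).Coprime (Nat.card T)) (hy : Min T y)
    (S : Sylow p T) (hAS : A ≤ Subgroup.normalizer (((S : Subgroup T).map T.subtype : Subgroup GL') : Set GL')) :
    ∃ x r, Frame T x r ∧ (∀ a ∈ A, LRel T x (conjE a x) → conjE a x = x ∧ conjE a r = r) ∧
      (S : Subgroup T).map T.subtype ≤ lineGroup T x := by
  set S' := (S : Subgroup T).map T.subtype with hS'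
  obtain ⟨⟨g, hg, hgS⟩, -⟩ := exists_fixed_line hp hT hgen hy S
  set z1 := conjE g y with hz1
  have hz1M : Min T z1 := hy.conjE hg
  set B := lineStab hA y with hB
  have hBA : B ≤ A := fun b hb => hb.1
  have hBT : B ≤ Subgroup.normalizer (T : Set GL') := hBA.trans hA
  have hcopB : (Nat.card B).Coprime (Nat.card T) := hcop.coprime_dvd_left (Subgroup.card_dvd_of_le hBA)
  set H0 := Subgroup.normalizer (S' : Set GL') ⊓ T with hH0
  have hfixline : ∃ z2, Min T z2 ∧ LRel T y z2 ∧ S' ≤ lineGroup T z2 ∧ ∀ b ∈ B, Same z2 (conjE b z2) := by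
    letI := pairAction (p := p) (M := M)
    have hsm : ∀ (b : GL') (z : E'), b • linePair z = linePair (conjE b z) := fun b z =>
      Prod.ext (range_conjE b z).symm (ker_conjE b z).symm
    obtain ⟨h, hh, hfix⟩ := exists_fixed (H := H0) (A := B)
      (fun b hb => mem_normalizer_inf (Subgroup.le_normalizer (hAS (hBA hb))) (hBT hb))
      (hcopB.coprime_dvd_right (Subgroup.card_dvd_of_le inf_le_right)) (linePair z1) (fun b hb => by
        obtain ⟨g', hg', hs⟩ := hb.2
        have hbg : b * g * b⁻¹ ∈ T := normalizer_conj (hBT hb) hg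
        set q := b * g * b⁻¹ * g' * g⁻¹ with hq
        have hqT : q ∈ T := mul_mem (mul_mem hbg hg') (inv_mem hg)
        have hsq : Same (conjE q z1) (conjE b z1) := by
          have e1 : conjE q z1 = conjE (b * g * b⁻¹) (conjE g' y) := by
            rw [hq, hz1, ← conjE_mulAction, inv_mul_cancel_right, conjE_mulAction]
          have e2 : conjE b z1 = conjE (b * g * b⁻¹) (conjE b y) := by
            rw [hz1, ← conjE_mulAction, ← conjE_mulAction, inv_mul_cancel_right]
          rw [e1, e2]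
          exact hs.conjE _
        have hSq : S' ≤ lineGroup T (conjE q z1) := fun s hs' => by
          refine lineGroup_le_of_same hsq.symm ?_
          have h1 := normalizer_le_lineGroup (hBT hb)
            (hgS ((Subgroup.mem_normalizer_iff.mp (inv_mem (hAS (hBA hb))) s).mp hs'))
          simpa [mul_assoc] using h1
        obtain ⟨n, hn, hns⟩ := (exists_fixed_line hp hT hgen hz1M S).2 q hqT hgS hSq
        exact ⟨n, hn, by rw [hsm, hsm]; exact linePair_eq_iff.mpr (hsq.symm.trans hns.symm)⟩)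
    refine ⟨conjE h z1, hz1M.conjE hh.2, ⟨h * g, mul_mem hh.2 hg, by rw [hz1, conjE_mulAction]; exact Same.refl _⟩,
      fun s hs' => ?_, fun b hb => ?_⟩
    · have h1 := normalizer_le_lineGroup (Subgroup.le_normalizer hh.2)
        (hgS ((Subgroup.mem_normalizer_iff.mp (inv_mem hh.1) s).mp hs'))
      simpa [mul_assoc] using h1
    · have := hfix b hb
      rw [hsm, hsm, linePair_eq_iff] at this
      exact this.symm
  obtain ⟨z2, hz2M, hyz2, hSz2, hBz2⟩ := hfixline
  letI := conjAction (p := p) (M := M)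
  have hk2 := ringChar_ne_two hp
  have hk3 := card_ne_three hp
  obtain ⟨r2, F2⟩ := exists_frame_of_semi hk2 hk3 hT hz2M
  obtain ⟨k, hk, hkfix⟩ := exists_fixed (H := lineGroup T z2) (A := B) (fun b hb => by
      refine Subgroup.mem_normalizer_iff.mpr fun u => ⟨fun hu => ?_, fun hu => ?_⟩
      · exact lineGroup_le_of_same (hBz2 b hb).symm (normalizer_le_lineGroup (hBT hb) hu)
      · have h1 := normalizer_le_lineGroup (inv_mem (hBT hb)) hu
        have h2 := (hBz2 _ (inv_mem hb)).symm
        simpa [mul_assoc] using lineGroup_le_of_same h2 h1)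
    (hcopB.coprime_dvd_right (Subgroup.card_dvd_of_le fun u hu => hu.1)) z2 (fun b hb => by
      obtain ⟨k, hk, e⟩ := cRel_of_mem_lineStab hp hA hcop F2 (b := b) ⟨hb.1, ⟨1, one_mem _, by rw [conjE_one]; exact hBz2 b hb⟩⟩
      exact ⟨k, ⟨hk, by rw [e]; exact hBz2 b hb⟩, e.symm⟩)
  set x := conjE k z2 with hx
  have hxM : Min T x := hz2M.conjE hk.1
  have hsx : Same z2 x := hk.2
  have hyx : LRel T y x := hyz2.trans ⟨k, hk.1, Same.refl _⟩
  have hxB : ∀ a ∈ A, LRel T x (conjE a x) → a ∈ B := fun a ha hl =>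
    ⟨ha, hyx.trans (hl.trans (hyx.conj (hA ha)).symm)⟩
  obtain ⟨r0, F1⟩ := exists_frame_of_semi hk2 hk3 hT hxM
  set H := T ⊓ stabE x with hH
  have hBH : B ≤ Subgroup.normalizer (H : Set GL') := fun b hb =>
    mem_normalizer_inf (hBT hb) (Subgroup.le_normalizer (show b ∈ stabE x from hkfix b hb))
  obtain ⟨n, hn, hfix'⟩ := exists_fixed hBH (hcopB.coprime_dvd_right (Subgroup.card_dvd_of_le inf_le_left)) r0
    (fun b hb => by
      have hbx : conjE b x = x := hkfix b hb
      have F3 : Frame T x (conjE b r0) := by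
        have := frame_conjE (hBT hb) F1
        rwa [hbx] at this
      obtain ⟨q, hq, hqx, hqr⟩ := frames_conj hp F1 F3
      exact ⟨q, ⟨hq, hqx⟩, hqr.symm⟩)
  refine ⟨x, conjE n r0, ?_, fun a ha hl => ⟨hkfix a (hxB a ha hl), hfix' a (hxB a ha hl)⟩,
    hSz2.trans (lineGroup_le_of_same hsx)⟩
  have := frame_conjE (Subgroup.le_normalizer hn.1) F1
  rwa [show conjE n x = x from hn.2] at this

/-- Conjugate frames are equal or commute. -/
theorem frames_eq_or_commute (hp : 5 ≤ p) (hT : Semi T) (hA : A ≤ Subgroup.normalizer (T : Set GL'))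
    (F : Frame T x r) (hfix : ∀ a ∈ A, LRel T x (conjE a x) → conjE a x = x ∧ conjE a r = r) {a b : GL'}
    (ha : a ∈ A) (hb : b ∈ A) :
    (conjE a x = conjE b x ∧ conjE a r = conjE b r) ∨
      (conjE a x * conjE b x = conjE b x * conjE a x ∧ conjE a x * conjE b r = conjE b r * conjE a x ∧
        conjE a r * conjE b x = conjE b x * conjE a r ∧ conjE a r * conjE b r = conjE b r * conjE a r) := by
  by_cases hl : LRel T (conjE a x) (conjE b x)
  · have h1 := hl.conj (hA (inv_mem ha))
    rw [conjE_conjE, ← conjE_mulAction] at h1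
    obtain ⟨e1, e2⟩ := hfix _ (mul_mem (inv_mem ha) hb) h1
    refine Or.inl ⟨?_, ?_⟩
    · conv_lhs => rw [← e1, ← conjE_mulAction, mul_inv_cancel_left]
    · conv_lhs => rw [← e2, ← conjE_mulAction, mul_inv_cancel_left]
  · have Fa := frame_conjE (hA ha) F
    have Fb := frame_conjE (hA hb) F
    have la := LRel.frame Fa
    have lb := LRel.frame Fb
    exact Or.inr ⟨commute_of_not_lRel hp hT Fa.left Fb.left hl,
      commute_of_not_lRel hp hT Fa.left Fb.right fun h => hl (h.trans lb.symm),
      commute_of_not_lRel hp hT Fa.right Fb.left fun h => hl (la.trans h),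
      commute_of_not_lRel hp hT Fa.right Fb.right fun h => hl (la.trans (h.trans lb.symm))⟩

theorem conj_sl2_val (F : Frame T x r) (a : GL') (g : Matrix.SpecialLinearGroup (Fin 2) (ZMod p)) :
    ((a * sl2 F g * a⁻¹ : GL') : E') = mat (conjE a x) (conjE a r) (g.1 0 0) (g.1 0 1) (g.1 1 0) (g.1 1 1) := by
  rw [← conjE_mat, ← sl2_val F g, Units.val_mul, Units.val_mul]
  rfl

theorem commute_conj_sl2 (hp : 5 ≤ p) (hT : Semi T) (hA : A ≤ Subgroup.normalizer (T : Set GL')) (F : Frame T x r)
    (hfix : ∀ a ∈ A, LRel T x (conjE a x) → conjE a x = x ∧ conjE a r = r) {a b : GL'} (ha : a ∈ A) (hb : b ∈ A)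
    (g : Matrix.SpecialLinearGroup (Fin 2) (ZMod p)) : Commute (a * sl2 F g * a⁻¹) (b * sl2 F g * b⁻¹) := by
  rcases frames_eq_or_commute hp hT hA F hfix ha hb with ⟨e1, e2⟩ | ⟨h1, h2, h3, h4⟩
  · have : a * sl2 F g * a⁻¹ = b * sl2 F g * b⁻¹ := Units.ext (by rw [conj_sl2_val, conj_sl2_val, e1, e2])
    rw [this]
  · refine Units.ext ?_
    rw [Units.val_mul, Units.val_mul (b * sl2 F g * b⁻¹), conj_sl2_val, conj_sl2_val]
    exact commute_mat h1 h2 h3 h4 _ _ _ _ _ _ _ _

/-- The diagonal flip. -/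
theorem exists_flip (hp : 5 ≤ p) (hT : Semi T) (hA : A ≤ Subgroup.normalizer (T : Set GL')) (F : Frame T x r)
    (hfix : ∀ a ∈ A, LRel T x (conjE a x) → conjE a x = x ∧ conjE a r = r) :
    ∃ n ∈ T ⊓ Subgroup.centralizer (A : Set GL'), ∀ a ∈ A, conjE n (conjE a x) = -conjE a r := by
  classical
  haveI : Fintype A := Fintype.ofFinite _
  set w := sl2 F wmat with hw
  set s : Finset GL' := Finset.univ.image (fun a : A => (a : GL') * w * (a : GL')⁻¹) with hs
  have hcomm : (s : Set GL').Pairwise (Function.onFun Commute id) := by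
    intro u hu v hv _
    obtain ⟨a, -, rfl⟩ := Finset.mem_image.mp hu
    obtain ⟨b, -, rfl⟩ := Finset.mem_image.mp hv
    exact commute_conj_sl2 hp hT hA F hfix a.2 b.2 wmat
  refine ⟨s.noncommProd id hcomm, ⟨Subgroup.noncommProd_mem T _ fun u hu => ?_, ?_⟩, fun a ha => ?_⟩
  · obtain ⟨a, -, rfl⟩ := Finset.mem_image.mp hu
    exact normalizer_conj (hA a.2) (sl2_mem F _)
  · refine Subgroup.mem_centralizer_iff.mpr fun a ha => ?_
    have hmap : s.map (MulAut.conj a).toEquiv.toEmbedding = s := by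
      refine Finset.eq_of_subset_of_card_le (fun u hu => ?_) (Finset.card_map _).ge
      obtain ⟨v, hv, rfl⟩ := Finset.mem_map.mp hu
      obtain ⟨b, -, rfl⟩ := Finset.mem_image.mp hv
      refine Finset.mem_image.mpr ⟨⟨a, ha⟩ * b, Finset.mem_univ _, ?_⟩
      show a * (b : GL') * w * (a * (b : GL'))⁻¹ = a * ((b : GL') * w * (b : GL')⁻¹) * a⁻¹
      group
    have hconj : MulAut.conj a (s.noncommProd id hcomm) = s.noncommProd id hcomm := by
      refine (Finset.map_noncommProd _ _ _ _).trans ?_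
      simp only [Finset.noncommProd]
      congr 1
      conv_rhs => rw [← hmap, Finset.map_val, Multiset.map_map]
      rfl
    exact mul_inv_eq_iff_eq_mul.mp hconj
  · have hmem : a * w * a⁻¹ ∈ s := Finset.mem_image.mpr ⟨⟨a, ha⟩, Finset.mem_univ _, rfl⟩
    rw [← Finset.mul_noncommProd_erase s hmem id hcomm, conjE_mulAction]
    have hrest : (s.erase (a * w * a⁻¹)).noncommProd id (fun u hu v hv huv =>
        hcomm (Finset.mem_of_mem_erase hu) (Finset.mem_of_mem_erase hv) huv) ∈ stabE (conjE a x) := by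
      refine Subgroup.noncommProd_mem _ _ fun u hu => ?_
      obtain ⟨hne, hu'⟩ := Finset.mem_erase.mp hu
      obtain ⟨b, -, rfl⟩ := Finset.mem_image.mp hu'
      rcases frames_eq_or_commute hp hT hA F hfix b.2 ha with ⟨e1, e2⟩ | ⟨h1, -, h3, -⟩
      · exact absurd (Units.ext (by rw [hw, conj_sl2_val, conj_sl2_val, e1, e2])) hne
      · show conjE ((b : GL') * w * (b : GL')⁻¹) (conjE a x) = conjE a x
        rw [conjE_eq_iff, hw, conj_sl2_val]
        have c1 : Commute (conjE a x) (conjE (b : GL') x) := h1.symm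
        have c2 : Commute (conjE a x) (conjE (b : GL') r) := h3.symm
        simp only [mat, cc]
        exact ((((((Commute.one_right _).sub_right (c1.mul_right c2)).sub_right (c2.mul_right c1)).add_right
          ((c1.mul_right c2).smul_right _)).add_right (c1.smul_right _)).add_right (c2.smul_right _)).add_right
          ((c2.mul_right c1).smul_right _) |>.symm.eq
    rw [show conjE _ (conjE a x) = conjE a x from hrest, id_eq, conjE_mulAction, conjE_conjE, conjE_mulAction,
      hw, conj_w_self, conjE_neg]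

theorem no_quad_step (hp : 5 ≤ p) {n : ℕ} (IH : NoQuad.{u} p n) (hn : Nat.card T ≤ n) (hT : Semi T)
    (hA : A ≤ Subgroup.normalizer (T : Set GL')) (hcop : (Nat.card A).Coprime (Nat.card T)) (hPT : P ≤ T)
    (hP : IsPGroup p P) (hAP : A ≤ Subgroup.normalizer (P : Set GL'))
    (hCP : T ⊓ Subgroup.centralizer (A : Set GL') ≤ Subgroup.normalizer (P : Set GL')) (hgen : T ≤ genGroup T)
    (hy : Min T y) (hyP : mk y hy.1.sq ∈ P) : False := by
  classical
  have hk2 := ringChar_ne_two hp
  have hk3 := card_ne_three hp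
  obtain ⟨S, hPS, hAS⟩ := CfsgLib.coprime_le_invariant_sylow hA hcop (solvable_or_of_coprime hcop) hPT hP hAP
  obtain ⟨x, r, F, hfix, hSx⟩ := exists_frame_fixed hp hT hgen hA hcop hy S hAS
  obtain ⟨f, hf, hflip⟩ := exists_flip hp hT hA F hfix
  have hline : ∀ a ∈ A, ∀ u ∈ P, Same (conjE a x) (conjE u (conjE a x)) := fun a ha u hu => by
    have h1 := normalizer_le_lineGroup (hA ha)
      (hSx (hPS ((Subgroup.mem_normalizer_iff.mp (inv_mem (hAP ha)) u).mp hu)))
    have := h1.2
    simpa [mul_assoc] using this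
  have hline' : ∀ a ∈ A, ∀ u ∈ P, Same (conjE a r) (conjE u (conjE a r)) := fun a ha u hu => by
    have h1 := (hline a ha _ ((Subgroup.mem_normalizer_iff.mp (inv_mem (hCP hf)) u).mp hu)).conjE f
    rw [← conjE_mulAction f (f⁻¹ * u * f⁻¹⁻¹), show f * (f⁻¹ * u * f⁻¹⁻¹) = u * f by group, conjE_mulAction, hflip a ha, conjE_neg] at h1
    exact same_of_neg h1
  have hyx : ∀ a ∈ A, y * conjE a x = conjE a x * y ∧ y * conjE a r = conjE a r * y := fun a ha =>
    ⟨commute_of_fix_line hp hy (frame_conjE (hA ha) F).left (hline a ha _ hyP),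
      commute_of_fix_line hp hy (frame_conjE (hA ha) F).right (hline' a ha _ hyP)⟩
  obtain ⟨_, l, -, -, -, -, hl2⟩ := exists_scalar_primePower hp
  set h := sl2 F (torus l) with hh
  set D : Set GL' := {d | ∃ a ∈ A, a * h * a⁻¹ = d} with hD
  set H := T ⊓ Subgroup.centralizer D with hH
  have hHT : H < T := by
    refine lt_of_le_of_ne inf_le_left fun e => ?_
    have hx1 : mk x F.left.1.sq ∈ H := e.symm ▸ mk_mem F.left.1
    have := (commute_mk_iff F.left.1.sq).mp (Subgroup.mem_centralizer_iff.mp hx1.2 h ⟨1, one_mem _, by group⟩)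
    rw [conjE, (x_mul_torus F l).2, hh, smul_mul_assoc, ← map_inv, ← map_inv, (x_mul_torus F l⁻¹).1, inv_inv,
      smul_smul] at this
    have e2 : ((l : ZMod p) * l - 1) • x = 0 := by rw [sub_smul, this, one_smul, sub_self]
    exact hl2 (Units.ext (by simpa [sub_eq_zero] using (smul_eq_zero.mp e2).resolve_right F.left.1.ne))
  have hAD : A ≤ Subgroup.normalizer (Subgroup.centralizer D : Set GL') := by
    have key : ∀ b ∈ A, ∀ g ∈ Subgroup.centralizer D, b * g * b⁻¹ ∈ Subgroup.centralizer D := by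
      intro b hb g hg
      refine Subgroup.mem_centralizer_iff.mpr ?_
      rintro _ ⟨a, ha, rfl⟩
      have h1 := Subgroup.mem_centralizer_iff.mp hg _ ⟨b⁻¹ * a, mul_mem (inv_mem hb) ha, rfl⟩
      calc a * h * a⁻¹ * (b * g * b⁻¹) = b * (b⁻¹ * a * h * (b⁻¹ * a)⁻¹ * g) * b⁻¹ := by group
        _ = b * (g * (b⁻¹ * a * h * (b⁻¹ * a)⁻¹)) * b⁻¹ := by rw [h1]
        _ = b * g * b⁻¹ * (a * h * a⁻¹) := by group
    intro b hb
    refine Subgroup.mem_normalizer_iff.mpr fun g => ⟨key b hb g, fun hg => ?_⟩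
    have := key _ (inv_mem hb) _ hg
    simpa [mul_assoc] using this
  have hyD : mk y hy.1.sq ∈ Subgroup.centralizer D := by
    refine Subgroup.mem_centralizer_iff.mpr ?_
    rintro _ ⟨a, ha, rfl⟩
    refine (commute_mk_iff hy.1.sq).mpr ((conjE_eq_iff _ _ _).mpr ?_)
    rw [hh, conj_sl2_val]
    obtain ⟨c1', c2'⟩ := hyx a ha
    have c1 : Commute y (conjE a x) := c1'
    have c2 : Commute y (conjE a r) := c2'
    simp only [mat, cc]
    exact ((((((Commute.one_right _).sub_right (c1.mul_right c2)).sub_right (c2.mul_right c1)).add_right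
      ((c1.mul_right c2).smul_right _)).add_right (c1.smul_right _)).add_right (c2.smul_right _)).add_right
      ((c2.mul_right c1).smul_right _) |>.symm.eq
  obtain ⟨t0, Fy⟩ := exists_frame_of_semi hk2 hk3 hT hy
  set DD := Subgroup.closure D with hDD
  have hDT : ∀ d ∈ DD, d ∈ T ∧ conjE d y = y := by
    have hle : DD ≤ T ⊓ stabE y := by
      refine (Subgroup.closure_le _).mpr fun d hd => ⟨?_, ?_⟩
      · obtain ⟨a, ha, rfl⟩ := hd
        exact normalizer_conj (hA ha) (sl2_mem F _)
      · exact (commute_mk_iff hy.1.sq).mp (Subgroup.mem_centralizer_iff.mp hyD d hd)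
    exact fun d hd => ⟨(hle hd).1, (hle hd).2⟩
  have hDpow : ∀ d ∈ DD, d ^ (p - 1) = 1 ∧ ∀ g ∈ D, Commute d g := by
    intro d hd
    induction hd using Subgroup.closure_induction with
    | mem d hd =>
      obtain ⟨a, ha, rfl⟩ := hd
      refine ⟨?_, ?_⟩
      · rw [conj_pow, hh, ← map_pow, ← map_pow, ZMod.units_pow_card_sub_one_eq_one, map_one, map_one, mul_one,
          mul_inv_cancel]
      · rintro _ ⟨b, hb, rfl⟩
        exact commute_conj_sl2 hp hT hA F hfix ha hb (torus l)
    | one => exact ⟨one_pow _, fun g _ => Commute.one_left g⟩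
    | mul a b ha hb iha ihb =>
      refine ⟨?_, fun g hg => (iha.2 g hg).mul_left (ihb.2 g hg)⟩
      have hab : Commute a b := by
        have : DD ≤ Subgroup.centralizer {a} := (Subgroup.closure_le _).mpr fun g hg =>
          Subgroup.mem_centralizer_singleton_iff.mpr (iha.2 g hg).symm
        exact (Subgroup.mem_centralizer_singleton_iff.mp (this hb)).symm
      rw [hab.mul_pow, iha.1, ihb.1, one_mul]
    | inv a ha iha => exact ⟨by rw [inv_pow, iha.1, inv_one], fun g hg => (iha.2 g hg).inv_left⟩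
  have hcopD : (Nat.card DD).Coprime (Nat.card (unipGroup T y t0)) := by
    obtain ⟨k, hk⟩ := IsPGroup.iff_card.mp (isPGroup_unipGroup (G := T) (x := y) (r := t0) hp)
    rw [hk]
    refine (Nat.Coprime.pow_left k ((Fact.out : p.Prime).coprime_iff_not_dvd.mpr fun hdvd => ?_)).symm
    obtain ⟨d, hd⟩ := exists_prime_orderOf_dvd_card' p hdvd
    have h1 := orderOf_dvd_of_pow_eq_one (show d ^ (p - 1) = 1 from Subtype.ext (hDpow d d.2).1)
    rw [hd] at h1
    have := Nat.le_of_dvd (by omega) h1
    omega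
  letI := conjAction (p := p) (M := M)
  have hDU : DD ≤ Subgroup.normalizer (unipGroup T y t0 : Set GL') := fun d hd => by
    have hl : ∀ {d}, d ∈ DD → d ∈ lineGroup T y := fun hd =>
      ⟨(hDT _ hd).1, by rw [(hDT _ hd).2]; exact Same.refl y⟩
    refine Subgroup.mem_normalizer_iff.mpr fun u => ⟨conj_mem_unipGroup Fy (hl hd), fun hu => ?_⟩
    have := conj_mem_unipGroup Fy (hl (inv_mem hd)) hu
    simpa [mul_assoc] using this
  obtain ⟨m, hm, hmfix⟩ := exists_fixed hDU hcopD t0 (fun d hd => by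
    have F3 : Frame T y (conjE d t0) := by
      have := frame_conjE (Subgroup.le_normalizer (hDT d hd).1) Fy
      rwa [(hDT d hd).2] at this
    obtain ⟨q, hq, -, hqr⟩ := frames_conj_unip hp Fy F3
    exact ⟨q, hq, hqr.symm⟩)
  have hmy : conjE m y = y := by
    obtain ⟨-, h1, h2, -⟩ := hm
    refine (conjE_eq_iff _ _ _).mpr ?_
    rw [mul_sub, mul_one, sub_eq_zero] at h1
    rw [sub_mul, one_mul, sub_eq_zero] at h2
    rw [h1, h2]
  set t := conjE m t0 with ht
  have Ft : Frame T y t := by
    have := frame_conjE (Subgroup.le_normalizer hm.1) Fy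
    rwa [hmy] at this
  have htH : mk t Ft.right.1.sq ∈ H := ⟨mk_mem Ft.right.1, Subgroup.mem_centralizer_iff.mpr fun d hd =>
    (commute_mk_iff Ft.right.1.sq).mpr (hmfix d (Subgroup.subset_closure hd))⟩
  have hlt : Nat.card H < n := by
    refine lt_of_lt_of_le ?_ hn
    by_contra hc
    exact hHT.ne (Subgroup.eq_of_le_of_card_ge hHT.le (not_lt.mp hc))
  refine kill IH _ H A (P ⊓ H) rfl hlt (fun a ha => mem_normalizer_inf (hA ha) (hAD ha))
    (hcop.coprime_dvd_right (Subgroup.card_dvd_of_le inf_le_left)) inf_le_right (hP.to_le inf_le_left)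
    (fun a ha => mem_normalizer_inf (hAP ha) (mem_normalizer_inf (hA ha) (hAD ha)))
    (fun c hc => mem_normalizer_inf (hCP ⟨hc.1.1, hc.2⟩) (Subgroup.le_normalizer hc.1)) _
    ⟨hyP, mk_mem hy.1, hyD⟩ (mk_ne_one _ hy.1.ne) ?_ _ htH ?_
  · rw [mk_sub_one]; exact hy.1.sq
  · rw [mk_sub_one, mk_sub_one]; exact Ft.xrx

/-- No quadratic element in a `p`-subgroup normalised by coprime operators and their fixed points. -/
theorem no_quad (hp : 5 ≤ p) : ∀ n, NoQuad.{u} p n := by
  intro n
  induction n using Nat.strong_induction_on with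
  | _ n IH =>
    intro M _ _ _ T A P hcard hT hA hcop hPT hP hAP hCP e0 he0
    have IH' : NoQuad.{u} p (Nat.card T) := IH _ hcard
    have hsub : ∀ {T' : Subgroup (LinearMap.GeneralLinearGroup (ZMod p) M)}, T' < T → Semi T' →
        A ≤ Subgroup.normalizer (T' : Set _) → ∀ {P' : Subgroup (LinearMap.GeneralLinearGroup (ZMod p) M)}, P' ≤ T →
        IsPGroup p P' → A ≤ Subgroup.normalizer (P' : Set _) →
        T ⊓ Subgroup.centralizer (A : Set _) ≤ Subgroup.normalizer (P' : Set _) → ∀ {g}, g ∈ P' → g ∈ T' → g ≠ 1 →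
        ((g : Module.End (ZMod p) M) - 1) * ((g : Module.End (ZMod p) M) - 1) = 0 → False := by
      intro T' hlt hT' hA' P' hP'T hP' hAP' hCP' g hg hgT hg1 hsq
      refine IH' T' A (P' ⊓ T') ?_ hT' hA' (hcop.coprime_dvd_right (Subgroup.card_dvd_of_le hlt.le)) inf_le_right
        (hP'.to_le inf_le_left) (fun a ha => mem_normalizer_inf (hAP' ha) (hA' ha))
        (fun c hc => mem_normalizer_inf (hCP' ⟨hlt.le hc.1, hc.2⟩) (Subgroup.le_normalizer hc.1)) _
        (mem_of_mem ⟨hg, hgT⟩ hsq hg1)
      by_contra hc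
      exact hlt.ne (Subgroup.eq_of_le_of_card_ge hlt.le (not_lt.mp hc))
    obtain ⟨e, he, hcent⟩ := exists_central_min hp hP ⟨e0, he0⟩
    have heT : Mem T e := ⟨he.1.sq, he.1.ne, fun c => let ⟨g, hg, eg⟩ := he.1.fam c; ⟨g, hPT hg, eg⟩⟩
    obtain ⟨m0, hm0⟩ := exists_min heT
    by_cases hall : ∀ m, Min T m → e * m = m * e
    · let T' : Subgroup (LinearMap.GeneralLinearGroup (ZMod p) M) :=
        { carrier := {g | g ∈ T ∧ ∀ m, Min T m → conjE g m = m}
          one_mem' := ⟨one_mem _, fun m _ => conjE_one m⟩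
          mul_mem' := fun {a b} ha hb => ⟨mul_mem ha.1 hb.1, fun m hm => by
            rw [conjE_mulAction, hb.2 m hm, ha.2 m hm]⟩
          inv_mem' := fun {a} ha => ⟨inv_mem ha.1, fun m hm => by
            conv_lhs => rw [← ha.2 m hm]
            exact conjE_conjE a m⟩ }
      have key : ∀ {b}, b ∈ Subgroup.normalizer (T : Set _) → b ∈ Subgroup.normalizer (SetLike.coe T') := by
        have key' : ∀ {b}, b ∈ Subgroup.normalizer (T : Set _) → ∀ g ∈ T', b * g * b⁻¹ ∈ T' := fun {b} hb g hg =>
          ⟨normalizer_conj hb hg.1, fun m hm => by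
            rw [conjE_mulAction, conjE_mulAction, hg.2 _ (min_conjE_of_normalizer (inv_mem hb) hm), ← conjE_mulAction,
              mul_inv_cancel, conjE_one]⟩
        intro b hb
        refine Subgroup.mem_normalizer_iff.mpr fun g => ⟨key' hb g, fun hg => ?_⟩
        have := key' (inv_mem hb) _ hg
        simpa [mul_assoc] using this
      have hne : T' ≠ T := fun e' => by
        obtain ⟨r', F⟩ := exists_frame_of_semi (ringChar_ne_two hp) (card_ne_three hp) hT hm0
        have h1 : mk m0 hm0.1.sq ∈ T' := e'.symm ▸ mk_mem hm0.1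
        have h2 := (conjE_eq_iff _ _ _).mp (h1.2 r' F.right)
        rw [mk_val, add_mul, one_mul, mul_add, mul_one, add_right_inj] at h2
        exact hm0.1.ne (by rw [← F.xrx, h2, mul_assoc, hm0.1.sq, mul_zero])
      have hle : T' ≤ T := fun g hg => hg.1
      exact hsub (lt_of_le_of_ne hle hne) (semi_normal hT hle fun b hb =>
          CfsgLib.Local.map_conj_eq_of_mem_normalizer (key (Subgroup.le_normalizer hb)))
        (fun a ha => key (hA ha)) hPT hP hAP hCP (mk_mem he.1)
        ⟨hPT (mk_mem he.1), fun m hm => conjE_mk_of_commute _ (hall m hm)⟩ (mk_ne_one _ he.1.ne)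
        (by rw [mk_sub_one]; exact he.1.sq)
    push Not at hall
    obtain ⟨m, hm, hne⟩ := hall
    obtain ⟨y, hy, g, hgB, hgy⟩ := exists_min_bigGroup hp hT hPT hP he hcent hm hne
    obtain rfl : g = mk y hy.1.sq := Units.ext (by rw [mk_val, ← hgy, add_sub_cancel])
    have hB : bigGroup T P ≤ T := fun g hg => hg.1
    have hAB : A ≤ Subgroup.normalizer (bigGroup T P : Set _) := fun a ha => normalizer_le_bigGroup (hA ha) (hAP ha)
    have hCB : T ⊓ Subgroup.centralizer (A : Set _) ≤ Subgroup.normalizer (bigGroup T P : Set _) := fun c hc =>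
      normalizer_le_bigGroup (Subgroup.le_normalizer hc.1) (hCP hc)
    by_cases hgen : T ≤ genGroup T
    · exact no_quad_step hp IH' le_rfl hT hA hcop hB (isPGroup_bigGroup hP) hAB hCB hgen hy hgB
    · refine hsub (lt_of_le_of_ne genGroup_le fun e' => hgen e'.ge) (semi_normal hT genGroup_le fun b hb =>
          CfsgLib.Local.map_conj_eq_of_mem_normalizer (normalizer_le_genGroup (Subgroup.le_normalizer hb)))
        (fun a ha => normalizer_le_genGroup (hA ha)) hB (isPGroup_bigGroup hP) hAB hCB hgB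
        (Subgroup.subset_closure ⟨mk_mem hy.1, by rw [mk_sub_one]; exact hy⟩) (mk_ne_one _ hy.1.ne)
        (by rw [mk_sub_one]; exact hy.1.sq)

end CfsgLib.QuadEquiv
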