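import Cfsg.Agent.Lib.QuadEquiv.Basic
import Cfsg.Agent.Lib.RootSub.QP.Reduce

/-!
From a quadratic element of a `p`-subgroup to a minimal member inside a larger `p`-subgroup with the same normaliser.
-/

set_option autoImplicit false
set_option linter.unusedSectionVars false

namespace CfsgLib.QuadEquiv

open CfsgLib.QP CfsgLib.QuadFixed

universe u

variable {p : ℕ} [Fact p.Prime] {M : Type u} [AddCommGroup M] [Module (ZMod p) M] [FiniteDimensional (ZMod p) M]

local notation "GL'" => LinearMap.GeneralLinearGroup (ZMod p) M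
local notation "E'" => Module.End (ZMod p) M

variable {G P : Subgroup (LinearMap.GeneralLinearGroup (ZMod p) M)} {e m : Module.End (ZMod p) M}

/-- Both sandwiches vanish: the commutator is minimal. -/
theorem min_comm (he : Mem G e) (hm : Min G m) (h1 : e * m * e = 0) (h2 : m * e * m = 0)
    (hne : e * m - m * e ≠ 0) : Min G (e * m - m * e) := by
  have hv : Mem G (e * m - m * e) := ⟨comm_sq he.sq hm.1.sq h1 h2, hne, inG_comm he hm.1 h1 h2⟩
  have a1 : (LinearMap.range e).map m ≤ LinearMap.range m ⊓ LinearMap.ker e := by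
    rintro _ ⟨_, ⟨u, rfl⟩, rfl⟩
    exact ⟨⟨e u, rfl⟩, LinearMap.congr_fun h1 u⟩
  have hr : LinearMap.range (e * m - m * e) ≤ (LinearMap.range m).map e ⊔ (LinearMap.range e).map m := by
    rintro _ ⟨u, rfl⟩
    exact Submodule.sub_mem _ (Submodule.mem_sup_left ⟨_, ⟨u, rfl⟩, rfl⟩)
      (Submodule.mem_sup_right ⟨_, ⟨u, rfl⟩, rfl⟩)
  have f1 := finrank_map_add e (LinearMap.range m)
  have f2 := Submodule.finrank_mono a1
  have f3 := Submodule.finrank_mono hr
  have f4 := Submodule.finrank_add_le_finrank_add_finrank ((LinearMap.range m).map e) ((LinearMap.range e).map m)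
  exact hm.of_rk hv (by simp only [rk]; omega)

/-- A member with vanishing sandwiches against every minimal member commutes with all of them. -/
theorem commute_of_sandwich (hp : 5 ≤ p) (hG : Semi G) (he : Mem G e)
    (H : ∀ x, Min G x → e * x * e = 0 ∧ x * e * x = 0) (hm : Min G m) : e * m = m * e := by
  have hk2 := ringChar_ne_two hp
  have hk3 := card_ne_three hp
  by_contra hne
  obtain ⟨h1, h2⟩ := H m hm
  have hv := min_comm he hm h1 h2 (sub_ne_zero.mpr hne)
  set v := e * m - m * e with hvdef
  clear_value v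
  have ev : e * v = 0 := by rw [hvdef, mul_sub, ← mul_assoc, he.sq, zero_mul, ← mul_assoc, h1, sub_zero]
  have ve : v * e = 0 := by rw [hvdef, sub_mul, h1, mul_assoc m e e, he.sq, mul_zero, sub_zero]
  obtain ⟨t, F⟩ := exists_frame_of_semi hk2 hk3 hG hv
  obtain ⟨ete, tet⟩ := H t F.right
  set s1 := v * t * e + e * t * v with hs1
  by_cases hs0 : s1 = 0
  · have q1 : v * t * e = 0 := by
      have := congrArg (fun z => v * t * z) hs0
      simp only [hs1, mul_add, mul_zero] at this
      rw [show v * t * (v * t * e) = v * t * v * t * e by simp only [mul_assoc],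
        show v * t * (e * t * v) = v * (t * e * t) * v by simp only [mul_assoc], F.xrx, tet] at this
      simpa using this
    have q2 : e * t * v = 0 := by
      have := congrArg (fun z => z * (t * v)) hs0
      simp only [hs1, add_mul, zero_mul] at this
      rw [show v * t * e * (t * v) = v * (t * e * t) * v by simp only [mul_assoc],
        show e * t * v * (t * v) = e * t * (v * t * v) by simp only [mul_assoc], F.xrx, tet] at this
      simpa using this
    have te : t * e = 0 := by
      rw [← F.rxr, mul_assoc (t * v) t e, mul_assoc t v, ← mul_assoc v t e, q1, mul_zero]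
    have et : e * t = 0 := by
      rw [← F.rxr, mul_assoc t v t, ← mul_assoc e, ← mul_assoc (e * t), q2, zero_mul]
    refine F.right.1.ne (F.rxr.symm.trans ?_)
    rw [hvdef, mul_sub, sub_mul, ← mul_assoc, te, zero_mul, zero_mul, zero_sub,
      show t * (m * e) * t = t * m * (e * t) by simp only [mul_assoc], et, mul_zero, neg_zero]
  · have hsy : s1 = v * (t * e - e * t) - (t * e - e * t) * v := by
      rw [hs1, mul_sub, sub_mul, ← mul_assoc v t e, ← mul_assoc v e t, ve, zero_mul, mul_assoc t e v, ev, mul_zero]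
      abel
    have hy0 : e * t - t * e ≠ 0 := fun h => hs0 (by
      rw [hsy, show t * e - e * t = 0 by rw [← neg_sub, h, neg_zero]]; simp)
    have hy : Min G (t * e - e * t) := by
      have := (min_comm he F.right ete tet hy0).neg
      rwa [neg_sub] at this
    have vyv : v * (t * e - e * t) * v = 0 := by
      simp only [mul_sub, sub_mul, mul_assoc, ev, mul_zero, zero_sub]
      simp only [← mul_assoc, ve, zero_mul, neg_zero]
    have yvy : (t * e - e * t) * v * (t * e - e * t) = 0 := by
      rw [show (t * e - e * t) * v = -(e * t * v) by rw [sub_mul, mul_assoc t e v, ev, mul_zero, zero_sub],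
        neg_mul, mul_sub, show e * t * v * (e * t) = e * t * (v * e) * t by simp only [mul_assoc], ve,
        show e * t * v * (t * e) = e * (t * v * t) * e by simp only [mul_assoc], F.rxr, ete]
      simp
    obtain ⟨hS1, -⟩ := pair_spaces hv hy vyv yvy (by rw [← hsy]; exact hs0)
    rw [← hsy] at hS1
    obtain ⟨t1, F1⟩ := exists_frame_of_semi hk2 hk3 hG hS1
    set g := sl2 F (torus (-1)) with hg
    have hgG : g ∈ G := sl2_mem F _
    have gval : ∀ a : (ZMod p)ˣ, a = -1 → (sl2 F (torus a) : E') = 1 - (2 : ZMod p) • (v * t) - (2 : ZMod p) • (t * v) := by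
      rintro a rfl
      rw [torus_val, inv_neg, inv_one, Units.val_neg, Units.val_one, cc]
      module
    have hconj : conjE g e = e - (2 : ZMod p) • s1 := by
      rw [conjE, hg, ← map_inv, ← map_inv, gval _ rfl, gval _ (by rw [inv_neg, inv_one])]
      have n1 : e * v = 0 := ev
      have n2 : v * e = 0 := ve
      simp only [hs1, sub_mul, mul_sub, one_mul, mul_one, smul_mul_assoc, mul_smul_comm, smul_smul, mul_assoc, asc2 n1,
        asc2 n2, n1, n2, asc3 tet, asc3' tet, zero_mul, mul_zero, smul_zero, sub_zero, smul_add]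
      abel
    have h3 := (H _ (F1.right.conjE (inv_mem hgG))).2
    have h4 : t1 * conjE g e * t1 = 0 := by
      have := congrArg (conjE g) h3
      rwa [← conjE_mul, ← conjE_mul, ← conjE_mulAction, mul_inv_cancel, conjE_one, conjE_zero] at this
    rw [hconj, mul_sub, sub_mul, (H _ F1.right).2, mul_smul_comm, smul_mul_assoc, F1.rxr, zero_sub, neg_eq_zero] at h4
    exact F1.right.1.ne ((smul_eq_zero.mp h4).resolve_left (two_ne hk2))

/-- A member not commuting with all minimal members dominates a minimal one. -/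
theorem exists_min_le (hp : 5 ≤ p) (hG : Semi G) (he : Mem G e) (hm : Min G m) (hne : e * m ≠ m * e) :
    ∃ y, Min G y ∧ LinearMap.range y ≤ LinearMap.range e ∧ LinearMap.ker e ≤ LinearMap.ker y := by
  have hk2 := ringChar_ne_two hp
  have hk3 := card_ne_three hp
  obtain ⟨x, hX, h12⟩ : ∃ x, Min G x ∧ ¬ (e * x * e = 0 ∧ x * e * x = 0) := by
    by_contra h
    push Not at h
    exact hne (commute_of_sandwich hp hG he (fun x hx => h x hx) hm)
  have hs := he.sq
  have hx := hX.1.sq
  set z := e * x + x * e with hz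
  by_cases hnil : IsNilpotent z
  · obtain ⟨N, hNz⟩ := hnil
    classical
    have hex : ∃ n, e * z ^ n = 0 ∧ x * z ^ n = 0 := ⟨N, by rw [hNz]; simp⟩
    have hn := Nat.find_spec hex
    obtain ⟨j, hj, hj1⟩ : ∃ j, Nat.find hex = j + 1 ∧ 1 ≤ j := by
      refine ⟨Nat.find hex - 1, ?_⟩
      have e0 : Nat.find hex ≠ 0 := fun e0 => by rw [e0, pow_zero, mul_one] at hn; exact he.ne hn.1
      have e1 : Nat.find hex ≠ 1 := fun e1 => by
        rw [e1, pow_one, hz, left_mul_z hs, right_mul_z hx] at hn; exact h12 hn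
      omega
    rw [hj] at hn
    have ha := no_deep_top (two_ne hk2) he hX hj1 hn.1 hn.2
    have hxz : x * z ^ j = 0 := by
      by_contra hxne
      have e' : x * e + e * x = z := add_comm _ _
      have hmem := mem_deep (two_ne hk2) hX.1 he hj1 (by rw [e']; exact hn.2) (by rw [e']; exact hn.1)
        (by rw [e']; exact hxne) (by rw [e', ← neg_sub, neg_mul, ha, neg_zero])
      exact absurd (hX.2 _ hmem) (not_le.mpr (rk_lt_of_range_lt (range_deep_lt (t := e) hx hj1
        (by rw [e']; exact hn.2) (by rw [e']; exact hxne))))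
    have hsne : e * z ^ j ≠ 0 := fun e0 => Nat.find_min hex (m := j) (by omega) ⟨e0, hxz⟩
    have hmem := mem_deep (two_ne hk2) he hX.1 hj1 hn.1 hn.2 hsne ha
    rw [← hz] at hmem
    have cs : z ^ j * e = e * z ^ j := ((commute_z_left hs).pow_left j).eq
    refine ⟨e * z ^ j, hX.of_rk hmem ?_, LinearMap.range_comp_le_range _ _, ?_⟩
    · obtain ⟨i, rfl⟩ := Nat.exists_eq_add_of_le' hj1
      rw [pow_succ', ← mul_assoc, hz, left_mul_z hs, mul_assoc (e * x), rk, rk]
      refine le_trans (Submodule.finrank_mono ?_) (Submodule.finrank_map_le e (LinearMap.range x))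
      rintro _ ⟨u, rfl⟩
      exact ⟨_, ⟨_, rfl⟩, rfl⟩
    · intro v hv
      rw [LinearMap.mem_ker, ← cs, Module.End.mul_apply, LinearMap.mem_ker.mp hv, map_zero]
  · obtain ⟨Pp, ee, hsp⟩ := exists_split hnil
    obtain ⟨β, hβ⟩ := (Gen.isUnit_root hsp.coeff).exists_right_inv
    set π := Polynomial.aeval z ee with hπ
    set w := iota z Pp ee β with hw
    have cwx : Commute w x := commute_iota (commute_z_right hx) β
    have cws : Commute w e := commute_iota (commute_z_left hs) β
    have hwz : w * z = π := by rw [iota_mul_z hsp, mul_comm, hβ, iota_one hsp]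
    have cps : Commute π e := by rw [hπ, ← iota_one hsp]; exact commute_iota (commute_z_left hs) 1
    set q := π * e with hq
    have pp : q * q = 0 := by rw [hq, mul_assoc, ← mul_assoc e, ← cps.eq, mul_assoc π e, hs, mul_zero, mul_zero]
    have pfam : ∀ c : ZMod p, InG G (1 + c • q) := fun c => by
      have := inG_iota hk2 hk3 he hX.1 hsp (algebraMap (ZMod p) (AdjoinRoot Pp) c)
      rwa [← hz, iota_algebraMap hsp, ← hπ, smul_mul_assoc] at this
    have pfac : q = e * x * (w * e) := by
      rw [hq, ← hwz, mul_assoc w, z_mul_left hs, ← mul_assoc (e * x), mul_assoc e x w, ← cwx.eq, ← mul_assoc e w,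
        ← cws.eq]
      simp only [mul_assoc]
    have pne : q ≠ 0 := fun e0 => by
      have hfx : π * x = x := by
        have hsp' : Split (x * e + e * x) Pp ee := by rwa [add_comm]
        have := left_fix hk2 hk3 hX he hsp'
        rwa [add_comm (x * e)] at this
      have cpx : Commute π x := by rw [hπ, ← iota_one hsp]; exact commute_iota (commute_z_right hx) 1
      refine hnil ?_
      have h1 : x * e = 0 := by rw [← hfx, cpx.eq, mul_assoc, ← hq, e0, mul_zero]
      have h2 : e * x = 0 := by rw [← hfx, ← mul_assoc, ← cps.eq, ← hq, e0, zero_mul]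
      exact ⟨1, by rw [pow_one, hz, h1, h2, add_zero]⟩
    refine ⟨q, hX.of_rk ⟨pp, pne, pfam⟩ ?_, ?_, ?_⟩
    · rw [rk, rk, pfac]
      refine le_trans (Submodule.finrank_mono ?_) (Submodule.finrank_map_le e (LinearMap.range x))
      rintro _ ⟨u, rfl⟩
      exact ⟨_, ⟨_, rfl⟩, rfl⟩
    · rw [hq, cps.eq]; exact LinearMap.range_comp_le_range _ _
    · intro v hv
      rw [hq, LinearMap.mem_ker, Module.End.mul_apply, LinearMap.mem_ker.mp hv, map_zero]

/-! ### The fixed space filtration of a `p`-group -/

/-- The vectors killed by all words of length `i`. -/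
def fil (Q : Subgroup GL') : ℕ → Submodule (ZMod p) M
  | 0 => ⊥
  | i + 1 => ⨅ g ∈ Q, (fil Q i).comap ((g : E') - 1)

theorem mem_fil_succ {Q : Subgroup GL'} {i : ℕ} {v : M} :
    v ∈ fil Q (i + 1) ↔ ∀ g ∈ Q, ((g : E') - 1) v ∈ fil Q i := by
  simp only [fil, Submodule.mem_iInf, Submodule.mem_comap]

theorem fil_mono (Q : Subgroup GL') : Monotone (fil Q) := by
  refine monotone_nat_of_le_succ fun i => ?_
  induction i with
  | zero => exact bot_le
  | succ i ih => exact fun v hv => mem_fil_succ.mpr fun g hg => ih (mem_fil_succ.mp hv g hg)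

theorem exists_fil_top {Q : Subgroup GL'} (hQ : IsPGroup p Q) : ∃ n, fil Q n = ⊤ := by
  haveI : Finite M := Module.finite_of_finite (ZMod p)
  obtain ⟨n, hn⟩ : ∃ n, fil Q n = fil Q (n + 1) := by
    by_contra h
    push Not at h
    have hs : StrictMono (fil Q) := strictMono_nat_of_lt_succ fun i => (fil_mono Q (Nat.le_succ i)).lt_of_ne (h i)
    haveI : Finite (Submodule (ZMod p) M) := Finite.of_injective (fun V => (V : Set M)) SetLike.coe_injective
    exact not_injective_infinite_finite (fil Q) hs.injective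
  refine ⟨n, ?_⟩
  have hinv : ∀ g ∈ Q, ∀ v ∈ fil Q n, (g : E') v ∈ fil Q n := by
    intro g hg v hv
    rw [hn] at hv ⊢
    have := Submodule.add_mem _ (fil_mono Q (Nat.le_succ n) (mem_fil_succ.mp hv g hg)) hv
    simpa using this
  by_contra htop
  set W := fil Q n with hW
  letI : MulAction Q (M ⧸ W) :=
    { smul := fun g => W.mapQ W ((g : GL') : E') fun v hv => hinv g g.2 v hv
      one_smul := fun a => by
        induction a using Submodule.Quotient.induction_on with | _ v => rfl
      mul_smul := fun g h a => by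
        induction a using Submodule.Quotient.induction_on with | _ v => rfl }
  haveI : Finite (M ⧸ W) := Finite.of_surjective _ W.mkQ_surjective
  haveI : Nontrivial (M ⧸ W) := Submodule.Quotient.nontrivial_iff.mpr htop
  obtain ⟨a, ha⟩ := exists_ne (0 : M ⧸ W)
  have hdvd : p ∣ Nat.card (M ⧸ W) := by
    have hp0 : (p : ℕ) • a = 0 := by
      rw [← Nat.cast_smul_eq_nsmul (ZMod p), ZMod.natCast_self, zero_smul]
    have := addOrderOf_dvd_natCard a
    rwa [addOrderOf_eq_prime hp0 ha] at this
  obtain ⟨b, hb, hb0⟩ := hQ.exists_fixed_point_of_prime_dvd_card_of_fixed_point (M ⧸ W) hdvd (a := 0)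
    (fun g => map_zero (W.mapQ W ((g : GL') : E') fun v hv => hinv g g.2 v hv))
  induction b using Submodule.Quotient.induction_on with
  | _ v =>
    refine hb0 (((Submodule.Quotient.mk_eq_zero W).mpr ?_).symm)
    rw [hn, mem_fil_succ]
    intro g hg
    have := (Submodule.Quotient.eq W).mp (hb ⟨g, hg⟩)
    simpa using this

/-- Lowering the filtration by `d`. -/
def Down (Q : Subgroup GL') (n d : ℕ) (z : E') : Prop := ∀ a, ∀ v ∈ fil Q a, z v ∈ fil Q (a + n - d)

theorem down_one {Q : Subgroup GL'} {u : E'} (hu : Mem Q u) : Down Q 0 1 u := by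
  intro a v hv
  cases a with
  | zero => rw [show v = 0 from (Submodule.mem_bot _).mp hv, map_zero]; exact zero_mem _
  | succ a =>
    have := mem_fil_succ.mp hv (mk u hu.sq) (mk_mem hu)
    rwa [mk_sub_one] at this

theorem Down.mono {Q : Subgroup GL'} {n d d' : ℕ} {z : E'} (h : Down Q n d z) (hd : d' ≤ d) : Down Q n d' z :=
  fun a v hv => fil_mono Q (by omega) (h a v hv)

theorem Down.left {Q : Subgroup GL'} {n d : ℕ} {u z : E'} (hu : Mem Q u) (h : Down Q n d z) :
    Down Q n (d + 1) (u * z) := fun a v hv => fil_mono Q (by omega) (down_one hu _ _ (h a v hv))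

theorem Down.right {Q : Subgroup GL'} {n d : ℕ} {u z : E'} (hu : Mem Q u) (h : Down Q n d z) :
    Down Q n (d + 1) (z * u) := fun a v hv => by
  cases a with
  | zero => rw [show v = 0 from (Submodule.mem_bot _).mp hv, map_zero]; exact zero_mem _
  | succ a => exact fil_mono Q (by omega) (h _ _ (down_one hu _ _ hv))

theorem down_eq_zero {Q : Subgroup GL'} {n d : ℕ} (hn : fil Q n = ⊤) (hd : 2 * n ≤ d) {z : E'} (h : Down Q n d z) :
    z = 0 := LinearMap.ext fun v => by
  have := h n v (hn ▸ Submodule.mem_top)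
  rw [show n + n - d = 0 by omega] at this
  exact this

/-- Descending: a property with a step to deeper elements holds for some element without step. -/
theorem exists_deepest {Q : Subgroup GL'} {n : ℕ} (hn : fil Q n = ⊤) {S : E' → Prop} (hS : ∀ z, S z → z ≠ 0)
    (hex : ∃ z, S z) : ∃ z d, S z ∧ Down Q n d z ∧ ∀ z', S z' → ¬ Down Q n (d + 1) z' := by
  classical
  obtain ⟨z, hz⟩ := hex
  have h0 : ∀ z, Down Q n 0 z := fun z a v _ => fil_mono Q (a := n) (by omega) (hn ▸ Submodule.mem_top)
  have hex' : ∃ d, ∀ z', S z' → ¬ Down Q n (d + 1) z' :=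
    ⟨2 * n, fun z' hz' h => hS z' hz' (down_eq_zero hn (by omega) h)⟩
  rcases Nat.eq_zero_or_pos (Nat.find hex') with e | e
  · exact ⟨z, 0, hz, h0 z, e ▸ Nat.find_spec hex'⟩
  · have := Nat.find_min hex' (m := Nat.find hex' - 1) (by omega)
    push Not at this
    obtain ⟨z', hz', hd⟩ := this
    exact ⟨z', _, hz', by rwa [Nat.sub_add_cancel e] at hd, Nat.find_spec hex'⟩

/-- A least member of a `p`-group commuting with all least members. -/
theorem exists_central_min (hp : 5 ≤ p) (hP : IsPGroup p P) (hex : ∃ z, Mem P z) :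
    ∃ e, Min P e ∧ ∀ u, Min P u → e * u = u * e := by
  obtain ⟨n, hn⟩ := exists_fil_top hP
  have hex' : ∃ e, Min P e := by
    classical
    have hexn : ∃ j, ∃ u, Mem P u ∧ rk u = j := ⟨_, hex.choose, hex.choose_spec, rfl⟩
    obtain ⟨u, hu, e⟩ := Nat.find_spec hexn
    exact ⟨u, hu, fun v hv => e ▸ Nat.find_min' hexn ⟨v, hv, rfl⟩⟩
  obtain ⟨e, d, he, hed, hmax⟩ := exists_deepest hn (S := Min P) (fun z hz => hz.1.ne) hex'
  refine ⟨e, he, fun u hu => ?_⟩
  by_contra hne
  have hnil : IsNilpotent (e * u + u * e) := by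
    refine ⟨n, LinearMap.ext fun v => ?_⟩
    have hstep : ∀ i, ∀ v ∈ fil P (i + 1), (e * u + u * e) v ∈ fil P i := fun i v hv => by
      refine fil_mono P (by omega : i + 1 - 1 ≤ i) (Submodule.add_mem _ ?_ ?_)
      · exact fil_mono P (by omega) (down_one he.1 _ _ (down_one hu.1 _ _ hv))
      · exact fil_mono P (by omega) (down_one hu.1 _ _ (down_one he.1 _ _ hv))
    have : ∀ i, ∀ v ∈ fil P i, ((e * u + u * e) ^ i) v = 0 := by
      intro i
      induction i with
      | zero => intro v hv; simpa using (Submodule.mem_bot _).mp hv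
      | succ i ih => intro v hv; rw [pow_succ]; exact ih _ (hstep i v hv)
    exact this n v (hn ▸ Submodule.mem_top)
  obtain ⟨h1, h2⟩ := deep_zero (two_ne (ringChar_ne_two hp)) he hu hnil
  exact hmax _ (pair_spaces he hu h1 h2 (sub_ne_zero.mpr hne)).1 fun a v hv =>
    Submodule.sub_mem _ (hed.right hu.1 a v hv) (hed.left hu.1 a v hv)

/-- The elements commuting with the least members and fixing their common kernel. -/
def bigGroup (G P : Subgroup GL') : Subgroup GL' where
  carrier := {g | g ∈ G ∧ (∀ u, Min P u → conjE g u = u) ∧ ∀ v, (∀ u, Min P u → u v = 0) → (g : E') v = v}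
  one_mem' := ⟨one_mem _, fun u _ => conjE_one u, fun v _ => rfl⟩
  mul_mem' := fun {a b} ha hb => ⟨mul_mem ha.1 hb.1, fun u hu => by rw [conjE_mulAction, hb.2.1 u hu, ha.2.1 u hu],
    fun v hv => by
      show (a : E') ((b : E') v) = v
      rw [hb.2.2 v hv, ha.2.2 v hv]⟩
  inv_mem' := fun {a} ha => ⟨inv_mem ha.1, fun u hu => by
    conv_lhs => rw [← ha.2.1 u hu]
    exact conjE_conjE a u, fun v hv => by
    conv_lhs => rw [← ha.2.2 v hv]
    exact LinearMap.congr_fun a.inv_mul v⟩

theorem normalizer_le_bigGroup {g : GL'} (hgG : g ∈ Subgroup.normalizer (G : Set GL'))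
    (hgP : g ∈ Subgroup.normalizer (P : Set GL')) :
    g ∈ Subgroup.normalizer (bigGroup G P : Set GL') := by
  have key : ∀ {g : GL'}, g ∈ Subgroup.normalizer (G : Set GL') → g ∈ Subgroup.normalizer (P : Set GL') →
      ∀ h ∈ bigGroup G P, g * h * g⁻¹ ∈ bigGroup G P := by
    intro g hg hgP h hh
    refine ⟨normalizer_conj hg hh.1, fun u hu => ?_, fun v hv => ?_⟩
    · rw [conjE_mulAction, conjE_mulAction, hh.2.1 _ (min_conjE_of_normalizer (inv_mem hgP) hu), ← conjE_mulAction,
        mul_inv_cancel, conjE_one]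
    · show (g : E') ((h : E') ((g⁻¹ : GL').1 v)) = v
      rw [hh.2.2 _ fun u hu => ?_]
      · exact LinearMap.congr_fun g.mul_inv v
      · have h0 := hv _ (min_conjE_of_normalizer hgP hu)
        have := congrArg (g⁻¹ : GL').1 h0
        rw [conjE, Module.End.mul_apply, Module.End.mul_apply, map_inv_cancel, map_zero] at this
        exact this
  rw [Subgroup.mem_normalizer_iff]
  refine fun h => ⟨key hgG hgP h, fun hh => ?_⟩
  have := key (inv_mem hgG) (inv_mem hgP) _ hh
  simpa [mul_assoc] using this

theorem isPGroup_bigGroup (hP : IsPGroup p P) : IsPGroup p (bigGroup G P) := by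
  set Q := Subgroup.closure {g : GL' | g ∈ P ∧ Min P ((g : E') - 1)} with hQ
  obtain ⟨n, hn⟩ := exists_fil_top (Q := Q) (hP.to_le ((Subgroup.closure_le P).mpr fun g hg => hg.1))
  rintro ⟨g, hgG, hgc, hgf⟩
  have hcomm : ∀ h ∈ Q, (g : E') * (h : E') = (h : E') * (g : E') := by
    intro h hh
    have hle : Q ≤ Subgroup.centralizer ({g} : Set GL') := by
      refine (Subgroup.closure_le _).mpr fun h hh => Subgroup.mem_centralizer_singleton_iff.mpr (Units.ext ?_)
      have e := (conjE_eq_iff _ _ _).mp (hgc _ hh.2)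
      simp only [mul_sub, sub_mul, mul_one, one_mul, sub_left_inj] at e
      rw [Units.val_mul, Units.val_mul, e]
    exact (congrArg Units.val (Subgroup.mem_centralizer_singleton_iff.mp (hle hh))).symm
  have hdown : ∀ i, ∀ v ∈ fil Q (i + 1), ((g : E') - 1) v ∈ fil Q i := by
    intro i
    induction i with
    | zero =>
      intro v hv
      refine (Submodule.mem_bot _).mpr (sub_eq_zero.mpr (hgf v fun u hu => ?_))
      have := mem_fil_succ.mp hv (mk u hu.1.sq) (Subgroup.subset_closure ⟨mk_mem hu.1, by rw [mk_sub_one]; exact hu⟩)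
      rw [mk_sub_one] at this
      exact (Submodule.mem_bot _).mp this
    | succ i ih =>
      intro v hv
      refine mem_fil_succ.mpr fun h hh => ?_
      have e : ((h : E') - 1) * ((g : E') - 1) = ((g : E') - 1) * ((h : E') - 1) := by
        simp only [mul_sub, sub_mul, mul_one, one_mul, hcomm h hh]; abel
      have := ih _ (mem_fil_succ.mp hv h hh)
      rwa [← Module.End.mul_apply, ← e] at this
  have hnil : ((g : E') - 1) ^ n = 0 := by
    refine LinearMap.ext fun v => ?_
    have : ∀ i, ∀ v ∈ fil Q i, (((g : E') - 1) ^ i) v = 0 := by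
      intro i
      induction i with
      | zero => intro v hv; simpa using (Submodule.mem_bot _).mp hv
      | succ i ih => intro v hv; rw [pow_succ]; exact ih _ (hdown i v hv)
    exact this n v (hn ▸ Submodule.mem_top)
  refine ⟨n, Subtype.ext (Units.ext ?_)⟩
  simp only [SubmonoidClass.coe_pow, Units.val_pow_eq_pow_val, OneMemClass.coe_one, Units.val_one]
  rcases subsingleton_or_nontrivial M with hM | hM
  · exact LinearMap.ext fun _ => Subsingleton.elim _ _
  haveI : CharP E' p := charP_of_injective_algebraMap (algebraMap (ZMod p) E').injective p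
  have hle : n ≤ p ^ n := (Nat.lt_pow_self (Fact.out : p.Prime).one_lt).le
  have e : (g : E') = 1 + ((g : E') - 1) := by abel
  rw [e, add_pow_char_pow_of_commute _ _ (Commute.one_left _), one_pow, pow_eq_zero_of_le hle hnil, add_zero]

/-- A quadratic element not central for the members yields a minimal member in the big group. -/
theorem exists_min_bigGroup (hp : 5 ≤ p) (hG : Semi G) (hPG : P ≤ G) (hP : IsPGroup p P) {e : E'} (he : Min P e)
    (hcent : ∀ u, Min P u → e * u = u * e) (hm : Min G m) (hne : e * m ≠ m * e) :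
    ∃ y, Min G y ∧ ∃ g ∈ bigGroup G P, (g : E') - 1 = y := by
  have heG : Mem G e := ⟨he.1.sq, he.1.ne, fun c => let ⟨g, hg, eg⟩ := he.1.fam c; ⟨g, hPG hg, eg⟩⟩
  obtain ⟨n, hn⟩ := exists_fil_top hP
  set S : E' → Prop := fun y => Min G y ∧ LinearMap.range y ≤ LinearMap.range e ∧ LinearMap.ker e ≤ LinearMap.ker y
  obtain ⟨y, d, ⟨hy, hyr, hyk⟩, hyd, hmax⟩ := exists_deepest hn (S := S) (fun z hz => hz.1.1.ne)
    (exists_min_le hp hG heG hm hne)
  have hcomm : ∀ u, Min P u → u * y = y * u := by
    intro u hu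
    have huG : Mem G u := ⟨hu.1.sq, hu.1.ne, fun c => let ⟨g, hg, eg⟩ := hu.1.fam c; ⟨g, hPG hg, eg⟩⟩
    have hue := hcent u hu
    have yuy : y * u * y = 0 := LinearMap.ext fun v => by
      obtain ⟨w, hw⟩ := hyr ⟨v, rfl⟩
      refine LinearMap.mem_ker.mp (hyk ?_)
      show e (u (y v)) = 0
      rw [← hw, ← Module.End.mul_apply e u, hue, Module.End.mul_apply, ← Module.End.mul_apply e e, he.1.sq]
      simp
    have hle : ∀ z : E', (∀ v, z v ∈ LinearMap.range e) → LinearMap.range z ≤ LinearMap.range e := fun z h => by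
      rintro _ ⟨v, rfl⟩; exact h v
    have hu_r : ∀ v ∈ LinearMap.range e, u v ∈ LinearMap.range e := by
      rintro _ ⟨v, rfl⟩; exact ⟨u v, LinearMap.congr_fun hue v⟩
    have hu_k : ∀ v, e v = 0 → e (u v) = 0 := fun v hv => by
      rw [← Module.End.mul_apply e u, hue, Module.End.mul_apply, hv, map_zero]
    by_cases h1 : u * y * u = 0
    · by_contra hne'
      refine hmax _ ⟨min_comm huG hy h1 yuy (sub_ne_zero.mpr hne'), hle _ fun v => ?_, fun v hv => ?_⟩ fun a v hv =>
        Submodule.sub_mem _ (hyd.left hu.1 a v hv) (hyd.right hu.1 a v hv)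
      · exact Submodule.sub_mem _ (hu_r _ (hyr ⟨v, rfl⟩)) (hyr ⟨u v, rfl⟩)
      · show u (y v) - y (u v) = 0
        rw [LinearMap.mem_ker.mp (hyk hv), LinearMap.mem_ker.mp (hyk (hu_k v hv)), map_zero, sub_zero]
    · exfalso
      have h2 := two_ne (ringChar_ne_two hp)
      have hz : u * (u * y + y * u) = u * y * u := left_mul_z hu.1.sq
      have hy0 : y * (u * y + y * u) = 0 := by rw [right_mul_z hy.1.sq, yuy]
      have hu2 : u * (u * y + y * u) ^ (1 + 1) = 0 := by
        rw [pow_succ, pow_one, ← mul_assoc, hz, mul_assoc (u * y) u, hz,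
          show u * y * (u * y * u) = u * (y * u * y) * u by simp only [mul_assoc], yuy, mul_zero, zero_mul]
      have hy2 : y * (u * y + y * u) ^ (1 + 1) = 0 := by rw [pow_succ, pow_one, ← mul_assoc, hy0, zero_mul]
      have ha := no_deep_top h2 huG hy le_rfl hu2 hy2
      have hmem := mem_deep h2 huG hy.1 le_rfl hu2 hy2 (by rw [pow_one, hz]; exact h1) ha
      rw [pow_one, hz] at hmem
      have hrk : rk (u * y * u) ≤ rk y := by
        rw [rk, rk]
        refine le_trans (Submodule.finrank_mono ?_) (Submodule.finrank_map_le u (LinearMap.range y))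
        rintro _ ⟨v, rfl⟩
        exact ⟨_, ⟨u v, rfl⟩, rfl⟩
      refine hmax _ ⟨hy.of_rk hmem hrk, hle _ fun v => hu_r _ (hyr ⟨u v, rfl⟩), fun v hv => ?_⟩
        (((hyd.left hu.1).right hu.1).mono (Nat.le_succ _))
      show u (y (u v)) = 0
      rw [LinearMap.mem_ker.mp (hyk (hu_k v hv)), map_zero]
  refine ⟨y, hy, mk y hy.1.sq, ⟨mk_mem hy.1, fun u hu => conjE_mk_of_commute _ (hcomm u hu).symm,
    fun v hv => ?_⟩, mk_sub_one _ _⟩
  rw [mk_val, LinearMap.add_apply, Module.End.one_apply, LinearMap.mem_ker.mp (hyk (hv e he)), add_zero]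

end CfsgLib.QuadEquiv
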