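import Cfsg.Agent.Lib.QuadEquiv.Chief
import Cfsg.Agent.Lib.Coprime
import Cfsg.Agent.Lib.PResidual
import Cfsg.Agent.Lib.Frobenius.FixedPointFree

/-!
Two facts about an operator of prime order: the fixed-point lemma for a coprime action on a `p`-group, and
solubility when its fixed points are central.

Blueprint: `blueprint/S1931.md`.
-/

set_option autoImplicit false
set_option linter.unusedSectionVars false
set_option linter.style.haveILetI false

namespace CfsgLib.QuadEquiv

open Subgroup
open scoped commutatorElement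

universe u v

/-- On an abelian group: a group normalised by an operator of prime order without fixed points, centralising
the fixed points of the operator, is trivial. -/
theorem abelian_fixed_trivial {M : Type v} [CommGroup M] [Finite M] {r : ℕ} [Fact r.Prime]
    (B : Subgroup (MulAut M)) [Finite B] {D : MulAut M} (hDr : D ^ r = 1) (hDB : ∀ b ∈ B, D * b * D⁻¹ ∈ B)
    (hfpf : ∀ b ∈ B, b * D = D * b → b = 1) (hfix : ∀ m : M, D m = m → ∀ b ∈ B, b m = m)
    (hcop : (Nat.card B).Coprime (Nat.card M)) : B = ⊥ := by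
  classical
  have := Fintype.ofFinite B
  refine (eq_bot_iff_forall _).mpr fun c hc => MulEquiv.ext fun m => ?_
  have hpowB : ∀ (i : ℕ), ∀ b ∈ B, D ^ i * b * (D ^ i)⁻¹ ∈ B := by
    intro i
    induction i with
    | zero => intro b hb; simpa using hb
    | succ i ih =>
      intro b hb
      have e : D ^ (i + 1) * b * (D ^ (i + 1))⁻¹ = D * (D ^ i * b * (D ^ i)⁻¹) * D⁻¹ := by
        rw [pow_succ']; group
      rw [e]; exact hDB _ (ih b hb)
  -- the product over a conjugate of the operator is fixed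
  have h1 : ∀ b : B, c (∏ i ∈ Finset.range r, ((b : MulAut M) * D ^ i * (b : MulAut M)⁻¹) m) =
      ∏ i ∈ Finset.range r, ((b : MulAut M) * D ^ i * (b : MulAut M)⁻¹) m := by
    intro b
    set n := ∏ i ∈ Finset.range r, (D ^ i) ((b : MulAut M)⁻¹ m) with hn
    have e : (∏ i ∈ Finset.range r, ((b : MulAut M) * D ^ i * (b : MulAut M)⁻¹) m) = (b : MulAut M) n := by
      rw [hn, map_prod]; rfl
    have hDn : D n = n := by
      have hs := Finset.prod_range_succ' (fun i => (D ^ i) ((b : MulAut M)⁻¹ m)) r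
      rw [Finset.prod_range_succ, hDr, pow_zero, ← hn] at hs
      rw [hn, map_prod]
      refine (mul_right_cancel (b := ((1 : MulAut M) ((b : MulAut M)⁻¹ m))) ?_)
      rw [← hn, hs]
      congr 1
      exact Finset.prod_congr rfl fun i _ => by rw [pow_succ', MulAut.mul_apply]
    rw [e, show c ((b : MulAut M) n) = (c * (b : MulAut M)) n from rfl, hfix n hDn _ (B.mul_mem hc b.2),
      hfix n hDn _ b.2]
  -- for a nontrivial power of the operator the product over all conjugates is fixed
  have h2 : ∀ i, i + 1 < r → c (∏ b : B, ((b : MulAut M) * D ^ (i + 1) * (b : MulAut M)⁻¹) m) =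
      ∏ b : B, ((b : MulAut M) * D ^ (i + 1) * (b : MulAut M)⁻¹) m := by
    intro i hi
    set j := i + 1 with hj
    let f : B → B := fun b => b * ⟨_, hpowB j _ (B.inv_mem b.2)⟩
    have hf : Function.Bijective f := by
      refine Finite.injective_iff_bijective.mp fun x y hxy => ?_
      have e : (x : MulAut M) * (D ^ j * (x : MulAut M)⁻¹ * (D ^ j)⁻¹) =
          (y : MulAut M) * (D ^ j * (y : MulAut M)⁻¹ * (D ^ j)⁻¹) := congrArg Subtype.val hxy
      have hz : Commute ((y : MulAut M)⁻¹ * x) (D ^ j) := by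
        show (y : MulAut M)⁻¹ * x * D ^ j = D ^ j * ((y : MulAut M)⁻¹ * x)
        calc (y : MulAut M)⁻¹ * x * D ^ j
            = (y : MulAut M)⁻¹ * ((x : MulAut M) * (D ^ j * (x : MulAut M)⁻¹ * (D ^ j)⁻¹)) * D ^ j * x := by group
          _ = (y : MulAut M)⁻¹ * ((y : MulAut M) * (D ^ j * (y : MulAut M)⁻¹ * (D ^ j)⁻¹)) * D ^ j * x := by rw [e]
          _ = D ^ j * ((y : MulAut M)⁻¹ * x) := by group
      have hjr : j.Coprime r := ((Fact.out : r.Prime).coprime_iff_not_dvd.mpr fun hd =>
        absurd (Nat.le_of_dvd (by omega) hd) (by omega)).symm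
      obtain ⟨k, hk⟩ := exists_pow_eq_self_of_coprime (x := D) (n := j)
        (hjr.coprime_dvd_right (orderOf_dvd_of_pow_eq_one hDr))
      have h3 := hfpf _ (B.mul_mem (B.inv_mem y.2) x.2) (hk ▸ (hz.pow_right k).eq)
      exact Subtype.ext (inv_mul_eq_one.mp h3).symm
    have e : (∏ b : B, ((b : MulAut M) * D ^ j * (b : MulAut M)⁻¹) m) =
        ∏ b : B, (b : MulAut M) ((D ^ j) m) := by
      refine Fintype.prod_bijective f hf _ _ fun b => ?_
      rw [← MulAut.mul_apply]
      congr 1
      simp only [f, Subgroup.coe_mul]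
      group
    rw [e, map_prod]
    exact Fintype.prod_equiv (Equiv.mulLeft ⟨c, hc⟩) _ _ fun b => rfl
  have hall : c (∏ b : B, ∏ i ∈ Finset.range r, ((b : MulAut M) * D ^ i * (b : MulAut M)⁻¹) m) =
      ∏ b : B, ∏ i ∈ Finset.range r, ((b : MulAut M) * D ^ i * (b : MulAut M)⁻¹) m := by
    rw [map_prod]; exact Finset.prod_congr rfl fun b _ => h1 b
  obtain ⟨s, rfl⟩ : ∃ s, r = s + 1 := ⟨r - 1, (Nat.sub_add_cancel (Fact.out : r.Prime).one_le).symm⟩
  rw [Finset.prod_comm, Finset.prod_range_succ', map_mul, map_prod,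
    Finset.prod_congr rfl (fun i hi => h2 i (by simpa using hi)), mul_left_cancel_iff] at hall
  simp only [pow_zero, mul_one, mul_inv_cancel, MulAut.one_apply, Finset.prod_const, Finset.card_univ,
    map_pow] at hall
  rw [← Nat.card_eq_fintype_card] at hall
  exact (powCoprime hcop.symm).injective hall

variable {X : Type u} [Group X] [Finite X] {p : ℕ} [Fact p.Prime]

theorem normalizer_inf_left {d : X} {A V : Subgroup X} (hdA : d ∈ normalizer (A : Set X))
    (hdV : d ∈ normalizer (V : Set X)) : zpowers d ≤ normalizer ((A ⊓ V : Subgroup X) : Set X) :=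
  zpowers_le.mpr (mem_normalizer_inf hdA hdV)

/-- The fixed-point lemma for an operator of prime order. -/
theorem frob_centralize {r : ℕ} [Fact r.Prime] {A : Subgroup X} {d : X} (hdr : d ^ r = 1)
    (hdA : d ∈ normalizer (A : Set X)) (hAp : (Nat.card A).Coprime p) (hAr : (Nat.card A).Coprime r)
    : ∀ (n : ℕ) (V : Subgroup X), Nat.card V = n → IsPGroup p V → (Nat.card V).Coprime r → d ∈ normalizer (V : Set X) →
      A ≤ normalizer (V : Set X) → (A ⊓ centralizer ({d} : Set X) ≤ centralizer (V : Set X)) →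
      (A ≤ centralizer ((V ⊓ centralizer ({d} : Set X) : Subgroup X) : Set X)) →
      A ≤ centralizer (V : Set X) := by
  intro n
  induction n using Nat.strong_induction_on with
  | _ n ih =>
    intro V hn hV hVr hdV hAV h1 h2
    by_cases hV0 : V = ⊥
    · intro a _ v hv
      rw [hV0, SetLike.mem_coe, mem_bot] at hv
      rw [hv, one_mul, mul_one]
    set W := ⁅V, V⁆ with hWdef
    have hWV : W ≤ V := commutator_le_self V
    have hWlt : W < V := by
      refine lt_of_le_of_ne hWV fun e => ?_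
      haveI := hV.isNilpotent
      haveI : Nontrivial V := V.nontrivial_iff_ne_bot.mpr hV0
      refine (Group.IsSolvable.commutator_lt_top_of_nontrivial V).ne (map_injective V.subtype_injective ?_)
      rw [map_subtype_commutator, ← hWdef, e, ← MonoidHom.range_eq_map, range_subtype]
    have hnW : ∀ g ∈ normalizer (V : Set X), g ∈ normalizer (W : Set X) := fun g hg =>
      CfsgLib.Local.mem_normalizer_of_map_conj_eq (by
        rw [hWdef, Subgroup.map_commutator, CfsgLib.Local.map_conj_eq_of_mem_normalizer hg])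
    have hW : A ≤ centralizer (W : Set X) := by
      refine ih _ ?_ W rfl (hV.to_le hWV) (hVr.coprime_dvd_left (card_dvd_of_le hWV)) (hnW d hdV) (fun g hg => hnW g (hAV hg))
        (h1.trans (centralizer_le hWV)) (h2.trans (centralizer_le (inf_le_inf_right _ hWV)))
      rw [← hn]
      by_contra hc
      exact hWlt.ne (Subgroup.eq_of_le_of_card_ge hWV (not_lt.mp hc))
    -- the section `V / W`
    set Γ : Subgroup X := V ⊔ (A ⊔ zpowers d) with hΓ
    have hΓn : Γ ≤ normalizer (V : Set X) := sup_le le_normalizer (sup_le hAV (zpowers_le.mpr hdV))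
    have hVΓ : V ≤ Γ := le_sup_left
    have hWΓ : W ≤ Γ := hWV.trans hVΓ
    have hdΓ : d ∈ Γ := mem_sup_right (mem_sup_right (mem_zpowers d))
    have hAΓ : A ≤ Γ := le_sup_left.trans le_sup_right
    haveI : (V.subgroupOf Γ).Normal := (normal_subgroupOf_iff_le_normalizer hVΓ).mpr hΓn
    haveI : (W.subgroupOf Γ).Normal := (normal_subgroupOf_iff_le_normalizer hWΓ).mpr fun g hg => hnW g (hΓn hg)
    set U := V.subgroupOf Γ with hU
    set M := W.subgroupOf Γ with hM
    have hcm : ∀ a ∈ U, ∀ b ∈ U, ⁅a, b⁆ ∈ M := fun a ha b hb => by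
      show ((⁅a, b⁆ : Γ) : X) ∈ W
      rw [← Γ.subtype_apply, map_commutatorElement]
      exact commutator_mem_commutator ha hb
    letI : CommGroup (U ⧸ M.subgroupOf U) :=
      { (inferInstance : Group (U ⧸ M.subgroupOf U)) with
        mul_comm := fun a b => by
          obtain ⟨a, rfl⟩ := QuotientGroup.mk_surjective a
          obtain ⟨b, rfl⟩ := QuotientGroup.mk_surjective b
          rw [← commutatorElement_eq_one_iff_mul_comm]
          refine (map_commutatorElement (QuotientGroup.mk' (M.subgroupOf U)) a b).symm.trans ?_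
          exact (QuotientGroup.eq_one_iff _).mpr (hcm a a.2 b b.2) }
    set τ := secConj U M with hτ
    have hdvd : Nat.card ((A.subgroupOf Γ).map τ) ∣ Nat.card A :=
      (card_map_dvd (A.subgroupOf Γ) τ).trans (Nat.card_congr (subgroupOfEquivOfLe hAΓ).toEquiv).dvd
    have hord : (⟨d, hdΓ⟩ : Γ) ^ r = 1 := Subtype.ext (by simpa using hdr)
    have hcd : (Nat.card (zpowers d)).Coprime (Nat.card A) := by
      rw [Nat.card_zpowers]
      exact Nat.Coprime.coprime_dvd_left (orderOf_dvd_of_pow_eq_one hdr) hAr.symm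
    obtain ⟨kV, hkV⟩ := IsPGroup.iff_card.mp hV
    have hcdV : (Nat.card (zpowers d)).Coprime (Nat.card V) := by
      rw [Nat.card_zpowers]
      exact Nat.Coprime.coprime_dvd_left (orderOf_dvd_of_pow_eq_one hdr) hVr.symm
    have hsd : Group.IsSolvable (zpowers d) := Group.isSolvable_of_comm fun a b => mul_comm' a b
    have hker : ∀ (g : Γ), τ g = 1 ↔ ∀ v ∈ V, ⁅(g : X), v⁆ ∈ W := by
      intro g
      constructor
      · intro h v hv
        exact (secConj_fixed_iff U M g ⟨⟨v, hVΓ hv⟩, hv⟩).mp (by rw [← hτ, h]; rfl)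
      · intro h
        refine MulEquiv.ext fun x => ?_
        obtain ⟨v, rfl⟩ := QuotientGroup.mk_surjective x
        exact (secConj_fixed_iff U M g v).mpr (h _ v.2)
    have hnK : ∀ g ∈ normalizer (W : Set X), g ∈ normalizer (V : Set X) → g ∈ normalizer (A : Set X) →
        g ∈ normalizer ((A ⊓ secKer W V : Subgroup X) : Set X) := fun g g1 g2 g3 =>
      mem_normalizer_inf g3 (mem_normalizer_iff.mpr fun x => ⟨conj_mem_secKer g1 g2, fun hx => by
        simpa [mul_assoc] using conj_mem_secKer (inv_mem g1) (inv_mem g2) hx⟩)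
    have hB : (A.subgroupOf Γ).map τ = ⊥ := by
      refine abelian_fixed_trivial (r := r) _ (D := τ ⟨d, hdΓ⟩) (by rw [← map_pow, hord, map_one]) ?_ ?_ ?_ ?_
      · rintro _ ⟨g, hg, rfl⟩
        refine ⟨⟨d, hdΓ⟩ * g * ⟨d, hdΓ⟩⁻¹, (mem_normalizer_iff.mp hdA _).mp hg, ?_⟩
        rw [map_mul, map_mul, map_inv]
      · rintro _ ⟨g, hg, rfl⟩ hcomm
        have hgA : (g : X) ∈ A := hg
        rw [← commutatorElement_eq_one_iff_mul_comm, ← map_commutatorElement] at hcomm
        -- lift the fixed point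
        set K := A ⊓ secKer W V with hK
        have hAK : A ≤ normalizer (K : Set X) := fun a ha =>
          hnK a (hnW a (hAV ha)) (hAV ha) (le_normalizer ha)
        have hdK : d ∈ normalizer (K : Set X) := hnK d (hnW d hdV) hdV hdA
        have hgd : ⁅(g : X), d⁆ ∈ K := by
          refine ⟨?_, ?_⟩
          · rw [show ⁅(g : X), d⁆ = g * (d * (g : X)⁻¹ * d⁻¹) by simp only [commutatorElement_def]; group]
            exact mul_mem hgA ((mem_normalizer_iff.mp hdA _).mp (inv_mem hgA))
          · have hm : ((⁅g, ⟨d, hdΓ⟩⁆ : Γ) : X) = ⁅(g : X), d⁆ := rfl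
            rw [← hm]
            exact ⟨hnW _ (hΓn (SetLike.coe_mem _)), hΓn (SetLike.coe_mem _), (hker _).mp hcomm⟩
        have hfix : ∀ a ∈ zpowers d, a * (g : X) * a⁻¹ * (g : X)⁻¹ ∈ K := by
          intro a ha
          obtain ⟨i, rfl⟩ := mem_powers_iff_mem_zpowers.mpr ha
          clear ha
          induction i with
          | zero => simp
          | succ i ihi =>
            have e : d ^ (i + 1) * (g : X) * (d ^ (i + 1))⁻¹ * (g : X)⁻¹ =
                d * (d ^ i * (g : X) * (d ^ i)⁻¹ * (g : X)⁻¹) * d⁻¹ * ⁅(g : X), d⁆⁻¹ := by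
              rw [pow_succ']; simp only [commutatorElement_def]; group
            rw [e]
            exact mul_mem ((mem_normalizer_iff.mp hdK _).mp ihi) (inv_mem hgd)
        obtain ⟨c, hc, hgc⟩ := CfsgLib.coprime_fixed_quotient (zpowers_le.mpr hdA) hcd (Or.inl hsd)
          (inf_le_left : K ≤ A) hAK (zpowers_le.mpr hdK) hgA hfix
        have hcV : ∀ v ∈ V, v * c = c * v := fun v hv => mem_centralizer_iff.mp (h1 ⟨hc.1,
          mem_centralizer_singleton_iff.mpr (mem_centralizer_iff.mp hc.2 d (mem_zpowers d)).symm⟩) v hv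
        refine (hker _).mpr fun v hv => ?_
        set w := ((g : X)⁻¹ * c)⁻¹ with hw
        have hwK : w ∈ secKer W V := inv_mem hgc.2
        have h5 := hwK.2.2 v hv
        rw [show (g : X) = c * w by rw [hw]; group, show ⁅c * w, v⁆ = c * ⁅w, v⁆ * c⁻¹ * ⁅c, v⁆ by
            simp only [commutatorElement_def]; group,
          commutatorElement_eq_one_iff_mul_comm.mpr (hcV v hv).symm, mul_one, ← hcV _ (hWV h5), mul_inv_cancel_right]
        exact h5
      · rintro x hx _ ⟨g, hg, rfl⟩
        obtain ⟨v, rfl⟩ := QuotientGroup.mk_surjective x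
        rw [hτ, secConj_fixed_iff] at hx ⊢
        have hfix : ∀ a ∈ zpowers d, a * ((v : Γ) : X) * a⁻¹ * ((v : Γ) : X)⁻¹ ∈ W := by
          intro a ha
          obtain ⟨i, rfl⟩ := mem_powers_iff_mem_zpowers.mpr ha
          clear ha
          induction i with
          | zero => simp
          | succ i ihi =>
            have e : d ^ (i + 1) * ((v : Γ) : X) * (d ^ (i + 1))⁻¹ * ((v : Γ) : X)⁻¹ =
                d * (d ^ i * ((v : Γ) : X) * (d ^ i)⁻¹ * ((v : Γ) : X)⁻¹) * d⁻¹ * ⁅d, ((v : Γ) : X)⁆ := by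
              rw [pow_succ']; simp only [commutatorElement_def]; group
            rw [e]
            exact mul_mem ((mem_normalizer_iff.mp (hnW d hdV) _).mp ihi) hx
        obtain ⟨c, hc, hvc⟩ := CfsgLib.coprime_fixed_quotient (zpowers_le.mpr hdV) hcdV (Or.inl hsd) hWV
          (fun a ha => hnW a (le_normalizer ha)) (zpowers_le.mpr (hnW d hdV)) v.2 hfix
        have hcomm : (g : X) * c = c * g := (mem_centralizer_iff.mp (h2 hg) c ⟨hc.1,
          mem_centralizer_singleton_iff.mpr (mem_centralizer_iff.mp hc.2 d (mem_zpowers d)).symm⟩).symm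
        set w := ((v : Γ) : X)⁻¹ * c with hw
        show ⁅(g : X), ((v : Γ) : X)⁆ ∈ W
        rw [show ((v : Γ) : X) = c * w⁻¹ by rw [hw]; group,
          show ⁅(g : X), c * w⁻¹⁆ = ⁅(g : X), c⁆ * (c * ⁅(g : X), w⁻¹⁆ * c⁻¹) by
            simp only [commutatorElement_def]; group,
          commutatorElement_eq_one_iff_mul_comm.mpr hcomm, one_mul]
        refine (mem_normalizer_iff.mp (hnW c (le_normalizer hc.1)) _).mp ?_
        exact mul_mem ((mem_normalizer_iff.mp (hnW g (hAV hg)) _).mp (inv_mem hvc)) (inv_mem (inv_mem hvc))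
      · refine (Nat.Coprime.coprime_dvd_left hdvd ?_)
        refine Nat.Coprime.coprime_dvd_right ((card_quotient_dvd_card _).trans
          (Nat.card_congr (subgroupOfEquivOfLe hVΓ).toEquiv).dvd) ?_
        rw [hkV]
        exact hAp.pow_right kV
    intro a ha
    have hsec : a ∈ secKer ⊥ W ⊓ secKer W V := by
      refine ⟨⟨mem_normalizer_iff.mpr fun x => by simp only [mem_bot, mul_inv_eq_one, mul_eq_left], hnW a (hAV ha), fun w hw => ?_⟩, hnW a (hAV ha), hAV ha, ?_⟩
      · rw [mem_bot, commutatorElement_eq_one_iff_mul_comm]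
        exact (mem_centralizer_iff.mp (hW ha) w hw).symm
      · have h3 : τ ⟨a, hAΓ ha⟩ = 1 := mem_bot.mp (hB ▸ mem_map_of_mem τ (show (⟨a, hAΓ ha⟩ : Γ) ∈ A.subgroupOf Γ from ha))
        exact (hker _).mp h3
    obtain ⟨k, hk⟩ := stab_pow (p := p) (V1 := (⊥ : Subgroup X)) (V2 := V) (hV.to_le hWV)
    have hord' : (orderOf a).Coprime p := Nat.Coprime.coprime_dvd_left (Subgroup.orderOf_dvd_natCard (s := A) ha) hAp
    exact mem_centralizer_iff.mpr fun v hv => (commutatorElement_eq_one_iff_mul_comm.mp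
      (mem_bot.mp ((CfsgLib.PResidual.mem_of_pow_mem hord' (hk a hsec)).2.2 v hv))).symm

/-- If the fixed points of an operator of prime order are central modulo a solvable normal subgroup, the group
is solvable. -/
theorem solvable_of_fixed_central {r : ℕ} [Fact r.Prime] {a : X} (har : a ^ r = 1) {F Z : Subgroup X}
    (haF : a ∈ normalizer (F : Set X)) (haZ : a ∈ normalizer (Z : Set X)) (hcop : (Nat.card F).Coprime r)
    (hZF : Z ≤ F) (hFZ : F ≤ normalizer (Z : Set X)) (hZs : Group.IsSolvable Z)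
    (hfix : ∀ f ∈ F, a * f = f * a → ∀ j ∈ F, ⁅j, f⁆ ∈ Z) : Group.IsSolvable F := by
  classical
  set Zs := Z.subgroupOf F with hZsdef
  haveI : Zs.Normal := (normal_subgroupOf_iff_le_normalizer hZF).mpr hFZ
  set π := QuotientGroup.mk' Zs
  set Z1 := (center (F ⧸ Zs)).comap π with hZ1
  have hmem : ∀ f : F, f ∈ Z1 ↔ ∀ j : F, ⁅(j : X), (f : X)⁆ ∈ Z := by
    intro f
    rw [hZ1, mem_comap, mem_center_iff]
    constructor
    · intro h j
      have h1 := commutatorElement_eq_one_iff_mul_comm.mpr (h (π j))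
      rw [← map_commutatorElement, QuotientGroup.mk'_apply, QuotientGroup.eq_one_iff] at h1
      exact h1
    · intro h y
      obtain ⟨j, rfl⟩ := QuotientGroup.mk'_surjective Zs y
      rw [← commutatorElement_eq_one_iff_mul_comm, ← map_commutatorElement, QuotientGroup.mk'_apply,
        QuotientGroup.eq_one_iff]
      exact h j
  haveI : Z1.Normal := by rw [hZ1]; infer_instance
  have hZsol : Group.IsSolvable Zs :=
    Group.isSolvable_of_isSolvable_injective (f := (subgroupOfEquivOfLe hZF).toMonoidHom)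
      (subgroupOfEquivOfLe hZF).injective
  have hle : Zs ≤ Z1 := fun f hf => by
    rw [hZ1, mem_comap, show π f = 1 from (QuotientGroup.eq_one_iff f).mpr hf]; exact one_mem _
  have hZ1s : Group.IsSolvable Z1 := by
    refine (Group.isSolvable_iff_subgroup_quotient (Zs.subgroupOf Z1)).mpr
      ⟨Group.isSolvable_of_isSolvable_injective (f := (subgroupOfEquivOfLe hle).toMonoidHom)
        (subgroupOfEquivOfLe hle).injective, Group.isSolvable_of_comm fun x y => ?_⟩
    obtain ⟨x, rfl⟩ := QuotientGroup.mk_surjective x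
    obtain ⟨y, rfl⟩ := QuotientGroup.mk_surjective y
    rw [← QuotientGroup.mk_mul, ← QuotientGroup.mk_mul, QuotientGroup.eq, mem_subgroupOf]
    push_cast
    rw [← QuotientGroup.eq_one_iff]
    have := mem_center_iff.mp (show π (x : F) ∈ center _ from x.2) (π (y : F))
    simp only [QuotientGroup.mk'_apply, π] at this
    rw [QuotientGroup.mk_mul, QuotientGroup.mk_inv, QuotientGroup.mk_mul, QuotientGroup.mk_mul, this, inv_mul_cancel]
  refine (Group.isSolvable_iff_subgroup_quotient Z1).mpr ⟨hZ1s, ?_⟩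
  set α := F.normalizerMonoidHom ⟨a, haF⟩ with hα
  have hαZ1 : Z1.map α.toMonoidHom = Z1 := by
    refine eq_of_le_of_card_ge ?_ (card_map_of_injective α.injective).ge
    rintro _ ⟨f, hf, rfl⟩
    refine (hmem _).mpr fun j => ?_
    have h1 := (hmem f).mp hf (α.symm j)
    have e : ⁅(j : X), ((α f : F) : X)⁆ = a * ⁅((α.symm j : F) : X), (f : X)⁆ * a⁻¹ := by
      have ej : (j : X) = a * ((α.symm j : F) : X) * a⁻¹ :=
        (congrArg Subtype.val (α.apply_symm_apply j)).symm
      rw [ej]
      show ⁅a * ((α.symm j : F) : X) * a⁻¹, a * (f : X) * a⁻¹⁆ = _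
      simp only [commutatorElement_def]
      group
    show ⁅(j : X), ((α f : F) : X)⁆ ∈ Z
    rw [e]
    exact (mem_normalizer_iff.mp haZ _).mp h1
  set σ := QuotientGroup.congr Z1 Z1 α hαZ1 with hσ
  have hfpf : MonoidHom.FixedPointFree (σ : F ⧸ Z1 →* F ⧸ Z1) := by
    intro y hy
    obtain ⟨f, rfl⟩ := QuotientGroup.mk_surjective y
    have hd : α f * f⁻¹ ∈ Z1 := by
      rw [← QuotientGroup.eq_one_iff, QuotientGroup.mk_mul, QuotientGroup.mk_inv, mul_inv_eq_one]
      exact hy
    set K := Z1.map F.subtype with hK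
    have hKF : K ≤ F := map_subtype_le _
    have hFK : F ≤ normalizer (K : Set X) := by
      rw [← normal_subgroupOf_iff_le_normalizer hKF, hK, ← comap_subtype, comap_map_eq_self_of_injective
        F.subtype_injective]
      infer_instance
    have haK : a ∈ normalizer (K : Set X) := by
      refine CfsgLib.Local.mem_normalizer_of_map_conj_eq ?_
      conv_rhs => rw [hK, ← hαZ1]
      rw [hK, map_map, map_map]
      rfl
    have hfx : ∀ b ∈ zpowers a, b * (f : X) * b⁻¹ * (f : X)⁻¹ ∈ K := by
      intro b hb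
      obtain ⟨i, rfl⟩ := mem_powers_iff_mem_zpowers.mpr hb
      clear hb
      induction i with
      | zero => simp
      | succ i ihi =>
        have e : a ^ (i + 1) * (f : X) * (a ^ (i + 1))⁻¹ * (f : X)⁻¹ =
            a * (a ^ i * (f : X) * (a ^ i)⁻¹ * (f : X)⁻¹) * a⁻¹ * (a * f * a⁻¹ * (f : X)⁻¹) := by
          rw [pow_succ']; group
        rw [e]
        exact mul_mem ((mem_normalizer_iff.mp haK _).mp ihi) ⟨_, hd, rfl⟩
    obtain ⟨c, hc, hfc⟩ := CfsgLib.coprime_fixed_quotient (zpowers_le.mpr haF)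
      (by rw [Nat.card_zpowers]; exact Nat.Coprime.coprime_dvd_left (orderOf_dvd_of_pow_eq_one har) hcop.symm)
      (Or.inl (Group.isSolvable_of_comm fun a b => mul_comm' a b)) hKF hFK (zpowers_le.mpr haK) f.2 hfx
    have hcZ : (⟨c, hc.1⟩ : F) ∈ Z1 :=
      (hmem _).mpr fun j => hfix c hc.1 (mem_centralizer_iff.mp hc.2 a (mem_zpowers a)) j j.2
    obtain ⟨z, hz, hzf⟩ := hfc
    rw [QuotientGroup.eq_one_iff]
    have : f = ⟨c, hc.1⟩ * z⁻¹ := Subtype.ext (by
      show (f : X) = c * (z : X)⁻¹
      rw [show (z : X) = (f : X)⁻¹ * c from hzf]; group)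
    rw [this]; exact mul_mem hcZ (inv_mem hz)
  haveI : Group.IsNilpotent (F ⧸ Z1) := by
    by_cases h1 : σ = 1
    · have htriv : ∀ y : F ⧸ Z1, y = 1 := fun y => hfpf y (by rw [h1]; rfl)
      haveI : Subsingleton (F ⧸ Z1) := ⟨fun x y => (htriv x).trans (htriv y).symm⟩
      infer_instance
    · refine CfsgLib.Frob.isNilpotent_of_fpf_prime σ hfpf (Fact.out : r.Prime) (orderOf_eq_prime ?_ h1)
      refine MulEquiv.ext fun y => ?_
      obtain ⟨f, rfl⟩ := QuotientGroup.mk_surjective y
      have key : ∀ n : ℕ, (σ ^ n) (QuotientGroup.mk f) = QuotientGroup.mk ((α ^ n) f) := by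
        intro n
        induction n with
        | zero => rfl
        | succ n ihn => rw [pow_succ', MulAut.mul_apply, ihn, pow_succ', MulAut.mul_apply]; rfl
      rw [key, hα, ← map_pow]
      have h0 : (⟨a, haF⟩ : normalizer (F : Set X)) ^ r = 1 := Subtype.ext (by simpa using har)
      rw [h0, map_one]; rfl
  infer_instance

end CfsgLib.QuadEquiv
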