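import Cfsg.Agent.Lib.Flavell1933.Main
import Cfsg.Agent.Lib.PResidual
import Cfsg.Agent.Lib.Components
import Cfsg.Agent.Lib.CoprimeGen

/-!
The subgroup `O^p(F*(H))` of a subgroup `H`, inside the ambient group.

Blueprint: `blueprint/S1931.md`.
-/

set_option autoImplicit false
set_option linter.unusedSectionVars false
set_option linter.style.haveILetI false

namespace CfsgLib.QuadEquiv

open Subgroup CfsgLib.Flavell1933
open scoped commutatorElement

universe u

variable {X : Type u} [Group X] {p : ℕ}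

/-- `O^p(F*(H))` inside the ambient group. -/
def resid (p : ℕ) (H : Subgroup X) : Subgroup X :=
  ((Cfsg.pResidual p ↥(Cfsg.generalizedFittingSubgroup ↥H)).map
    (Cfsg.generalizedFittingSubgroup ↥H).subtype).map H.subtype

/-- `O_q(H)` inside the ambient group. -/
def coreIn (q : ℕ) (H : Subgroup X) : Subgroup X := (Cfsg.pCore q ↥H).map H.subtype

theorem resid_le (H : Subgroup X) : resid p H ≤ H := map_subtype_le _

theorem coreIn_le (q : ℕ) (H : Subgroup X) : coreIn q H ≤ H := map_subtype_le _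

variable [Finite X]

theorem normalizer_le_map_char {H : Subgroup X} (A : Subgroup H) (hA : A.Characteristic) :
    normalizer (H : Set X) ≤ normalizer (A.map H.subtype : Set X) :=
  normalizer_of_maps fun g hg y hy => by
    obtain ⟨a, ha, rfl⟩ := hy
    exact ⟨_, characteristic_iff_map_le.mp hA (H.normalizerMonoidHom ⟨g, hg⟩) (mem_map_of_mem _ ha), rfl⟩

theorem normalizer_le_coreIn (q : ℕ) (H : Subgroup X) :
    normalizer (H : Set X) ≤ normalizer (coreIn q H : Set X) :=
  normalizer_le_map_char _ inferInstance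

theorem isPGroup_coreIn (q : ℕ) (H : Subgroup X) : IsPGroup q (coreIn q H) :=
  (CfsgLib.isPGroup_pCore q).map _

theorem le_coreIn {q : ℕ} {H N : Subgroup X} (hNH : N ≤ H) (hn : H ≤ normalizer (N : Set X))
    (hq : IsPGroup q N) : N ≤ coreIn q H := by
  haveI : (N.subgroupOf H).Normal := (normal_subgroupOf_iff_le_normalizer hNH).mpr hn
  have h1 := map_mono (f := H.subtype)
    (CfsgLib.le_pCore (hq.of_equiv (subgroupOfEquivOfLe hNH).symm) (N := N.subgroupOf H))
  rwa [map_subgroupOf_eq_of_le hNH] at h1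

theorem coreIn_mono {q : ℕ} {H N : Subgroup X} (hNH : N ≤ H) (hn : H ≤ normalizer (N : Set X)) :
    coreIn q N ≤ coreIn q H :=
  le_coreIn ((coreIn_le q N).trans hNH) (hn.trans (normalizer_le_coreIn q N)) (isPGroup_coreIn q N)

theorem coreIn_disjoint {q : ℕ} [Fact p.Prime] [Fact q.Prime] (hqp : q ≠ p) {A B : Subgroup X}
    (hA : IsPGroup p A) (hB : IsPGroup q B) : A ⊓ B = ⊥ :=
  disjoint_iff.mp (IsPGroup.disjoint_of_ne p q hqp.symm A B hA hB)

/-- A perfect subgroup inside the product of a `p`-group and a normal subgroup lies in the normal subgroup. -/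
theorem perfect_le_of_le_sup [Fact p.Prime] {G : Type u} [Group G] [Finite G] {A S N : Subgroup G} [N.Normal]
    (hperf : ⁅A, A⁆ = A) (hS : IsPGroup p S) (hA : A ≤ S ⊔ N) : A ≤ N := by
  set π := QuotientGroup.mk' N
  have h1 : A.map π ≤ S.map π := by
    refine (map_mono hA).trans ?_
    rw [Subgroup.map_sup, QuotientGroup.map_mk'_self, sup_bot_eq]
  haveI := ((hS.map π).to_le h1).isNilpotent
  have h2 : A.map π = ⊥ := by
    by_contra hne
    haveI : Nontrivial (A.map π) := (A.map π).nontrivial_iff_ne_bot.mpr hne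
    refine (Group.IsSolvable.commutator_lt_top_of_nontrivial (A.map π)).ne
      (map_injective (A.map π).subtype_injective ?_)
    rw [map_subtype_commutator, ← Subgroup.map_commutator, hperf, ← MonoidHom.range_eq_map, range_subtype]
  rwa [Subgroup.map_eq_bot_iff, QuotientGroup.ker_mk'] at h2

variable [Fact p.Prime]

theorem normalizer_le_resid (H : Subgroup X) : normalizer (H : Set X) ≤ normalizer (resid p H : Set X) := by
  refine normalizer_le_map_char _ ?_
  set F := Cfsg.generalizedFittingSubgroup ↥H with hF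
  refine characteristic_iff_map_le.mpr fun φ => ?_
  rw [map_le_iff_le_comap, map_le_iff_le_comap, Cfsg.pResidual]
  refine (closure_le _).mpr fun g hg => ?_
  have hm : φ (g : H) ∈ F := by
    have h := mem_map_of_mem φ.toMonoidHom g.2
    exact (CfsgLib.map_generalizedFittingSubgroup_equiv φ).le h
  refine ⟨⟨φ (g : H), hm⟩, subset_closure ?_, rfl⟩
  show (orderOf (⟨φ (g : H), hm⟩ : F)).Coprime p
  rw [Subgroup.orderOf_mk, MulEquiv.orderOf_eq, Subgroup.orderOf_coe]
  exact hg

theorem mem_resid {H : Subgroup X} {g : X} (hg : g ∈ H)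
    (hF : (⟨g, hg⟩ : H) ∈ Cfsg.generalizedFittingSubgroup ↥H) (ho : (orderOf g).Coprime p) : g ∈ resid p H := by
  refine ⟨⟨g, hg⟩, ⟨⟨⟨g, hg⟩, hF⟩, subset_closure ?_, rfl⟩, rfl⟩
  show (orderOf (⟨⟨g, hg⟩, hF⟩ : Cfsg.generalizedFittingSubgroup ↥H)).Coprime p
  rwa [Subgroup.orderOf_mk, Subgroup.orderOf_mk]

theorem layerIn_le_resid (H : Subgroup X) : layerIn H ≤ resid p H := by
  refine Subgroup.map_mono ?_
  set F := Cfsg.generalizedFittingSubgroup ↥H
  haveI := CfsgLib.PResidual.pResidual_normal (G := F) (p := p)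
  obtain ⟨S⟩ : Nonempty (Sylow p F) := inferInstance
  have hE : Cfsg.layer ↥H ≤ F := CfsgLib.layer_le_generalized
  have h1 : (Cfsg.layer ↥H).subgroupOf F ≤ Cfsg.pResidual p F := by
    refine perfect_le_of_le_sup ?_ S.2 (by rw [CfsgLib.PResidual.pResidual_sup_sylow]; exact le_top)
    refine Subgroup.map_injective F.subtype_injective ?_
    rw [Subgroup.map_commutator, map_subgroupOf_eq_of_le hE, CfsgLib.layer_commutator_self]
  have h2 := map_mono (f := F.subtype) h1
  rwa [map_subgroupOf_eq_of_le hE] at h2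

theorem coreIn_le_resid {q : ℕ} [Fact q.Prime] (hqp : q ≠ p) (H : Subgroup X) : coreIn q H ≤ resid p H := by
  rintro _ ⟨g, hg, rfl⟩
  refine mem_resid g.2 (CfsgLib.fittingSubgroup_le_generalized
    (CfsgLib.pCore_le_fittingSubgroup (Fact.out : q.Prime) hg)) ?_
  obtain ⟨k, hk⟩ := (CfsgLib.isPGroup_pCore (G := H) q) ⟨g, hg⟩
  refine Nat.Coprime.coprime_dvd_left (orderOf_dvd_of_pow_eq_one (n := q ^ k) ?_)
    (((Nat.coprime_primes (Fact.out : q.Prime) (Fact.out : p.Prime)).mpr hqp).pow_left k)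
  exact congrArg (fun y : (Cfsg.pCore q H : Subgroup H) => ((y : H) : X)) hk

/-- `O^p(F*(H))` is generated by the layer and the `q`-cores, `q ≠ p`. -/
theorem resid_le_of {H A : Subgroup X} (hE : layerIn H ≤ A)
    (hO : ∀ q : ℕ, q.Prime → q ≠ p → coreIn q H ≤ A) : resid p H ≤ A := by
  set F := Cfsg.generalizedFittingSubgroup ↥H
  set T : Subgroup ↥H := Cfsg.layer ↥H ⊔ ⨆ (q : ℕ) (_ : q.Prime) (_ : q ≠ p), Cfsg.pCore q ↥H
    with hT
  haveI : T.Normal := by rw [hT]; infer_instance
  have hFT : F ≤ Cfsg.pCore p ↥H ⊔ T := by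
    refine sup_le (le_sup_of_le_right le_sup_left) ?_
    rw [CfsgLib.fittingSubgroup_eq_iSup_pCore]
    refine iSup_le fun q => ?_
    by_cases hq : (q : ℕ) = p
    · rw [hq]; exact le_sup_left
    · exact le_sup_of_le_right (le_sup_of_le_right
        (le_iSup_of_le (q : ℕ) (le_iSup_of_le q.2 (le_iSup_of_le hq le_rfl))))
  have h1 : Cfsg.pResidual p F ≤ T.subgroupOf F := by
    refine CfsgLib.PResidual.pResidual_le_of_pow fun x => ?_
    obtain ⟨k, hk⟩ := CfsgLib.PResidual.pow_mem_sylow_sup (CfsgLib.isPGroup_pCore (G := H) p) (hFT x.2)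
    exact ⟨k, by rw [mem_subgroupOf, SubmonoidClass.coe_pow]; exact hk⟩
  refine (map_mono (f := H.subtype) ((map_mono (f := F.subtype) h1).trans ?_)).trans
    (show T.map H.subtype ≤ A from ?_)
  · rintro _ ⟨x, hx, rfl⟩; exact hx
  · rw [hT, Subgroup.map_sup]
    simp only [Subgroup.map_iSup]
    exact sup_le hE (iSup_le fun q => iSup_le fun hq => iSup_le fun hqp => hO q hq hqp)

/-- An element centralising `O^p(F*(H))` and `O_p(H)` lies in the centre of `F*(H)`. -/
theorem mem_gfit_of_commute {H : Subgroup X} {g : X} (hg : g ∈ H) (h1 : ∀ d ∈ resid p H, d * g = g * d)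
    (h2 : ∀ d ∈ coreIn p H, d * g = g * d) : (⟨g, hg⟩ : H) ∈ Cfsg.generalizedFittingSubgroup ↥H := by
  refine CfsgLib.centralizer_generalizedFitting_le ?_
  have hle : Cfsg.generalizedFittingSubgroup ↥H ≤ centralizer ({(⟨g, hg⟩ : H)} : Set H) := by
    refine sup_le ?_ ?_
    · intro d hd
      exact mem_centralizer_singleton_iff.mpr (Subtype.ext (h1 _ (layerIn_le_resid H (mem_map_of_mem _ hd))))
    · rw [CfsgLib.fittingSubgroup_eq_iSup_pCore]
      refine iSup_le fun q d hd => mem_centralizer_singleton_iff.mpr (Subtype.ext ?_)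
      haveI := Fact.mk q.2
      by_cases hq : (q : ℕ) = p
      · exact h2 _ ⟨d, hq ▸ hd, rfl⟩
      · exact h1 _ (coreIn_le_resid hq H (mem_map_of_mem _ hd))
  exact mem_centralizer_iff.mpr fun d hd => mem_centralizer_singleton_iff.mp (hle hd)

theorem mem_resid_of_commute {H : Subgroup X} {g : X} (hg : g ∈ H) (ho : (orderOf g).Coprime p)
    (h1 : ∀ d ∈ resid p H, d * g = g * d) (h2 : ∀ d ∈ coreIn p H, d * g = g * d) : g ∈ resid p H :=
  mem_resid hg (mem_gfit_of_commute hg h1 h2) ho

theorem layerIn_le_centralizer_coreIn {q : ℕ} [Fact q.Prime] (H : Subgroup X) :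
    layerIn H ≤ centralizer (coreIn q H : Set X) := by
  rintro _ ⟨e, he, rfl⟩
  refine mem_centralizer_iff.mpr ?_
  rintro _ ⟨d, hd, rfl⟩
  exact congrArg Subtype.val (mem_centralizer_iff.mp (CfsgLib.layer_le_centralizer_fitting he) d
    (CfsgLib.pCore_le_fittingSubgroup (Fact.out : q.Prime) hd))

omit [Fact p.Prime] in
theorem layerIn_mono {H N : Subgroup X} (hNH : N ≤ H) (hn : H ≤ normalizer (N : Set X)) :
    layerIn N ≤ layerIn H := by
  haveI : (N.subgroupOf H).Normal := (normal_subgroupOf_iff_le_normalizer hNH).mpr hn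
  refine layerIn_le_of_forall ?_
  rintro _ ⟨K, hK, rfl⟩
  have e : (K.map (subgroupOfEquivOfLe hNH).symm.toMonoidHom).map (N.subgroupOf H).subtype =
      (K.map N.subtype).subgroupOf H := by
    ext x
    simp only [mem_map, mem_subgroupOf]
    constructor
    · rintro ⟨_, ⟨k, hk, rfl⟩, rfl⟩; exact ⟨k, hk, rfl⟩
    · rintro ⟨k, hk, hkx⟩; exact ⟨_, ⟨k, hk, rfl⟩, Subtype.ext hkx⟩
  refine le_layerIn ⟨(K.map N.subtype).subgroupOf H, ?_, map_subgroupOf_eq_of_le ((map_subtype_le _).trans hNH)⟩
  rw [← e]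
  exact CfsgLib.isComponent_map_subtype (inferInstance : (N.subgroupOf H).Normal).isSubnormal
    (CfsgLib.isComponent_map_equiv _ hK)

theorem resid_mono {H N : Subgroup X} (hNH : N ≤ H) (hn : H ≤ normalizer (N : Set X)) :
    resid p N ≤ resid p H :=
  resid_le_of ((layerIn_mono hNH hn).trans (layerIn_le_resid H)) fun _ hq hqp =>
    haveI := Fact.mk hq
    (coreIn_mono hNH hn).trans (coreIn_le_resid hqp H)

omit [Fact p.Prime] in
theorem layerIn_perfect (H : Subgroup X) : ⁅layerIn H, layerIn H⁆ = layerIn H := by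
  rw [layerIn, ← Subgroup.map_commutator, CfsgLib.layer_commutator_self]

omit [Fact p.Prime] in
/-- A solvable normal subgroup of the layer is central in it. -/
theorem layerIn_radical_central {H N : Subgroup X} (hNE : N ≤ layerIn H)
    (hn : layerIn H ≤ normalizer (N : Set X)) (hs : Group.IsSolvable N) :
    N ≤ centralizer (layerIn H : Set X) := by
  rw [le_centralizer_iff]
  refine layerIn_le_of_forall fun K hK => ?_
  have hKn : K ≤ normalizer (N : Set X) := (le_layerIn hK).trans hn
  have hNK : N ≤ normalizer (K : Set X) := hNE.trans (layerIn_normalizes_comp hK)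
  have hle : ⁅N, K⁆ ≤ N ⊓ K := le_inf (CfsgLib.commutator_le_of_le_normalizer hKn)
    (by rw [Subgroup.commutator_comm]; exact CfsgLib.commutator_le_of_le_normalizer hNK)
  haveI : (N.subgroupOf K).Normal := normal_subgroupOf_of_le_normalizer hKn
  have hc : N.subgroupOf K ≤ center K := by
    refine (CfsgLib.quasisimple_normal_le_center_or_eq_top hK.quasisimple _).resolve_right fun e => ?_
    exact CfsgLib.isQuasisimple_not_isSolvable hK.quasisimple
      (Group.isSolvable_of_isSolvable_injective (f := Subgroup.inclusion (subgroupOf_eq_top.mp e))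
        (Subgroup.inclusion_injective _))
  have hKc : N ⊓ K ≤ centralizer (K : Set X) := fun x hx => mem_centralizer_iff.mpr fun k hk =>
    congrArg Subtype.val (mem_center_iff.mp (hc (show (⟨x, hx.2⟩ : K) ∈ N.subgroupOf K from hx.1)) ⟨k, hk⟩)
  have h1 : ⁅⁅N, K⁆, K⁆ = ⊥ := commutator_eq_bot_iff_le_centralizer.mpr (hle.trans hKc)
  have h2 : ⁅⁅K, N⁆, K⁆ = ⊥ := by rw [Subgroup.commutator_comm K N]; exact h1
  have h3 := commutator_commutator_eq_bot_of_rotate (H₁ := K) (H₂ := K) (H₃ := N) h2 h1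
  rw [hK.perfect] at h3
  exact commutator_eq_bot_iff_le_centralizer.mp h3

omit [Fact p.Prime] in
/-- If `R` centralises a subgroup normalised by `N`, then `[N, R]` centralises it too. -/
theorem commutator_le_centralizer_of_fixed {D N R : Subgroup X} (hN : N ≤ normalizer (D : Set X))
    (hD : D ≤ centralizer (R : Set X)) : ⁅N, R⁆ ≤ centralizer (D : Set X) := by
  rw [← commutator_eq_bot_iff_le_centralizer]
  refine commutator_commutator_eq_bot_of_rotate (H₁ := N) (H₂ := R) (H₃ := D) ?_ ?_
  · rw [Subgroup.commutator_comm R D, commutator_eq_bot_iff_le_centralizer.mpr hD, commutator_bot_left]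
  · have hb : ⁅D, R⁆ = ⊥ := commutator_eq_bot_iff_le_centralizer.mpr hD
    exact le_bot_iff.mp (hb ▸ commutator_mono (CfsgLib.commutator_le_of_le_normalizer hN) le_rfl)

end CfsgLib.QuadEquiv
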