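import Cfsg.Agent.Lib.QuadEquiv.Setting
import Cfsg.Agent.Lib.QuadEquiv.ResidBasic

/-!
A subgroup `N` whose `O^p(F*(N))` is centralised by the operators: the least fixed point of `P ∩ N` is
normalised by `N`.

Blueprint: `blueprint/S1931.md`.
-/

set_option autoImplicit false
set_option linter.unusedSectionVars false
set_option linter.style.haveILetI false

namespace CfsgLib.QuadEquiv

open Subgroup
open scoped commutatorElement Pointwise

universe u

variable {X : Type u} [Group X] [Finite X] {p r : ℕ} [Fact p.Prime] [Fact r.Prime] {G R : Subgroup X}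

/-- The reduced configuration. -/
structure Cfg (p r : ℕ) (G R : Subgroup X) : Prop where
  hRG : R ≤ normalizer (G : Set X)
  hcop : (Nat.card G).Coprime r
  hcard : Nat.card R = r ^ 2
  hexp : ∀ a ∈ R, a ^ r = 1
  hab : ∀ a ∈ R, ∀ b ∈ R, a * b = b * a
  hperf : ⁅G, G⁆ = G
  hrad : ∀ N ≤ G, G ≤ normalizer (N : Set X) → Group.IsSolvable N → N ≤ centralizer (G : Set X)
  hloc : ∀ a ∈ R, a ≠ 1 → resid p (G ⊓ centralizer ({a} : Set X)) ≤ centralizer (R : Set X)

/-- A subgroup whose `O^p(F*)` is centralised by the operators. -/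
structure GoodN (p : ℕ) (G R N : Subgroup X) : Prop where
  le : N ≤ G
  hC : G ⊓ centralizer (R : Set X) ≤ N
  hR : R ≤ normalizer (N : Set X)
  fix : resid p N ≤ centralizer (R : Set X)

theorem Cfg.cop (cf : Cfg p r G R) {A : Subgroup X} (hA : A ≤ G) : (Nat.card R).Coprime (Nat.card A) := by
  rw [cf.hcard]
  exact ((cf.hcop.coprime_dvd_left (card_dvd_of_le hA)).pow_right 2).symm

theorem le_normalizer_inf {K A B : Subgroup X} (hA : K ≤ normalizer (A : Set X)) (hB : K ≤ normalizer (B : Set X)) :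
    K ≤ normalizer ((A ⊓ B : Subgroup X) : Set X) := fun _ hg => mem_normalizer_inf (hA hg) (hB hg)

/-- An invariant `p`-subgroup normalised by the fixed points lies in the meet of the invariant Sylow subgroups. -/
theorem le_sylowMeet {Y : Subgroup X} (hRG : R ≤ normalizer (G : Set X)) (hcop : (Nat.card R).Coprime (Nat.card G))
    (hYG : Y ≤ G) (hYp : IsPGroup p Y) (hRY : R ≤ normalizer (Y : Set X))
    (hCY : G ⊓ centralizer (R : Set X) ≤ normalizer (Y : Set X)) : Y ≤ sylowMeet p G R := by
  refine le_iInf fun ⟨S, hS⟩ => ?_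
  obtain ⟨S0, hYS, hS0⟩ := CfsgLib.coprime_le_invariant_sylow hRG hcop (QuadFixed.solvable_or_of_coprime hcop)
    hYG hYp hRY
  obtain ⟨c, hc, hcS⟩ := CfsgLib.coprime_invariant_sylow_conj hRG hcop (QuadFixed.solvable_or_of_coprime hcop) S0 S
    hS0 (fun a ha => CfsgLib.Local.mem_normalizer_of_map_conj_eq (hS a ha))
  intro y hy
  have h1 : (c : X)⁻¹ * y * c ∈ Y := by
    simpa [mul_assoc] using (mem_normalizer_iff.mp (inv_mem (hCY ⟨c.2, hc⟩)) y).mp hy
  obtain ⟨z, hz, hzy⟩ := hYS h1
  refine ⟨MulAut.conj c z, ?_, ?_⟩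
  · have e : (S : Subgroup G) = MulAut.conj c • (S0 : Subgroup G) := by
      first
        | exact hcS.symm
        | (rw [← hcS]; rfl)
    show MulAut.conj c z ∈ (S : Subgroup G)
    rw [e]
    exact smul_mem_pointwise_smul _ _ _ hz
  · show (c : X) * (z : X) * (c : X)⁻¹ = y
    rw [show (z : X) = (c : X)⁻¹ * y * c from hzy]; group

/-- A `p`-group normalised by a subgroup `E` lies in its centraliser if `E` is perfect with central soluble
normal subgroups. -/
theorem Cfg.pGroup_central (cf : Cfg p r G R) {A : Subgroup X} (hA : A ≤ G) (hn : G ≤ normalizer (A : Set X))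
    (hp : IsPGroup p A) : A ≤ centralizer (G : Set X) :=
  haveI := hp.isNilpotent
  cf.hrad A hA hn inferInstance

/-- The data of a good subgroup. -/
theorem GoodN.data (cf : Cfg p r G R) (hp : 5 ≤ p) {N : Subgroup X} (g : GoodN p G R N) :
    N ≤ normalizer (kGroup (sylowMeet p G R ⊓ N) : Set X) ∧
    ∃ C0, C0 ≤ kGroup (sylowMeet p G R ⊓ N) ∧
      ⁅N ⊓ centralizer (resid p N : Set X) ⊓ centralizer (C0 : Set X), R⁆ ≤ coreIn p N ∧
      coreIn p N ⊓ centralizer (C0 : Set X) ≤ C0 := by
  classical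
  set D := resid p N with hD
  set Q := coreIn p N with hQ
  set P := sylowMeet p G R with hP
  set U := P ⊓ N with hU
  set G0 := N ⊓ centralizer (D : Set X) with hG0
  have S0 := setup_sylowMeet (p := p) cf.hRG (cf.cop le_rfl)
  have hND : normalizer (N : Set X) ≤ normalizer (D : Set X) := normalizer_le_resid N
  have hcD : normalizer (N : Set X) ≤ normalizer (centralizer (D : Set X) : Set X) := by
    refine fun n hn => mem_normalizer_iff.mpr ?_
    have key : ∀ n ∈ normalizer (N : Set X), ∀ x ∈ centralizer (D : Set X), n * x * n⁻¹ ∈ centralizer (D : Set X) := by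
      intro n hn x hx
      refine mem_centralizer_iff.mpr fun d hd => ?_
      have h1 := mem_centralizer_iff.mp hx _ ((mem_normalizer_iff.mp (inv_mem (hND hn)) d).mp hd)
      calc d * (n * x * n⁻¹) = n * ((n⁻¹ * d * n⁻¹⁻¹) * x) * n⁻¹ := by group
        _ = n * (x * (n⁻¹ * d * n⁻¹⁻¹)) * n⁻¹ := by rw [h1]
        _ = n * x * n⁻¹ * d := by group
    exact fun x => ⟨key n hn x, fun h => by simpa [mul_assoc] using key _ (inv_mem hn) _ h⟩
  have hG0n : normalizer (N : Set X) ≤ normalizer (G0 : Set X) := le_normalizer_inf le_rfl hcD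
  -- `D` normalises `U`, which centralises it
  have hDC : D ≤ G ⊓ centralizer (R : Set X) := le_inf ((resid_le N).trans g.le) g.fix
  have hUn : D ≤ normalizer (U : Set X) := le_normalizer_inf (hDC.trans S0.hCP) ((resid_le N).trans le_normalizer)
  have hUp : IsPGroup p U := S0.hPp.to_le inf_le_left
  have hUC : U ≤ centralizer (D : Set X) := by
    rw [le_centralizer_iff, hD]
    refine resid_le_of ?_ fun q hq hqp => ?_
    · set E := Flavell1933.layerIn N with hE
      have hEn : N ≤ normalizer (E : Set X) := le_normalizer.trans (Flavell1933.normalizer_le_layerIn N)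
      have hUE : U ≤ normalizer (E : Set X) := inf_le_right.trans hEn
      have hEU : E ≤ normalizer (U : Set X) := (layerIn_le_resid N).trans hUn
      have hA : ⁅E, U⁆ ≤ U ⊓ E := le_inf
        (by rw [Subgroup.commutator_comm]; exact CfsgLib.commutator_le_of_le_normalizer hEU)
        (CfsgLib.commutator_le_of_le_normalizer hUE)
      haveI := (hUp.to_le (inf_le_left : U ⊓ E ≤ U)).isNilpotent
      have hc : U ⊓ E ≤ centralizer (E : Set X) := layerIn_radical_central (H := N) inf_le_right
        (le_normalizer_inf hEU le_normalizer) inferInstance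
      have h1 : ⁅⁅E, U⁆, E⁆ = ⊥ := commutator_eq_bot_iff_le_centralizer.mpr (hA.trans hc)
      have h2 : ⁅⁅U, E⁆, E⁆ = ⊥ := by rw [Subgroup.commutator_comm U E]; exact h1
      have h3 := commutator_commutator_eq_bot_of_rotate (H₁ := E) (H₂ := E) (H₃ := U) h1 h2
      rw [hE, layerIn_perfect] at h3
      exact commutator_eq_bot_iff_le_centralizer.mp h3
    · haveI := Fact.mk hq
      have hUq : U ≤ normalizer (coreIn q N : Set X) :=
        inf_le_right.trans (le_normalizer.trans (normalizer_le_coreIn q N))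
      refine commutator_eq_bot_iff_le_centralizer.mp (le_bot_iff.mp ?_)
      rw [← coreIn_disjoint hqp hUp (isPGroup_coreIn q N)]
      refine le_inf ?_ ?_
      · first
          | exact CfsgLib.commutator_le_of_le_normalizer ((coreIn_le_resid hqp N).trans hUn)
          | (rw [Subgroup.commutator_comm]
             exact CfsgLib.commutator_le_of_le_normalizer ((coreIn_le_resid hqp N).trans hUn))
      · first
          | exact CfsgLib.commutator_le_of_le_normalizer hUq
          | (rw [Subgroup.commutator_comm]; exact CfsgLib.commutator_le_of_le_normalizer hUq)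
  have hQN : Q ≤ N := coreIn_le p N
  have hQn : normalizer (N : Set X) ≤ normalizer (Q : Set X) := normalizer_le_coreIn p N
  have hCN : G ⊓ centralizer (R : Set X) ≤ normalizer (N : Set X) := g.hC.trans le_normalizer
  have hQP : Q ≤ P := le_sylowMeet cf.hRG (cf.cop le_rfl) (hQN.trans g.le) (isPGroup_coreIn p N)
    (g.hR.trans hQn) (hCN.trans hQn)
  have hQU : Q ≤ U := le_inf hQP hQN
  have hUG0 : U ≤ G0 := le_inf inf_le_right hUC
  have S : Setup p G0 R Q U := by
    refine ⟨g.hR.trans hG0n, cf.cop (inf_le_left.trans g.le), hQU.trans hUG0,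
      sup_le ((inf_le_left.trans le_normalizer).trans hQn) (g.hR.trans hQn), isPGroup_coreIn p N, ?_, hUG0, hUp, hQU,
      le_normalizer_inf S0.hRP g.hR,
      le_normalizer_inf (fun x hx => S0.hCP ⟨g.le hx.1.1, hx.2⟩) (inf_le_left.trans (inf_le_left.trans le_normalizer))⟩
    intro M hM hG0M hMp
    have h1 : M ≤ coreIn p G0 := le_coreIn hM hG0M hMp
    exact h1.trans (coreIn_mono inf_le_left (le_normalizer.trans hG0n))
  obtain ⟨C, hch, hcom, hpow, hcen⟩ := CfsgLib.Small.exists_critical (S.hQp)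
  haveI := hch
  set C0 := C.map Q.subtype with hC0
  have hdet : ∀ x ∈ G0, (orderOf x).Coprime p → (∀ c ∈ C0, ⁅x, c⁆ = 1) → x ∈ D := by
    intro x hx hord h
    have hxn : x ∈ normalizer (Q : Set X) := hQn (le_normalizer hx.1)
    set α := Q.normalizerMonoidHom ⟨x, hxn⟩ with hα
    have hα1 : α = 1 := by
      refine CfsgLib.Small.eq_one_of_fixes_critical S.hQp hcom hpow hcen ?_ fun c hc _ => ?_
      · refine Nat.Coprime.coprime_dvd_left ?_ hord
        have h1 := orderOf_map_dvd Q.normalizerMonoidHom ⟨x, hxn⟩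
        rwa [Subgroup.orderOf_mk] at h1
      · refine Subtype.ext ?_
        show x * (c : X) * x⁻¹ = c
        exact mul_inv_eq_iff_eq_mul.mpr (commutatorElement_eq_one_iff_mul_comm.mp (h _ ⟨c, hc, rfl⟩))
    refine mem_resid_of_commute hx.1 hord (mem_centralizer_iff.mp hx.2) fun q hq => ?_
    have h1 : x * q * x⁻¹ = q := congrArg (fun φ : MulAut Q => ((φ ⟨q, hq⟩ : Q) : X)) hα1
    exact (mul_inv_eq_iff_eq_mul.mp h1).symm
  have hDG0 : ∀ x ∈ D, x ∈ centralizer (G0 : Set X) := fun x hx =>
    mem_centralizer_iff.mpr fun y hy => (mem_centralizer_iff.mp hy.2 x hx).symm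
  have hC0n : normalizer (N : Set X) ≤ normalizer (C0 : Set X) := fun a ha => by
    have hle := normalizer_le_map_char C hch (hQn ha)
    exact hle
  have Cd : CritData p G0 R Q C0 := by
    refine ⟨map_subtype_le _, sup_le ((inf_le_left.trans le_normalizer).trans hC0n) (g.hR.trans hC0n), ?_,
      fun x hx ho h => hDG0 x (hdet x hx ho h)⟩
    rintro q hq _ ⟨c, hc, rfl⟩
    have h1 := hcom ⟨q, hq⟩ c hc
    refine mem_zc.mpr ⟨⟨_, h1.1, rfl⟩, ?_⟩
    rintro _ ⟨d, hd, rfl⟩
    exact congrArg Subtype.val (h1.2 d hd)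
  obtain ⟨hK, hC0K⟩ := kGroup_eq S hp Cd
  refine ⟨fun n hn => ?_, C0, hK ▸ hC0K, ?_, ?_⟩
  · rw [hK]; exact mem_normalizer_kGroup (hQn (le_normalizer hn))
  · set M := N ⊓ centralizer (D : Set X) ⊓ centralizer (C0 : Set X) with hM
    set Z := centralizer (M : Set X) ⊓ centralizer (R : Set X) with hZ
    have hMG0 : M ≤ G0 := inf_le_left
    have hpowM : ∀ x ∈ M, ∃ k : ℕ, x ^ p ^ k ∈ Z := fun x hx => by
      obtain ⟨k, hk⟩ := CfsgLib.PResidual.exists_pow_coprime (p := p) x
      have h1 : x ^ p ^ k ∈ D := hdet _ (pow_mem (hMG0 hx) _) hk fun c hc =>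
        commutatorElement_eq_one_iff_mul_comm.mpr (mem_centralizer_iff.mp (pow_mem hx _).2 c hc).symm
      exact ⟨k, centralizer_le hMG0 (hDG0 _ h1), g.fix h1⟩
    haveI hZn : (Z.subgroupOf M).Normal := ⟨fun z hz m => by
      have h : (m : X) * z = z * m := mem_centralizer_iff.mp hz.1 m m.2
      have e : m * z * m⁻¹ = z := Subtype.ext (by
        show (m : X) * z * (m : X)⁻¹ = z
        rw [h, mul_inv_cancel_right])
      rw [e]; exact hz⟩
    obtain ⟨T⟩ : Nonempty (Sylow p M) := inferInstance
    have htop : (T : Subgroup M) ⊔ Z.subgroupOf M = ⊤ := by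
      refine eq_top_iff.mpr ((CfsgLib.PResidual.pResidual_sup_sylow T).ge.trans (sup_le_sup_left ?_ _))
      exact CfsgLib.PResidual.pResidual_le_of_pow fun x => by
        obtain ⟨k, hk⟩ := hpowM x x.2
        exact ⟨k, by rw [mem_subgroupOf, SubmonoidClass.coe_pow]; exact hk⟩
    haveI hTn : (T : Subgroup M).Normal := by
      refine normalizer_eq_top_iff.mp (eq_top_iff.mpr (htop.ge.trans (sup_le le_normalizer fun z hz => ?_)))
      refine mem_normalizer_iff.mpr fun t => ?_
      have e : z * t * z⁻¹ = t := Subtype.ext (by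
        show (z : X) * t * (z : X)⁻¹ = t
        calc (z : X) * t * (z : X)⁻¹ = (t : X) * z * (z : X)⁻¹ := congrArg (· * (z : X)⁻¹) (mem_centralizer_iff.mp hz.1 t t.2).symm
          _ = t := mul_inv_cancel_right _ _)
      rw [e]
    have hMn : N ≤ normalizer (M : Set X) := le_normalizer_inf (le_normalizer.trans hG0n) fun n hn => by
      exact (GRInv.centralizer (G := N) (R := ⊥) (U := C0) (sup_le (le_normalizer.trans hC0n) bot_le)) (mem_sup_left hn)
    have hTQ : (T : Subgroup M).map M.subtype ≤ Q :=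
      le_coreIn ((map_subtype_le _).trans (inf_le_left.trans inf_le_left))
        (hMn.trans (normalizer_le_map_char _ (T.characteristic_of_normal hTn))) (T.2.map _)
    refine commutator_le.mpr fun x hx a ha => ?_
    obtain ⟨t, ht, z, hz, e⟩ := mem_sup_of_normal_right.mp (htop.ge (mem_top (⟨x, hx⟩ : M)))
    have hza : (z : X) * a = a * z := (mem_centralizer_iff.mp hz.2 a ha).symm
    have htQ : (t : X) ∈ Q := hTQ ⟨t, ht, rfl⟩
    rw [show x = (t : X) * z from (congrArg Subtype.val e).symm, commutator_left_mul hza,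
      show ⁅(t : X), a⁆ = t * (a * (t : X)⁻¹ * a⁻¹) by simp only [commutatorElement_def]; group]
    exact mul_mem htQ ((mem_normalizer_iff.mp (hQn (g.hR ha)) _).mp (inv_mem htQ))
  · rintro x ⟨hxQ, hxC⟩
    exact ⟨⟨x, hxQ⟩, hcen (mem_centralizer_iff.mpr fun c hc => Subtype.ext
      (mem_centralizer_iff.mp hxC c ⟨c, hc, rfl⟩)), rfl⟩

end CfsgLib.QuadEquiv
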