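import Cfsg.Agent.Lib.QuadEquiv.ResidStep

/-!
An abelian group of type `(r, r)` centralising the local residual layers centralises the group.

Blueprint: `blueprint/S1931.md`.
-/

set_option autoImplicit false
set_option linter.unusedSectionVars false
set_option linter.style.haveILetI false

namespace CfsgLib.QuadEquiv

open Subgroup
open scoped commutatorElement

universe u

variable {X : Type u} [Group X] [Finite X] {p r : ℕ} [Fact p.Prime] [Fact r.Prime] {G R : Subgroup X}

/-- A good subgroup over a centraliser contains the invariant `p`-subgroup after enlargement. -/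
theorem GoodN.enlarge (cf : Cfg p r G R) (hp : 5 ≤ p) {a : X} (ha : a ∈ R) (ha1 : a ≠ 1) :
    ∀ (m : ℕ) (N : Subgroup X), GoodN p G R N → G ⊓ centralizer ({a} : Set X) ≤ N →
      Nat.card (sylowMeet p G R : Subgroup X) - Nat.card (sylowMeet p G R ⊓ N : Subgroup X) = m →
      ∃ N', GoodN p G R N' ∧ G ⊓ centralizer ({a} : Set X) ≤ N' ∧ sylowMeet p G R ≤ N' := by
  intro m
  induction m using Nat.strong_induction_on with
  | _ m ih =>
    intro N g hCa hm
    by_cases h : sylowMeet p G R ≤ N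
    · exact ⟨N, g, hCa, h⟩
    obtain ⟨N', g', hCa', hlt⟩ := g.step cf hp ha ha1 hCa h
    refine ih _ ?_ N' g' hCa' rfl
    have h1 : Nat.card (sylowMeet p G R ⊓ N : Subgroup X) < Nat.card (sylowMeet p G R ⊓ N' : Subgroup X) := by
      by_contra hc
      exact hlt.ne (Subgroup.eq_of_le_of_card_ge hlt.le (not_lt.mp hc))
    have h2 : Nat.card (sylowMeet p G R ⊓ N' : Subgroup X) ≤ Nat.card (sylowMeet p G R : Subgroup X) :=
      card_le_of_le inf_le_left
    omega

theorem Cfg.exists_good (cf : Cfg p r G R) (hp : 5 ≤ p) {a : X} (ha : a ∈ R) (ha1 : a ≠ 1) :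
    ∃ N, GoodN p G R N ∧ G ⊓ centralizer ({a} : Set X) ≤ N ∧ sylowMeet p G R ≤ N :=
  GoodN.enlarge cf hp ha ha1 _ _ ⟨inf_le_left, cf.cent_le ha, cf.le_normalizer_cent ha, cf.hloc a ha ha1⟩ le_rfl rfl

/-- The operators centralise the group. -/
theorem Cfg.centralizes (cf : Cfg p r G R) (hp : 5 ≤ p) : G ≤ centralizer (R : Set X) := by
  classical
  set P := sylowMeet p G R with hP
  have S0 := setup_sylowMeet (p := p) cf.hRG (cf.cop le_rfl)
  haveI := cf.comm_inst
  have hgen := CfsgLib.coprime_generated_by_centralizers cf.not_cyclic cf.hRG (cf.cop (le_refl G))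
  have hKn : G ≤ normalizer (kGroup P : Set X) := by
    rw [← hgen]
    refine iSup₂_le fun a ha => ?_
    obtain ⟨N, g, hCa, hPN⟩ := cf.exists_good hp ha.1 ha.2
    obtain ⟨hNK, -⟩ := g.data cf hp
    rw [inf_eq_left.mpr hPN] at hNK
    exact hCa.trans hNK
  have hKc : kGroup P ≤ centralizer (G : Set X) :=
    cf.pGroup_central (kGroup_le.trans S0.hPG) hKn (S0.hPp.to_le kGroup_le)
  have hstep : ∀ a ∈ R, a ≠ 1 → ⁅G ⊓ centralizer ({a} : Set X), R⁆ ≤ centralizer (G : Set X) := by
    intro a ha ha1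
    obtain ⟨N, g, hCa, hPN⟩ := cf.exists_good hp ha ha1
    obtain ⟨-, C0, hC0, hMR, hcen⟩ := g.data cf hp
    rw [inf_eq_left.mpr hPN] at hC0
    have hC0c : C0 ≤ centralizer (G : Set X) := hC0.trans hKc
    have hGC0 : G ≤ centralizer (C0 : Set X) := le_centralizer_iff.mp hC0c
    have hQ : coreIn p N ≤ centralizer (G : Set X) :=
      (le_inf le_rfl (((coreIn_le p N).trans g.le).trans hGC0)).trans (hcen.trans hC0c)
    have hRCa := cf.le_normalizer_cent ha
    have h1 : ⁅G ⊓ centralizer ({a} : Set X), R⁆ ≤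
        N ⊓ centralizer (resid p N : Set X) ⊓ centralizer (C0 : Set X) :=
      le_inf (le_inf ((CfsgLib.commutator_le_of_le_normalizer hRCa).trans hCa)
        (commutator_le_centralizer_of_fixed (hCa.trans (le_normalizer.trans (normalizer_le_resid N))) g.fix))
        ((CfsgLib.commutator_le_of_le_normalizer hRCa).trans (inf_le_left.trans hGC0))
    rw [← CfsgLib.coprime_commutator_commutator hRCa (cf.cop inf_le_left)
      (QuadFixed.solvable_or_of_coprime (cf.cop inf_le_left))]
    exact ((commutator_mono h1 le_rfl).trans hMR).trans hQ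
  let H : Subgroup X :=
    { carrier := {x | x ∈ G ∧ ∀ b ∈ R, ⁅x, b⁆ ∈ centralizer (G : Set X)}
      one_mem' := ⟨one_mem _, fun b _ => by rw [commutatorElement_one_left]; exact one_mem _⟩
      mul_mem' := fun {x y} hx hy => ⟨mul_mem hx.1 hy.1, fun b hb => by
        have h := mem_centralizer_iff.mp (hy.2 b hb) x hx.1
        have e : ⁅x * y, b⁆ = x * ⁅y, b⁆ * x⁻¹ * ⁅x, b⁆ := by simp only [commutatorElement_def]; group
        rw [e, h, mul_inv_cancel_right]
        exact mul_mem (hy.2 b hb) (hx.2 b hb)⟩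
      inv_mem' := fun {x} hx => ⟨inv_mem hx.1, fun b hb => by
        have h := mem_centralizer_iff.mp (inv_mem (hx.2 b hb)) x⁻¹ (inv_mem hx.1)
        have e : ⁅x⁻¹, b⁆ = x⁻¹ * ⁅x, b⁆⁻¹ * x := by simp only [commutatorElement_def]; group
        rw [e, h, inv_mul_cancel_right]
        exact inv_mem (hx.2 b hb)⟩ }
  have hGH : G ≤ H := by
    conv_lhs => rw [← hgen]
    exact iSup₂_le fun a ha x hx => ⟨hx.1, fun b hb => hstep a ha.1 ha.2 (commutator_mem_commutator hx hb)⟩
  have hGR : ⁅G, R⁆ ≤ centralizer (G : Set X) := commutator_le.mpr fun x hx b hb => (hGH hx).2 b hb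
  have h1 : ⁅⁅G, R⁆, G⁆ = ⊥ := commutator_eq_bot_iff_le_centralizer.mpr hGR
  have h2 : ⁅⁅R, G⁆, G⁆ = ⊥ := by rw [Subgroup.commutator_comm R G]; exact h1
  have h3 := commutator_commutator_eq_bot_of_rotate (H₁ := G) (H₂ := G) (H₃ := R) h1 h2
  rw [cf.hperf] at h3
  exact commutator_eq_bot_iff_le_centralizer.mp h3

/-- A noncyclic abelian `r`-group contains a subgroup of order `r ^ 2` and exponent `r`. -/
theorem exists_rr_subgroup (hR : IsPGroup r R) (hab : IsMulCommutative R) (hnc : ¬ IsCyclic R) :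
    ∃ R0 ≤ R, Nat.card R0 = r ^ 2 ∧ ∀ x ∈ R0, x ^ r = 1 := by
  haveI := hab
  obtain ⟨q, hq, a, b, ha, hb, hnot⟩ := CfsgLib.exists_two_generators_of_not_cyclic hnc
  have hr := (Fact.out : r.Prime)
  have hqr : q = r := by
    obtain ⟨k, hk⟩ := hR a
    exact (Nat.prime_dvd_prime_iff_eq hq hr).mp (hq.dvd_of_dvd_pow (ha ▸ orderOf_dvd_of_pow_eq_one hk))
  subst hqr
  set A : Subgroup X := zpowers (a : X) with hA
  set B : Subgroup X := zpowers (b : X) with hB
  have hAR : A ≤ R := zpowers_le.mpr a.2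
  have hBR : B ≤ R := zpowers_le.mpr b.2
  have hcA : Nat.card A = q := by rw [hA, Nat.card_zpowers, Subgroup.orderOf_coe]; exact ha
  have hcB : Nat.card B = q := by rw [hB, Nat.card_zpowers, Subgroup.orderOf_coe]; exact hb
  have hcomm : ∀ x ∈ R, ∀ y ∈ R, x * y = y * x := fun x hx y hy =>
    congrArg Subtype.val (mul_comm' (⟨x, hx⟩ : R) ⟨y, hy⟩)
  have hBn : B ≤ normalizer (A : Set X) := fun y hy => mem_normalizer_iff.mpr fun x => by
    constructor
    · intro hx
      rw [hcomm y (hBR hy) x (hAR hx), mul_inv_cancel_right]; exact hx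
    · intro hx
      have h1 : x = y⁻¹ * (y * x * y⁻¹) * y := by group
      rw [h1, hcomm y⁻¹ (R.inv_mem (hBR hy)) _ (hAR hx), inv_mul_cancel_right]; exact hx
  have hexp : ∀ x ∈ A ⊔ B, x ^ q = 1 := by
    intro x hx
    obtain ⟨u, hu, v, hv, rfl⟩ := CfsgLib.mem_sup_of_le_normalizer hBn hx
    rw [(show Commute u v from hcomm u (hAR hu) v (hBR hv)).mul_pow,
      ← hcA, show u ^ Nat.card A = 1 from congrArg Subtype.val (pow_card_eq_one' (G := A) (x := ⟨u, hu⟩)), hcA,
      ← hcB, show v ^ Nat.card B = 1 from congrArg Subtype.val (pow_card_eq_one' (G := B) (x := ⟨v, hv⟩)), one_mul]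
  refine ⟨A ⊔ B, sup_le hAR hBR, le_antisymm ?_ ?_, hexp⟩
  · have hs : Function.Surjective
        (fun z : A × B => (⟨(z.1 : X) * z.2, mul_mem (mem_sup_left z.1.2) (mem_sup_right z.2.2)⟩ : (A ⊔ B : Subgroup X))) := by
      rintro ⟨x, hx⟩
      obtain ⟨u, hu, v, hv, rfl⟩ := CfsgLib.mem_sup_of_le_normalizer hBn hx
      exact ⟨(⟨u, hu⟩, ⟨v, hv⟩), rfl⟩
    refine (Nat.card_le_card_of_surjective _ hs).trans ?_
    rw [Nat.card_prod, hcA, hcB, pow_two]
  · have hlt : A < A ⊔ B := lt_of_le_of_ne le_sup_left fun e => hnot (by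
      have h1 : (b : X) ∈ A := e ▸ mem_sup_right (mem_zpowers _)
      obtain ⟨i, hi⟩ := h1
      exact ⟨i, Subtype.ext (by simpa using hi)⟩)
    obtain ⟨k, hk⟩ := IsPGroup.iff_card.mp (hR.to_le (sup_le hAR hBR))
    rw [hk]
    refine Nat.pow_le_pow_right hr.pos ?_
    by_contra hc
    have h2 := Nat.pow_le_pow_right hr.pos (show k ≤ 1 by omega)
    rw [← hk, pow_one, ← hcA] at h2
    exact hlt.ne (Subgroup.eq_of_le_of_card_ge hlt.le h2)

/-- A noncyclic abelian `r`-group centralising the local residual layers centralises the residual layer. -/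
theorem resid_centralized (hp : 5 ≤ p) (hR : IsPGroup r R) (hcop : (Nat.card G).Coprime r)
    (hRG : R ≤ normalizer (G : Set X)) (hab : IsMulCommutative R) (hnc : ¬ IsCyclic R)
    (hloc : ∀ a ∈ R, a ≠ 1 → resid p (G ⊓ centralizer ({a} : Set X)) ≤ centralizer (R : Set X)) :
    resid p G ≤ centralizer (R : Set X) := by
  haveI := hab
  have hcR : (Nat.card R).Coprime (Nat.card G) := by
    obtain ⟨k, hk⟩ := IsPGroup.iff_card.mp hR
    rw [hk]; exact (hcop.pow_right k).symm
  refine resid_le_of ?_ fun q hq hqp => ?_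
  · obtain ⟨R0, hR0, hcard, hexp⟩ := exists_rr_subgroup hR hab hnc
    set E := Flavell1933.layerIn G with hE
    have hEG : E ≤ G := Flavell1933.layerIn_le G
    have hGE : G ≤ normalizer (E : Set X) := le_normalizer.trans (Flavell1933.normalizer_le_layerIn G)
    have hsub : ∀ a ∈ R, a ≠ 1 → resid p (E ⊓ centralizer ({a} : Set X)) ≤ centralizer (R : Set X) := fun a ha ha1 =>
      (resid_mono (inf_le_inf_right _ hEG)
        (le_normalizer_inf (inf_le_left.trans hGE) (inf_le_right.trans le_normalizer))).trans (hloc a ha ha1)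
    have cf : Cfg p r E R0 := ⟨hR0.trans (hRG.trans (Flavell1933.normalizer_le_layerIn G)),
      hcop.coprime_dvd_left (card_dvd_of_le hEG), hcard, hexp,
      fun x hx y hy => congrArg Subtype.val (mul_comm' (⟨x, hR0 hx⟩ : R) ⟨y, hR0 hy⟩),
      layerIn_perfect G, fun N hN hn hs => layerIn_radical_central hN hn hs,
      fun a ha ha1 => (hsub a (hR0 ha) ha1).trans (centralizer_le hR0)⟩
    have hfix := cf.centralizes hp
    obtain ⟨a, ha, ha1⟩ : ∃ a ∈ R0, a ≠ 1 := by
      by_contra! h
      rw [(eq_bot_iff_forall R0).mpr h, card_bot] at hcard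
      nlinarith [(Fact.out : r.Prime).two_le]
    have hEa : E ⊓ centralizer ({a} : Set X) = E := inf_eq_left.mpr fun x hx =>
      mem_centralizer_singleton_iff.mpr (mem_centralizer_iff.mp (hfix hx) a ha).symm
    have h := hsub a (hR0 ha) ha1
    rw [hEa] at h
    refine le_trans ?_ h
    refine le_trans ?_ (layerIn_le_resid E)
    refine Flavell1933.layerIn_le_of_forall ?_
    rintro _ ⟨K, hK, rfl⟩
    have hKE : K.map G.subtype ≤ E := map_mono (CfsgLib.le_layer hK)
    refine Flavell1933.le_layerIn ⟨(K.map G.subtype).subgroupOf E, ?_, map_subgroupOf_eq_of_le hKE⟩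
    have e : (K.subgroupOf (Cfsg.layer ↥G)).map
        (Subgroup.equivMapOfInjective (Cfsg.layer ↥G) G.subtype G.subtype_injective).toMonoidHom =
        (K.map G.subtype).subgroupOf E := by
      ext x
      simp only [mem_map, mem_subgroupOf]
      constructor
      · rintro ⟨y, hy, rfl⟩; exact ⟨y, hy, rfl⟩
      · rintro ⟨k, hk, hkx⟩
        exact ⟨⟨k, CfsgLib.le_layer hK hk⟩, hk, Subtype.ext hkx⟩
    rw [← e]
    exact CfsgLib.isComponent_map_equiv _ (CfsgLib.isComponent_subgroupOf hK (CfsgLib.le_layer hK))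
  · haveI := Fact.mk hq
    rw [← CfsgLib.coprime_generated_by_centralizers hnc (hRG.trans (normalizer_le_coreIn q G))
      (hcR.coprime_dvd_right (card_dvd_of_le (coreIn_le q G)))]
    refine iSup₂_le fun a ha => ?_
    refine le_trans ?_ ((coreIn_le_resid hqp _).trans (hloc a ha.1 ha.2))
    exact le_coreIn (inf_le_inf_right _ (coreIn_le q G))
      (le_normalizer_inf (inf_le_left.trans (le_normalizer.trans (normalizer_le_coreIn q G)))
        (inf_le_right.trans le_normalizer)) ((isPGroup_coreIn q G).to_le inf_le_left)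

end CfsgLib.QuadEquiv
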