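import Cfsg.Agent.Lib.QuadEquiv.ResidLocal
import Cfsg.Agent.Lib.QuadEquiv.ResidAct

/-!
Enlarging a subgroup whose `O^p(F*)` is centralised by the operators.

Blueprint: `blueprint/S1931.md`.
-/

set_option autoImplicit false
set_option linter.unusedSectionVars false
set_option linter.style.haveILetI false

namespace CfsgLib.QuadEquiv

open Subgroup
open scoped commutatorElement Pointwise

universe u

variable {X : Type u} [Group X] [Finite X] {p r : ℕ} [Fact p.Prime] [Fact r.Prime] {G R : Subgroup X}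

/-- Conjugates of a Sylow subgroup of `E` under the normaliser of `E`. -/
theorem exists_sylow_conj {E : Subgroup X} (S : Sylow p E) {g : X} (hg : g ∈ normalizer (E : Set X)) :
    ∃ T : Sylow p E, (T : Subgroup E).map E.subtype =
      ((S : Subgroup E).map E.subtype).map (MulAut.conj g).toMonoidHom := by
  set V := ((S : Subgroup E).map E.subtype).map (MulAut.conj g).toMonoidHom with hV
  have hVE : V ≤ E := by
    rintro _ ⟨_, ⟨y, -, rfl⟩, rfl⟩
    exact (mem_normalizer_iff.mp hg _).mp y.2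
  refine ⟨Sylow.ofCard (V.subgroupOf E) ?_, map_subgroupOf_eq_of_le hVE⟩
  rw [Nat.card_congr (subgroupOfEquivOfLe hVE).toEquiv, hV, card_map_of_injective (MulAut.conj g).injective,
    card_map_of_injective E.subtype_injective]
  exact S.card_eq_multiplicity

theorem map_conj_of_commute {V : Subgroup X} {g b : X} (h : g * b = b * g)
    (hV : V.map (MulAut.conj b).toMonoidHom = V) :
    (V.map (MulAut.conj g).toMonoidHom).map (MulAut.conj b).toMonoidHom = V.map (MulAut.conj g).toMonoidHom := by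
  conv_rhs => rw [← hV]
  rw [map_map, map_map]
  congr 1
  refine MonoidHom.ext fun x => ?_
  show b * (g * x * g⁻¹) * b⁻¹ = g * (b * x * b⁻¹) * g⁻¹
  calc b * (g * x * g⁻¹) * b⁻¹ = (b * g) * x * (b * g)⁻¹ := by group
    _ = g * (b * x * b⁻¹) * g⁻¹ := by rw [← h]; group

theorem le_normalizer_sup {K A B : Subgroup X} (hA : K ≤ normalizer (A : Set X)) (hB : K ≤ normalizer (B : Set X)) :
    K ≤ normalizer ((A ⊔ B : Subgroup X) : Set X) := fun k hk =>
  CfsgLib.Local.mem_normalizer_of_map_conj_eq (by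
    rw [Subgroup.map_sup, CfsgLib.Local.map_conj_eq_of_mem_normalizer (hA hk),
      CfsgLib.Local.map_conj_eq_of_mem_normalizer (hB hk)])

theorem Cfg.exists_pair (cf : Cfg p r G R) {c : X} (hc : c ∈ R) (hc1 : c ≠ 1) :
    ∃ d ∈ R, ∀ x : X, x * c = c * x → x * d = d * x → x ∈ centralizer (R : Set X) := by
  have hr := (Fact.out : r.Prime)
  have hcr : Nat.card (zpowers c) = r := by
    rw [Nat.card_zpowers]; exact orderOf_eq_prime (cf.hexp c hc) hc1
  obtain ⟨d, hd, hdc⟩ : ∃ d ∈ R, d ∉ zpowers c := by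
    by_contra! h
    have := Nat.le_of_dvd (by rw [hcr]; exact hr.pos) (card_dvd_of_le (show R ≤ zpowers c from h))
    rw [hcr, cf.hcard] at this
    nlinarith [hr.two_le]
  have hle : zpowers c ⊔ zpowers d ≤ R := sup_le (zpowers_le.mpr hc) (zpowers_le.mpr hd)
  have heq : zpowers c ⊔ zpowers d = R := by
    refine eq_of_le_of_card_ge hle ?_
    obtain ⟨j, hj, hj'⟩ := (Nat.dvd_prime_pow hr).mp (cf.hcard ▸ card_dvd_of_le hle)
    have hlt : r < Nat.card (zpowers c ⊔ zpowers d : Subgroup X) := by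
      rw [← hcr]
      refine lt_of_le_of_ne (card_le_of_le le_sup_left) fun e => hdc ?_
      rw [eq_of_le_of_card_ge (le_sup_left : zpowers c ≤ zpowers c ⊔ zpowers d) e.ge]
      exact mem_sup_right (mem_zpowers d)
    rw [cf.hcard, hj']
    rw [hj'] at hlt
    have : 2 ≤ j := by
      by_contra hc2
      have h2 := Nat.pow_le_pow_right hr.pos (show j ≤ 1 by omega)
      rw [pow_one] at h2
      omega
    exact Nat.pow_le_pow_right hr.pos this
  refine ⟨d, hd, fun x h1 h2 => mem_centralizer_iff.mpr fun y hy => ?_⟩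
  rw [← heq] at hy
  exact mem_centralizer_singleton_iff.mp
    (sup_le (zpowers_le.mpr (mem_centralizer_singleton_iff.mpr h1.symm))
      (zpowers_le.mpr (mem_centralizer_singleton_iff.mpr h2.symm)) hy)

theorem Cfg.le_normalizer_cent (cf : Cfg p r G R) {c : X} (hc : c ∈ R) :
    R ≤ normalizer ((G ⊓ centralizer ({c} : Set X) : Subgroup X) : Set X) := by
  refine le_normalizer_inf cf.hRG fun g hg => mem_normalizer_iff.mpr fun x => ?_
  simp only [mem_centralizer_singleton_iff]
  have h1 := cf.hab g hg c hc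
  constructor
  · intro h
    calc g * x * g⁻¹ * c = g * x * (g⁻¹ * (c * g)) * g⁻¹ := by group
      _ = g * x * (g⁻¹ * (g * c)) * g⁻¹ := by rw [h1]
      _ = g * (x * c) * g⁻¹ := by group
      _ = g * (c * x) * g⁻¹ := by rw [h]
      _ = (g * c) * x * g⁻¹ := by group
      _ = c * (g * x * g⁻¹) := by rw [h1]; group
  · intro h
    calc x * c = g⁻¹ * (g * x * g⁻¹) * (g * c) := by group
      _ = g⁻¹ * ((g * x * g⁻¹) * c) * g := by rw [h1]; group
      _ = g⁻¹ * (c * (g * x * g⁻¹)) * g := by rw [h]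
      _ = g⁻¹ * (c * g) * x := by group
      _ = c * x := by rw [← h1]; group

theorem Cfg.cent_le (cf : Cfg p r G R) {c : X} (hc : c ∈ R) :
    G ⊓ centralizer (R : Set X) ≤ G ⊓ centralizer ({c} : Set X) := fun _ hx =>
  ⟨hx.1, mem_centralizer_singleton_iff.mpr (mem_centralizer_iff.mp hx.2 c hc).symm⟩

theorem Cfg.comm_inst (cf : Cfg p r G R) : IsMulCommutative R :=
  ⟨⟨fun a b => Subtype.ext (cf.hab a a.2 b b.2)⟩⟩

theorem Cfg.not_cyclic (cf : Cfg p r G R) : ¬ IsCyclic R := by
  intro h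
  obtain ⟨g, hg⟩ := isCyclic_iff_exists_orderOf_eq_natCard.mp h
  have h1 : orderOf g ≤ r := Nat.le_of_dvd (Fact.out : r.Prime).pos
    (orderOf_dvd_of_pow_eq_one (Subtype.ext (by simpa using cf.hexp g g.2)))
  rw [hg, cf.hcard] at h1
  nlinarith [(Fact.out : r.Prime).two_le]

/-- A `q`-core of `N'` is centralised by the operators. -/
theorem Cfg.core_fix (cf : Cfg p r G R) {N' : Subgroup X} (hN' : N' ≤ G)
    (hCN : G ⊓ centralizer (R : Set X) ≤ N') (hRN : R ≤ normalizer (N' : Set X))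
    (hcen : sylowMeet p G R ⊓ centralizer ((sylowMeet p G R ⊓ N' : Subgroup X) : Set X) ≤ N')
    {q : ℕ} [Fact q.Prime] (hqp : q ≠ p) : coreIn q N' ≤ centralizer (R : Set X) := by
  set P := sylowMeet p G R with hP
  set W := coreIn q N' with hW
  set U := P ⊓ N' with hU
  have S0 := setup_sylowMeet (p := p) cf.hRG (cf.cop le_rfl)
  have hWN : W ≤ N' := coreIn_le q N'
  have hNW : N' ≤ normalizer (W : Set X) := le_normalizer.trans (normalizer_le_coreIn q N')
  have hRW : R ≤ normalizer (W : Set X) := hRN.trans (normalizer_le_coreIn q N')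
  have hWq : IsPGroup q W := isPGroup_coreIn q N'
  have hWp : ∀ A ≤ W, (Nat.card A).Coprime p := fun A hA => by
    obtain ⟨k, hk⟩ := IsPGroup.iff_card.mp (hWq.to_le hA)
    rw [hk]
    exact ((Nat.coprime_primes (Fact.out : q.Prime) (Fact.out : p.Prime)).mpr hqp).pow_left k
  have hUp : IsPGroup p U := S0.hPp.to_le inf_le_left
  -- the fixed points centralise `P`
  set Cw := W ⊓ centralizer (R : Set X) with hCw
  have hCwC : Cw ≤ G ⊓ centralizer (R : Set X) := inf_le_inf_right _ (hWN.trans hN')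
  have hCwU : U ≤ centralizer (Cw : Set X) := by
    rw [← commutator_eq_bot_iff_le_centralizer, eq_bot_iff, commutator_le]
    intro u hu z hz
    rw [← coreIn_disjoint hqp hUp hWq]
    refine ⟨?_, ?_⟩
    · rw [show ⁅u, z⁆ = u * (z * u⁻¹ * z⁻¹) by simp only [commutatorElement_def]; group]
      exact mul_mem hu ((mem_normalizer_iff.mp
        (mem_normalizer_inf (S0.hCP (hCwC hz)) (le_normalizer (hWN hz.1))) _).mp (inv_mem hu))
    · show ⁅u, z⁆ ∈ W
      exact mul_mem ((mem_normalizer_iff.mp (hNW hu.2) z).mp hz.1) (inv_mem hz.1)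
  have hCwP : Cw ≤ centralizer (P : Set X) := by
    refine CfsgLib.thompson_PxQ hUp (hWp _ inf_le_left) hCwU P S0.hPp (inf_le_left.trans le_normalizer)
      (hCwC.trans S0.hCP) ?_
    intro x hx
    exact hCwU ⟨hx.1, hcen hx⟩
  -- every line
  have hline : ∀ c ∈ R, c ≠ 1 → W ⊓ centralizer ({c} : Set X) ≤ centralizer (R : Set X) := by
    intro c hc hc1
    set Wc := W ⊓ centralizer ({c} : Set X) with hWc
    set Cc := G ⊓ centralizer ({c} : Set X) with hCc
    set Qc := coreIn p Cc with hQc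
    have hWcC : Wc ≤ Cc := inf_le_inf_right _ (hWN.trans hN')
    have hRCc : R ≤ normalizer (Cc : Set X) := cf.le_normalizer_cent hc
    have hCnQ : Cc ≤ normalizer (Qc : Set X) := le_normalizer.trans (normalizer_le_coreIn p Cc)
    have hRQ : R ≤ normalizer (Qc : Set X) := hRCc.trans (normalizer_le_coreIn p Cc)
    have hQcG : Qc ≤ G := (coreIn_le p Cc).trans inf_le_left
    have hQcP : Qc ≤ P := le_sylowMeet cf.hRG (cf.cop le_rfl) hQcG (isPGroup_coreIn p Cc) hRQ
      ((cf.cent_le hc).trans hCnQ)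
    have hRWc : R ≤ normalizer (Wc : Set X) := by
      refine le_normalizer_inf hRW fun g hg => mem_normalizer_iff.mpr fun x => ?_
      have h1 := cf.hab g hg c hc
      have e : c = g * c * g⁻¹ := by rw [h1, mul_inv_cancel_right]
      simp only [mem_centralizer_singleton_iff]
      conv_rhs => rw [e]
      constructor
      · intro h
        calc g * x * g⁻¹ * (g * c * g⁻¹) = g * (x * c) * g⁻¹ := by group
          _ = g * (c * x) * g⁻¹ := by rw [h]
          _ = g * c * g⁻¹ * (g * x * g⁻¹) := by group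
      · intro h
        refine mul_left_cancel (a := g) (mul_right_cancel (b := g⁻¹) ?_)
        calc g * (x * c) * g⁻¹ = g * x * g⁻¹ * (g * c * g⁻¹) := by group
          _ = g * c * g⁻¹ * (g * x * g⁻¹) := h
          _ = g * (c * x) * g⁻¹ := by group
    obtain ⟨d, hd, hpair⟩ := cf.exists_pair hc hc1
    have hcQ : Wc ≤ centralizer (Qc : Set X) := by
      refine frob_centralize (p := p) (cf.hexp d hd) (hRWc hd) (hWp _ inf_le_left)
        (cf.hcop.coprime_dvd_left (card_dvd_of_le ((inf_le_left.trans hWN).trans hN'))) _ Qc rfl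
        (isPGroup_coreIn p Cc) (cf.hcop.coprime_dvd_left (card_dvd_of_le hQcG)) (hRQ hd) (hWcC.trans hCnQ) ?_ ?_
      · intro x hx
        exact centralizer_le hQcP (hCwP ⟨hx.1.1, hpair x (mem_centralizer_singleton_iff.mp hx.1.2)
          (mem_centralizer_singleton_iff.mp hx.2)⟩)
      · intro w hw
        refine mem_centralizer_iff.mpr fun y hy => ?_
        have hyC : y ∈ G ⊓ centralizer (R : Set X) := ⟨hQcG hy.1, hpair y
          (mem_centralizer_singleton_iff.mp ((coreIn_le p Cc) hy.1).2) (mem_centralizer_singleton_iff.mp hy.2)⟩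
        rw [← commutatorElement_eq_one_iff_mul_comm, ← mem_bot,
          ← coreIn_disjoint hqp (isPGroup_coreIn p Cc) hWq]
        refine ⟨?_, ?_⟩
        · rw [show ⁅y, w⁆ = y * (w * y⁻¹ * w⁻¹) by simp only [commutatorElement_def]; group]
          exact mul_mem hy.1 ((mem_normalizer_iff.mp (hCnQ (hWcC hw)) _).mp (inv_mem hy.1))
        · show ⁅y, w⁆ ∈ W
          exact mul_mem ((mem_normalizer_iff.mp (hNW (hCN hyC)) w).mp hw.1) (inv_mem hw.1)
    have hfix : ⁅Wc, R⁆ ≤ centralizer (R : Set X) := by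
      have h1 : ⁅Wc, R⁆ ≤ Wc := CfsgLib.commutator_le_of_le_normalizer hRWc
      have h2 : ⁅Wc, R⁆ ≤ centralizer (resid p Cc : Set X) := commutator_le_centralizer_of_fixed
        (hWcC.trans (le_normalizer.trans (normalizer_le_resid Cc))) (cf.hloc c hc hc1)
      intro t ht
      refine cf.hloc c hc hc1 (mem_resid_of_commute (hWcC (h1 ht)) ?_ (mem_centralizer_iff.mp (h2 ht))
        (mem_centralizer_iff.mp (hcQ (h1 ht))))
      exact Nat.Coprime.coprime_dvd_left (Subgroup.orderOf_dvd_natCard (s := Wc) (h1 ht)) (hWp _ inf_le_left)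
    have h3 := CfsgLib.coprime_commutator_commutator hRWc (cf.cop ((inf_le_left.trans hWN).trans hN'))
      (QuadFixed.solvable_or_of_coprime (cf.cop ((inf_le_left.trans hWN).trans hN')))
    rw [commutator_eq_bot_iff_le_centralizer.mpr hfix] at h3
    exact commutator_eq_bot_iff_le_centralizer.mp h3.symm
  haveI := cf.comm_inst
  rw [← CfsgLib.coprime_generated_by_centralizers cf.not_cyclic hRW (cf.cop (hWN.trans hN'))]
  exact iSup₂_le fun c hc => hline c hc.1 hc.2

/-- The layer of `N'` is centralised by the operators. -/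
theorem GoodN.layer_fix (cf : Cfg p r G R) (hp : 5 ≤ p) {a : X} (ha : a ∈ R) (ha1 : a ≠ 1) {N : Subgroup X}
    (g : GoodN p G R N) (hCa : G ⊓ centralizer ({a} : Set X) ≤ N) {U' : Subgroup X}
    (hU'P : U' ≤ sylowMeet p G R) (hUU' : sylowMeet p G R ⊓ N ≤ U')
    (hU'n : U' ≤ normalizer ((sylowMeet p G R ⊓ N : Subgroup X) : Set X))
    (hRU' : R ≤ normalizer (U' : Set X)) (hCU' : G ⊓ centralizer (R : Set X) ≤ normalizer (U' : Set X)) :
    Flavell1933.layerIn (G ⊓ centralizer ({a} : Set X) ⊔ U') ≤ centralizer (R : Set X) := by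
  classical
  obtain ⟨hNK, C0, hC0, hMR, -⟩ := g.data cf hp
  set P := sylowMeet p G R with hP
  set U := P ⊓ N with hU
  set Ca := G ⊓ centralizer ({a} : Set X) with hCadef
  set C := G ⊓ centralizer (R : Set X) with hC
  set N' := Ca ⊔ U' with hN'
  set E := Flavell1933.layerIn N' with hE
  have S0 := setup_sylowMeet (p := p) cf.hRG (cf.cop le_rfl)
  have hN'G : N' ≤ G := sup_le inf_le_left (hU'P.trans S0.hPG)
  have hEG : E ≤ G := (Flavell1933.layerIn_le N').trans hN'G
  have hRCa : R ≤ normalizer (Ca : Set X) := cf.le_normalizer_cent ha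
  have hRN' : R ≤ normalizer (N' : Set X) := le_normalizer_sup hRCa hRU'
  have hN'E : N' ≤ normalizer (E : Set X) := le_normalizer.trans (Flavell1933.normalizer_le_layerIn N')
  have hRE : R ≤ normalizer (E : Set X) := hRN'.trans (Flavell1933.normalizer_le_layerIn N')
  have hCN' : C ≤ N' := (cf.cent_le ha).trans le_sup_left
  -- `E` centralises the critical subgroup
  have hKn : N' ≤ normalizer (kGroup U : Set X) :=
    sup_le (hCa.trans hNK) fun u hu => mem_normalizer_kGroup (hU'n hu)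
  have hKN' : kGroup U ≤ N' := (kGroup_le.trans hUU').trans le_sup_right
  have hUp : IsPGroup p U := S0.hPp.to_le inf_le_left
  have hEC0 : E ≤ centralizer (C0 : Set X) := (layerIn_le_centralizer_coreIn (q := p) N').trans
    (centralizer_le (hC0.trans (le_coreIn hKN' hKn (hUp.to_le kGroup_le))))
  -- `[C_E(a), R]` is a `p`-group
  set CEa := E ⊓ centralizer ({a} : Set X) with hCEa
  have hCEaCa : CEa ≤ Ca := inf_le_inf_right _ hEG
  have hRCEa : R ≤ normalizer (CEa : Set X) := by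
    have e : CEa = E ⊓ Ca := le_antisymm (le_inf inf_le_left hCEaCa) (inf_le_inf le_rfl inf_le_right)
    rw [e]
    exact le_normalizer_inf hRE hRCa
  set X1 := ⁅CEa, R⁆ with hX1
  have hX1E : X1 ≤ CEa := CfsgLib.commutator_le_of_le_normalizer hRCEa
  have hX1Q : X1 ≤ coreIn p N := by
    have h1 : X1 ≤ centralizer (resid p N : Set X) := commutator_le_centralizer_of_fixed
      ((hCEaCa.trans hCa).trans (le_normalizer.trans (normalizer_le_resid N))) g.fix
    have h2 : X1 ≤ N ⊓ centralizer (resid p N : Set X) ⊓ centralizer (C0 : Set X) :=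
      le_inf (le_inf (hX1E.trans (hCEaCa.trans hCa)) h1) (hX1E.trans (inf_le_left.trans hEC0))
    rw [hX1, ← CfsgLib.coprime_commutator_commutator hRCEa (cf.cop (hCEaCa.trans inf_le_left))
      (QuadFixed.solvable_or_of_coprime (cf.cop (hCEaCa.trans inf_le_left)))]
    exact (commutator_mono h2 le_rfl).trans hMR
  have hX1P : X1 ≤ P := hX1Q.trans (le_sylowMeet cf.hRG (cf.cop le_rfl) ((coreIn_le p N).trans g.le)
    (isPGroup_coreIn p N) (g.hR.trans (normalizer_le_coreIn p N))
    (g.hC.trans (le_normalizer.trans (normalizer_le_coreIn p N))))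
  have hdec : ∀ f ∈ CEa, ∃ y ∈ X1, ∃ c ∈ CEa ⊓ centralizer (R : Set X), f = y * c := fun f hf =>
    CfsgLib.coprime_decomp hRCEa (cf.cop (hCEaCa.trans inf_le_left))
      (QuadFixed.solvable_or_of_coprime (cf.cop (hCEaCa.trans inf_le_left))) hf
  -- the `a`-invariant Sylow subgroups are invariant
  set PE := sylowMeet p E R with hPE
  have SE := setup_sylowMeet (p := p) hRE (cf.cop hEG)
  have hPPE : P ⊓ E ≤ PE := le_sylowMeet hRE (cf.cop hEG) inf_le_right (S0.hPp.to_le inf_le_left)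
    (le_normalizer_inf S0.hRP hRE)
    (le_normalizer_inf ((inf_le_inf_right _ hEG).trans S0.hCP) (inf_le_left.trans le_normalizer))
  have haE : zpowers a ≤ normalizer (E : Set X) := zpowers_le.mpr (hRE ha)
  have hinv : ∀ S : Sylow p E, a ∈ normalizer ((S : Subgroup E).map E.subtype : Set X) →
      R ≤ normalizer ((S : Subgroup E).map E.subtype : Set X) := by
    intro S hS
    obtain ⟨S1, hS1⟩ := exists_invariant (p := p) hRE (cf.cop hEG)
    have hR1 : R ≤ normalizer ((S1 : Subgroup E).map E.subtype : Set X) := fun b hb =>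
      CfsgLib.Local.mem_normalizer_of_map_conj_eq (hS1 b hb)
    have hca : (Nat.card (zpowers a)).Coprime (Nat.card E) := by
      rw [Nat.card_zpowers]
      exact Nat.Coprime.coprime_dvd_left (orderOf_dvd_of_pow_eq_one (cf.hexp a ha))
        (cf.hcop.coprime_dvd_left (card_dvd_of_le hEG)).symm
    obtain ⟨c0, hc0, hcS⟩ := CfsgLib.coprime_invariant_sylow_conj haE hca
      (Or.inl (Group.isSolvable_of_comm fun a b => mul_comm' a b)) S1 S
      (zpowers_le.mpr (hR1 ha)) (zpowers_le.mpr hS)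
    obtain ⟨y, hy, c1, hc1, e⟩ := hdec c0 ⟨c0.2,
      mem_centralizer_singleton_iff.mpr (mem_centralizer_iff.mp hc0 a (mem_zpowers a)).symm⟩
    obtain ⟨T, hT⟩ := exists_sylow_conj S1 (le_normalizer (H := E) hc1.1.1)
    have hTi : ∀ b ∈ R, ((T : Subgroup E).map E.subtype).map (MulAut.conj b).toMonoidHom =
        (T : Subgroup E).map E.subtype := by
      intro b hb
      rw [hT]
      exact map_conj_of_commute (mem_centralizer_iff.mp hc1.2 b hb).symm (hS1 b hb)
    have hyT : y ∈ (T : Subgroup E).map E.subtype := by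
      have hle : PE ≤ (T : Subgroup E).map E.subtype := fun z hz => mem_iInf.mp hz ⟨T, hTi⟩
      exact hle (hPPE ⟨hX1P hy, (hX1E hy).1⟩)
    have hST : (S : Subgroup E).map E.subtype = (T : Subgroup E).map E.subtype := by
      have h1 : (S : Subgroup E).map E.subtype =
          ((S1 : Subgroup E).map E.subtype).map (MulAut.conj (c0 : X)).toMonoidHom := by
        rw [← hcS]
        ext x
        constructor
        · rintro ⟨_, ⟨z, hz, rfl⟩, rfl⟩; exact ⟨_, ⟨z, hz, rfl⟩, rfl⟩
        · rintro ⟨_, ⟨z, hz, rfl⟩, rfl⟩; exact ⟨_, ⟨z, hz, rfl⟩, rfl⟩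
      rw [h1, e, map_mul, show ((MulAut.conj y * MulAut.conj c1 : MulAut X)).toMonoidHom =
          (MulAut.conj y).toMonoidHom.comp (MulAut.conj c1).toMonoidHom from rfl, ← map_map, ← hT]
      exact CfsgLib.Local.map_conj_eq_of_mem_normalizer (le_normalizer hyT)
    rw [hST]
    exact fun b hb => CfsgLib.Local.mem_normalizer_of_map_conj_eq (hTi b hb)
  have hCaPE : Ca ≤ normalizer (PE : Set X) := by
    refine Flavell1933.normalizer_of_maps fun g hg x hx => mem_iInf.mpr fun ⟨S, hS⟩ => ?_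
    obtain ⟨T, hT⟩ := exists_sylow_conj S (hN'E (mem_sup_left (inv_mem hg)) : g⁻¹ ∈ normalizer (E : Set X))
    have haT : a ∈ normalizer ((T : Subgroup E).map E.subtype : Set X) := by
      refine CfsgLib.Local.mem_normalizer_of_map_conj_eq ?_
      rw [hT]
      exact map_conj_of_commute (mem_centralizer_singleton_iff.mp (inv_mem hg).2) (hS a ha)
    have hTR : ∀ b ∈ R, ((T : Subgroup E).map E.subtype).map (MulAut.conj b).toMonoidHom =
        (T : Subgroup E).map E.subtype := fun b hb =>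
      CfsgLib.Local.map_conj_eq_of_mem_normalizer (hinv T haT hb)
    have hxT : x ∈ (T : Subgroup E).map E.subtype := mem_iInf.mp hx ⟨T, hTR⟩
    rw [hT] at hxT
    obtain ⟨y, hy, rfl⟩ := hxT
    show g * (g⁻¹ * y * g⁻¹⁻¹) * g⁻¹ ∈ _
    rw [show g * (g⁻¹ * y * g⁻¹⁻¹) * g⁻¹ = y by group]
    exact hy
  have hPEP : PE ≤ P := le_sylowMeet cf.hRG (cf.cop le_rfl) (SE.hPG.trans hEG) SE.hPp SE.hRP
    ((cf.cent_le ha).trans hCaPE)
  have hPEeq : PE = P ⊓ E := le_antisymm (le_inf hPEP SE.hPG) hPPE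
  have hPEn : N' ≤ normalizer (PE : Set X) := sup_le hCaPE (by
    rw [hPEeq]
    exact le_normalizer_inf (hU'P.trans le_normalizer) (le_sup_right.trans hN'E))
  set ZE := E ⊓ centralizer (E : Set X) with hZE
  have hPEZ : P ⊓ E ≤ ZE := by
    rw [← hPEeq]
    haveI := SE.hPp.isNilpotent
    exact le_inf SE.hPG (layerIn_radical_central SE.hPG ((Flavell1933.layerIn_le N').trans hPEn) inferInstance)
  have hnZE : normalizer (E : Set X) ≤ normalizer (ZE : Set X) := le_normalizer_inf le_rfl fun n hn =>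
    (GRInv.centralizer (G := normalizer (E : Set X)) (R := ⊥) (U := E) (sup_le le_rfl bot_le)) (mem_sup_left hn)
  -- the subgroup `J`
  set J := ⁅Ca, R⁆ ⊔ U' with hJ
  have hHle : ⁅Ca, R⁆ ≤ Ca := CfsgLib.commutator_le_of_le_normalizer hRCa
  have hJN' : J ≤ N' := sup_le (hHle.trans le_sup_left) le_sup_right
  have hCJ : C ≤ normalizer (J : Set X) :=
    le_normalizer_sup ((cf.cent_le ha).trans (CfsgLib.left_le_normalizer_commutator R Ca)) hCU'
  have hN'J : N' ≤ J ⊔ C := sup_le (by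
    conv_lhs => rw [← CfsgLib.coprime_commutator_sup hRCa (cf.cop inf_le_left)
      (QuadFixed.solvable_or_of_coprime (cf.cop inf_le_left))]
    exact sup_le (le_sup_left.trans le_sup_left) ((inf_le_inf_right _ inf_le_left).trans le_sup_right))
    (le_sup_right.trans le_sup_left)
  have hN'nJ : N' ≤ normalizer (J : Set X) := hN'J.trans (sup_le le_normalizer hCJ)
  have hRJ : R ≤ normalizer (J : Set X) :=
    le_normalizer_sup (CfsgLib.right_le_normalizer_commutator R Ca) hRU'
  let Fx : Subgroup X :=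
    { carrier := {j | j ∈ normalizer (ZE : Set X) ∧ ∀ c ∈ E ⊓ centralizer (R : Set X), ⁅j, c⁆ ∈ ZE}
      one_mem' := ⟨one_mem _, fun c _ => by rw [commutatorElement_one_left]; exact one_mem _⟩
      mul_mem' := fun {x y} hx hy => ⟨mul_mem hx.1 hy.1, fun c hc => by
        have e : ⁅x * y, c⁆ = x * ⁅y, c⁆ * x⁻¹ * ⁅x, c⁆ := by simp only [commutatorElement_def]; group
        rw [e]
        exact mul_mem ((mem_normalizer_iff.mp hx.1 _).mp (hy.2 c hc)) (hx.2 c hc)⟩
      inv_mem' := fun {x} hx => ⟨inv_mem hx.1, fun c hc => by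
        have e : ⁅x⁻¹, c⁆ = x⁻¹ * ⁅x, c⁆⁻¹ * x⁻¹⁻¹ := by simp only [commutatorElement_def]; group
        rw [e]
        exact (mem_normalizer_iff.mp (inv_mem hx.1) _).mp (inv_mem (hx.2 c hc))⟩ }
  have hJFx : J ≤ Fx := by
    refine sup_le (commutator_le.mpr fun x hx b hb => ?_) fun u hu => ?_
    · have hhN : ⁅x, b⁆ ∈ N' := mem_sup_left (hHle (commutator_mem_commutator hx hb))
      refine ⟨hnZE (hN'E hhN), fun c hc => ?_⟩
      set e := x⁻¹ * c * x with he
      have hxa := mem_centralizer_singleton_iff.mp hx.2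
      have hcbc : b⁻¹ * c * b = c := by
        rw [mul_assoc, ← mem_centralizer_iff.mp hc.2 b hb, inv_mul_cancel_left]
      have heC : e ∈ CEa := by
        refine ⟨by simpa [he, mul_assoc] using (mem_normalizer_iff.mp (hN'E (mem_sup_left (inv_mem hx))) c).mp hc.1, ?_⟩
        show _ ∈ centralizer ({a} : Set X)
        refine mul_mem (mul_mem (inv_mem hx.2) ?_) hx.2
        exact mem_centralizer_singleton_iff.mpr (mem_centralizer_iff.mp hc.2 a ha).symm
      have hz : ⁅b, e⁆ ∈ ZE := by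
        rw [← commutatorElement_inv]
        exact inv_mem (hPEZ ⟨hX1P (commutator_mem_commutator heC hb),
          (hX1E (commutator_mem_commutator heC hb)).1⟩)
      have e2 : ⁅⁅x, b⁆, c⁆ = x * ⁅b, e⁆ * x⁻¹ := by
        calc ⁅⁅x, b⁆, c⁆ = x * (b * (x⁻¹ * (b⁻¹ * c * b) * x) * b⁻¹) * x⁻¹ * c⁻¹ := by
              simp only [commutatorElement_def]; group
          _ = x * (b * e * b⁻¹) * x⁻¹ * c⁻¹ := by rw [hcbc]
          _ = x * ⁅b, e⁆ * x⁻¹ := by rw [he]; simp only [commutatorElement_def]; group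
      rw [e2]
      exact (mem_normalizer_iff.mp (hnZE (hN'E (mem_sup_left hx))) _).mp hz
    · refine ⟨hnZE (hN'E (mem_sup_right hu)), fun c hc => hPEZ ⟨hU'P ?_, ?_⟩⟩
      · rw [show ⁅u, c⁆ = u * (c * u⁻¹ * c⁻¹) by simp only [commutatorElement_def]; group]
        exact mul_mem hu ((mem_normalizer_iff.mp (hCU' ⟨hEG hc.1, hc.2⟩) _).mp (inv_mem hu))
      · show ⁅u, c⁆ ∈ E
        exact mul_mem ((mem_normalizer_iff.mp (hN'E (mem_sup_right hu)) c).mp hc.1) (inv_mem hc.1)
  -- `E ⊓ J` is central in `E`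
  set F := E ⊓ J with hF
  have hEN' : E ≤ N' := Flavell1933.layerIn_le N'
  have hEF : E ≤ normalizer (F : Set X) := le_normalizer_inf le_normalizer (hEN'.trans hN'nJ)
  have hFsol : Group.IsSolvable F := by
    have hZs : Group.IsSolvable (F ⊓ ZE : Subgroup X) := Group.isSolvable_of_comm fun x y =>
      Subtype.ext (mem_centralizer_iff.mp y.2.2.2 x x.2.1.1)
    refine solvable_of_fixed_central (cf.hexp a ha) (Z := F ⊓ ZE) (mem_normalizer_inf (hRE ha) (hRJ ha))
      (mem_normalizer_inf (mem_normalizer_inf (hRE ha) (hRJ ha)) (hnZE (hRE ha)))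
      (cf.hcop.coprime_dvd_left (card_dvd_of_le (inf_le_left.trans hEG))) inf_le_left
      (le_normalizer_inf le_normalizer ((inf_le_left.trans le_normalizer).trans hnZE)) hZs ?_
    intro f hf haf j hj
    refine ⟨(show ⁅j, f⁆ ∈ F from mul_mem (mul_mem (mul_mem hj hf) (inv_mem hj)) (inv_mem hf)), ?_⟩
    obtain ⟨y, hy, c, hc, rfl⟩ := hdec f ⟨hf.1, mem_centralizer_singleton_iff.mpr haf.symm⟩
    have hyZ : y ∈ ZE := hPEZ ⟨hX1P hy, (hX1E hy).1⟩
    have hjy : j * y = y * j := mem_centralizer_iff.mp hyZ.2 j hj.1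
    have hjc : ⁅j, c⁆ ∈ ZE := (hJFx hj.2).2 c ⟨hc.1.1, hc.2⟩
    have hyc : y * ⁅j, c⁆ = ⁅j, c⁆ * y := (mem_centralizer_iff.mp hyZ.2 _ hjc.1).symm
    rw [show ⁅j, y * c⁆ = ⁅j, y⁆ * (y * ⁅j, c⁆ * y⁻¹) by simp only [commutatorElement_def]; group,
      commutatorElement_eq_one_iff_mul_comm.mpr hjy, one_mul, hyc, mul_inv_cancel_right]
    exact hjc
  have hFc : F ≤ centralizer (E : Set X) := layerIn_radical_central inf_le_left hEF hFsol
  have hEJ : ⁅E, J⁆ ≤ F := le_inf (CfsgLib.commutator_le_of_le_normalizer (hJN'.trans hN'E))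
    (by rw [Subgroup.commutator_comm]; exact CfsgLib.commutator_le_of_le_normalizer (hEN'.trans hN'nJ))
  have hJE : J ≤ centralizer (E : Set X) := by
    have h1 : ⁅⁅E, J⁆, E⁆ = ⊥ := commutator_eq_bot_iff_le_centralizer.mpr (hEJ.trans hFc)
    have h2 : ⁅⁅J, E⁆, E⁆ = ⊥ := by rw [Subgroup.commutator_comm J E]; exact h1
    have h3 := commutator_commutator_eq_bot_of_rotate (H₁ := E) (H₂ := E) (H₃ := J) h1 h2
    rw [hE, layerIn_perfect] at h3
    rw [le_centralizer_iff]
    exact commutator_eq_bot_iff_le_centralizer.mp h3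
  -- conjugation by `E` is induced by fixed points
  have hconj : ∀ e ∈ E, ∀ b ∈ R, ∀ x ∈ E, b * e * b⁻¹ * x * (b * e * b⁻¹)⁻¹ = e * x * e⁻¹ := by
    intro e he b hb
    obtain ⟨j, hj, c, hc, rfl⟩ := CfsgLib.mem_sup_of_le_normalizer hCJ (hN'J (hEN' he))
    have key : ∀ x ∈ E, j * c * x * (j * c)⁻¹ = c * x * c⁻¹ := by
      intro x hx
      have h1 := mem_centralizer_iff.mp (hJE hj) _ ((mem_normalizer_iff.mp (hN'E (hCN' hc)) x).mp hx)
      calc j * c * x * (j * c)⁻¹ = j * (c * x * c⁻¹) * j⁻¹ := by group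
        _ = c * x * c⁻¹ := by rw [← h1]; group
    intro x hx
    have hbc := mem_centralizer_iff.mp hc.2 b hb
    have hx' : b⁻¹ * x * b ∈ E := by
      simpa using (mem_normalizer_iff.mp (inv_mem (hRE hb)) x).mp hx
    calc b * (j * c) * b⁻¹ * x * (b * (j * c) * b⁻¹)⁻¹
        = b * (j * c * (b⁻¹ * x * b) * (j * c)⁻¹) * b⁻¹ := by group
      _ = b * (c * (b⁻¹ * x * b) * c⁻¹) * b⁻¹ := by rw [key _ hx']
      _ = (b * c) * (b⁻¹ * x * b) * (b * c)⁻¹ := by group
      _ = (c * b) * (b⁻¹ * x * b) * (c * b)⁻¹ := by rw [hbc]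
      _ = c * x * c⁻¹ := by group
      _ = j * c * x * (j * c)⁻¹ := (key x hx).symm
  have hER : ⁅E, R⁆ ≤ centralizer (E : Set X) := commutator_le.mpr fun e he b hb =>
    mem_centralizer_iff.mpr fun x hx => by
      have h1 := hconj e⁻¹ (inv_mem he) b hb x hx
      calc x * ⁅e, b⁆ = e * (e⁻¹ * x * e⁻¹⁻¹) * e⁻¹ * ⁅e, b⁆ := by group
        _ = e * (b * e⁻¹ * b⁻¹ * x * (b * e⁻¹ * b⁻¹)⁻¹) * e⁻¹ * ⁅e, b⁆ := by rw [h1]
        _ = ⁅e, b⁆ * x := by simp only [commutatorElement_def]; group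
  have h1 : ⁅⁅E, R⁆, E⁆ = ⊥ := commutator_eq_bot_iff_le_centralizer.mpr hER
  have h2 : ⁅⁅R, E⁆, E⁆ = ⊥ := by rw [Subgroup.commutator_comm R E]; exact h1
  have h3 := commutator_commutator_eq_bot_of_rotate (H₁ := E) (H₂ := E) (H₃ := R) h1 h2
  rw [hE, layerIn_perfect] at h3
  exact commutator_eq_bot_iff_le_centralizer.mp h3

/-- A good subgroup not containing `P` can be enlarged. -/
theorem GoodN.step (cf : Cfg p r G R) (hp : 5 ≤ p) {a : X} (ha : a ∈ R) (ha1 : a ≠ 1) {N : Subgroup X}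
    (g : GoodN p G R N) (hCa : G ⊓ centralizer ({a} : Set X) ≤ N) (hnP : ¬ sylowMeet p G R ≤ N) :
    ∃ N', GoodN p G R N' ∧ G ⊓ centralizer ({a} : Set X) ≤ N' ∧
      sylowMeet p G R ⊓ N < sylowMeet p G R ⊓ N' := by
  set P := sylowMeet p G R with hP
  set U := P ⊓ N with hU
  set Ca := G ⊓ centralizer ({a} : Set X) with hCadef
  have S0 := setup_sylowMeet (p := p) cf.hRG (cf.cop le_rfl)
  set U' := P ⊓ normalizer (U : Set X) with hU'
  have hUU' : U ≤ U' := le_inf inf_le_left le_normalizer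
  have hRU : R ≤ normalizer (U : Set X) := le_normalizer_inf S0.hRP g.hR
  have hCU : G ⊓ centralizer (R : Set X) ≤ normalizer (U : Set X) :=
    le_normalizer_inf S0.hCP (g.hC.trans le_normalizer)
  have hRU' : R ≤ normalizer (U' : Set X) := le_normalizer_inf S0.hRP (hRU.trans le_normalizer)
  have hCU' : G ⊓ centralizer (R : Set X) ≤ normalizer (U' : Set X) :=
    le_normalizer_inf S0.hCP (hCU.trans le_normalizer)
  have hlt : U < U' := by
    refine lt_of_le_of_ne hUU' fun e => ?_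
    have hlt : U.subgroupOf P < ⊤ := by
      rw [lt_top_iff_ne_top, Ne, subgroupOf_eq_top]
      exact fun h => hnP (h.trans inf_le_right)
    obtain ⟨y, hy, hyU⟩ := SetLike.exists_of_lt
      (Group.normalizerCondition_of_isNilpotent (h := S0.hPp.isNilpotent) _ hlt)
    refine hyU (show (y : X) ∈ U from e.ge ⟨y.2, mem_normalizer_iff.mpr fun z => ⟨fun hz => ?_, fun hz => ?_⟩⟩)
    · exact (mem_normalizer_iff.mp hy ⟨z, hz.1⟩).mp hz
    · have hzP : z ∈ P := by
        simpa [mul_assoc] using mul_mem (mul_mem (inv_mem y.2) hz.1) y.2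
      exact (mem_normalizer_iff.mp hy ⟨z, hzP⟩).mpr hz
  set N' := Ca ⊔ U' with hN'
  have hN'G : N' ≤ G := sup_le inf_le_left (inf_le_left.trans S0.hPG)
  have hCN' : G ⊓ centralizer (R : Set X) ≤ N' := (cf.cent_le ha).trans le_sup_left
  have hRN' : R ≤ normalizer (N' : Set X) := le_normalizer_sup (cf.le_normalizer_cent ha) hRU'
  have hU'' : U' ≤ P ⊓ N' := le_inf inf_le_left le_sup_right
  have hcen : P ⊓ centralizer ((P ⊓ N' : Subgroup X) : Set X) ≤ N' := fun x hx => by
    refine mem_sup_right (show x ∈ U' from ⟨hx.1, mem_normalizer_iff.mpr fun z => ?_⟩)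
    have hz : ∀ z ∈ U, x * z * x⁻¹ = z := fun z hz => mul_inv_eq_iff_eq_mul.mpr
      (mem_centralizer_iff.mp hx.2 z ((hUU'.trans hU'') hz)).symm
    refine ⟨fun h => by rw [hz z h]; exact h, fun h => ?_⟩
    have h1 : x * (x * z * x⁻¹) * x⁻¹ = x * z * x⁻¹ := hz _ h
    have : x * z * x⁻¹ = z := mul_left_cancel (mul_right_cancel h1)
    rwa [this] at h
  refine ⟨N', ⟨hN'G, hCN', hRN', resid_le_of
    (g.layer_fix cf hp ha ha1 hCa inf_le_left hUU' inf_le_right hRU' hCU') fun q hq hqp => ?_⟩,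
    le_sup_left, lt_of_lt_of_le hlt hU''⟩
  haveI := Fact.mk hq
  exact cf.core_fix hN'G hCN' hRN' hcen hqp

end CfsgLib.QuadEquiv
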