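import Cfsg.Agent.Lib.QuadEquiv.Core
import Cfsg.Agent.Lib.SmallElements
import Cfsg.Agent.Lib.Components

/-!
The invariant `p`-subgroup of a coprime action on a group of characteristic `p` and its characteristic subgroup.
-/

set_option autoImplicit false
set_option linter.unusedSectionVars false

namespace CfsgLib.QuadEquiv

open Subgroup
open scoped commutatorElement Pointwise

universe u

variable {X : Type u} [Group X] [Finite X] {p : ℕ} [Fact p.Prime] {G R : Subgroup X}

/-- The meet of the invariant Sylow subgroups. -/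
def sylowMeet (p : ℕ) (G R : Subgroup X) : Subgroup X :=
  ⨅ S : {S : Sylow p G // ∀ a ∈ R, ((S : Subgroup G).map G.subtype).map (MulAut.conj a).toMonoidHom =
    (S : Subgroup G).map G.subtype}, ((S : Sylow p G) : Subgroup G).map G.subtype

theorem exists_invariant (hRG : R ≤ normalizer (G : Set X)) (hcop : (Nat.card R).Coprime (Nat.card G)) :
    Nonempty {S : Sylow p G // ∀ a ∈ R, ((S : Subgroup G).map G.subtype).map (MulAut.conj a).toMonoidHom =
      (S : Subgroup G).map G.subtype} := by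
  obtain ⟨S, hS⟩ := CfsgLib.coprime_exists_invariant_sylow hRG hcop (QuadFixed.solvable_or_of_coprime hcop) p
  exact ⟨⟨S, fun a ha => CfsgLib.Local.map_conj_eq_of_mem_normalizer (hS ha)⟩⟩

theorem sylowMeet_conj {g : X} (hgG : g ∈ G) (hgR : ∀ a ∈ R, a * g = g * a) {x : X} (hx : x ∈ sylowMeet p G R) :
    g * x * g⁻¹ ∈ sylowMeet p G R := by
  refine mem_iInf.mpr fun ⟨S, hS⟩ => ?_
  set g' : G := ⟨g, hgG⟩
  set S2 : Sylow p G := g'⁻¹ • S with hS2
  have hm : ∀ y : X, y ∈ (S2 : Subgroup G).map G.subtype ↔ g * y * g⁻¹ ∈ (S : Subgroup G).map G.subtype := by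
    intro y
    constructor
    · rintro ⟨z, hz, rfl⟩
      rw [hS2, Sylow.coe_subgroup_smul, SetLike.mem_coe, CfsgLib.mem_conj_smul_iff, inv_inv] at hz
      exact ⟨_, hz, rfl⟩
    · rintro ⟨z, hz, e⟩
      refine ⟨g'⁻¹ * z * g', ?_, ?_⟩
      · rw [hS2, Sylow.coe_subgroup_smul, SetLike.mem_coe, CfsgLib.mem_conj_smul_iff, inv_inv]
        simpa [mul_assoc] using (SetLike.mem_coe.mp hz)
      · show g⁻¹ * (z : X) * g = y
        rw [show (z : X) = g * y * g⁻¹ from e]; group
  have hinv : ∀ a ∈ R, ((S2 : Subgroup G).map G.subtype).map (MulAut.conj a).toMonoidHom =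
      (S2 : Subgroup G).map G.subtype := by
    intro a ha
    refine CfsgLib.Local.map_conj_eq_of_mem_normalizer (mem_normalizer_iff.mpr fun y => ?_)
    rw [hm, hm]
    have h1 := mem_normalizer_iff.mp (CfsgLib.Local.mem_normalizer_of_map_conj_eq (hS a ha)) (g * y * g⁻¹)
    rw [h1]
    have e : a * (g * y * g⁻¹) * a⁻¹ = g * (a * y * a⁻¹) * g⁻¹ := by
      have e1 := hgR a ha
      calc a * (g * y * g⁻¹) * a⁻¹ = (a * g) * y * (a * g)⁻¹ := by group
        _ = g * (a * y * a⁻¹) * g⁻¹ := by rw [e1]; group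
    rw [e]
  exact (hm x).mp (mem_iInf.mp hx ⟨S2, hinv⟩)

theorem setup_sylowMeet (hRG : R ≤ normalizer (G : Set X)) (hcop : (Nat.card R).Coprime (Nat.card G)) :
    Setup p G R ((Cfsg.pCore p G).map G.subtype) (sylowMeet p G R) := by
  obtain ⟨S0⟩ := exists_invariant (p := p) hRG hcop
  have hPS : sylowMeet p G R ≤ ((S0 : Sylow p G) : Subgroup G).map G.subtype := iInf_le _ S0
  refine ⟨hRG, hcop, map_subtype_le _, ?_, (CfsgLib.isPGroup_pCore p).map _, ?_, hPS.trans (map_subtype_le _),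
    ((S0 : Sylow p G).2.map _).to_le hPS, ?_, ?_, ?_⟩
  · have key : ∀ a ∈ G ⊔ R, ∀ x ∈ (Cfsg.pCore p G).map G.subtype, a * x * a⁻¹ ∈ (Cfsg.pCore p G).map G.subtype := by
      rintro a ha _ ⟨q, hq, rfl⟩
      have hn : a ∈ normalizer (G : Set X) := sup_le le_normalizer hRG ha
      have hle := characteristic_iff_map_le.mp (inferInstance : (Cfsg.pCore p G).Characteristic)
        (G.normalizerMonoidHom ⟨a, hn⟩)
      exact ⟨_, hle (mem_map_of_mem _ hq), rfl⟩
    exact fun a ha => mem_normalizer_iff.mpr fun x => ⟨key a ha x, fun h => by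
      simpa [mul_assoc] using key _ (inv_mem ha) _ h⟩
  · intro N hN hGN hNp
    haveI : (N.subgroupOf G).Normal := (normal_subgroupOf_iff_le_normalizer hN).mpr hGN
    have hp' : IsPGroup p (N.subgroupOf G) := hNp.comap_of_injective G.subtype G.subtype_injective
    have h1 := map_mono (f := G.subtype) (CfsgLib.le_pCore (N := N.subgroupOf G) hp')
    rwa [map_subgroupOf_eq_of_le hN] at h1
  · exact le_iInf fun S => map_mono ((CfsgLib.isPGroup_pCore (G := G) p).le_sylow_of_normal (S : Sylow p G))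
  · intro a ha
    refine mem_normalizer_iff.mpr fun x => ?_
    simp only [sylowMeet, mem_iInf]
    exact forall_congr' fun S => mem_normalizer_iff.mp (CfsgLib.Local.mem_normalizer_of_map_conj_eq (S.2 a ha)) x
  · intro g hg
    refine mem_normalizer_iff.mpr fun x => ⟨sylowMeet_conj hg.1 (mem_centralizer_iff.mp hg.2), fun h => ?_⟩
    have h' := sylowMeet_conj (inv_mem hg.1) (mem_centralizer_iff.mp (inv_mem hg.2)) h
    simpa [mul_assoc] using h'

/-- A nontrivial characteristic subgroup of the meet normalised by the group. -/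
theorem exists_char (hp : 5 ≤ p) (hRG : R ≤ normalizer (G : Set X)) (hcop : (Nat.card R).Coprime (Nat.card G))
    (hG : G ≠ ⊥) (hF : Cfsg.generalizedFittingSubgroup G = Cfsg.pCore p G) :
    ∃ C : Subgroup (sylowMeet p G R : Subgroup X), C.Characteristic ∧ C ≠ ⊥ ∧
      G ≤ normalizer ((C.map (sylowMeet p G R).subtype : Subgroup X) : Set X) := by
  have S : Setup p G R ((Cfsg.pCore p G).map G.subtype) (sylowMeet p G R) := setup_sylowMeet hRG hcop
  set Q := (Cfsg.pCore p G).map G.subtype with hQ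
  set P := sylowMeet p G R with hP
  have hself : ∀ g ∈ G, (∀ q ∈ Q, q * g = g * q) → g ∈ Q := fun g hg h => by
    refine ⟨⟨g, hg⟩, ?_, rfl⟩
    have h1 := CfsgLib.centralizer_generalizedFitting_le (G := G)
    rw [hF] at h1
    exact h1 (mem_centralizer_iff.mpr fun q hq => Subtype.ext (h _ (mem_map_of_mem G.subtype hq)))
  obtain ⟨C, hch, hcom, hpow, hcen⟩ := CfsgLib.Small.exists_critical S.hQp
  haveI := hch
  set C0 := C.map Q.subtype with hC0
  have hz : ∀ c : Q, c ∈ C ⊓ centralizer (C : Set Q) → (c : X) ∈ zc C0 := fun c hc => by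
    refine mem_zc.mpr ⟨⟨c, hc.1, rfl⟩, ?_⟩
    rintro _ ⟨d, hd, rfl⟩
    exact congrArg Subtype.val (hc.2 d hd)
  have D : CritData p G R Q C0 := by
    refine ⟨map_subtype_le _, ?_, ?_, ?_⟩
    · have key : ∀ a ∈ G ⊔ R, ∀ x ∈ C0, a * x * a⁻¹ ∈ C0 := by
        rintro a ha _ ⟨q, hq, rfl⟩
        exact ⟨_, CfsgLib.Small.apply_mem_of_char (Q.normalizerMonoidHom ⟨a, S.hQn ha⟩) hq, rfl⟩
      exact fun a ha => mem_normalizer_iff.mpr fun x => ⟨key a ha x, fun h => by
        simpa [mul_assoc] using key _ (inv_mem ha) _ h⟩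
    · rintro q hq _ ⟨c, hc, rfl⟩
      exact hz ⁅(⟨q, hq⟩ : Q), c⁆ (hcom _ c hc)
    · intro g hg hord h
      have hgn : g ∈ normalizer (Q : Set X) := S.hQn (mem_sup_left hg)
      set α := Q.normalizerMonoidHom ⟨g, hgn⟩ with hα
      have hα1 : α = 1 := by
        refine CfsgLib.Small.eq_one_of_fixes_critical S.hQp hcom hpow hcen ?_ fun c hc _ => ?_
        · refine Nat.Coprime.coprime_dvd_left ?_ hord
          have h1 := orderOf_map_dvd Q.normalizerMonoidHom ⟨g, hgn⟩
          rwa [Subgroup.orderOf_mk] at h1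
        · refine Subtype.ext ?_
          show g * (c : X) * g⁻¹ = c
          exact mul_inv_eq_iff_eq_mul.mpr (commutatorElement_eq_one_iff_mul_comm.mp (h _ ⟨c, hc, rfl⟩))
      have hgQ : g ∈ Q := hself g hg fun q hq => by
        have h1 : g * q * g⁻¹ = q := congrArg (fun φ : MulAut Q => ((φ ⟨q, hq⟩ : Q) : X)) hα1
        exact (mul_inv_eq_iff_eq_mul.mp h1).symm
      obtain ⟨k, hk⟩ := S.hQp ⟨g, hgQ⟩
      suffices g = 1 by rw [this]; exact one_mem _
      exact orderOf_eq_one_iff.mp (Nat.eq_one_of_dvd_coprimes (hord.pow_right k) dvd_rfl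
        (orderOf_dvd_of_pow_eq_one (congrArg Subtype.val hk)))
  obtain ⟨hK, hC0K⟩ := kGroup_eq S hp D
  refine ⟨kGroup ⊤, kGroup_top_characteristic, fun e => ?_, ?_⟩
  · have h1 : kGroup P = ⊥ := by rw [← kGroup_top_map P, e, Subgroup.map_bot]
    rw [hK] at h1
    rw [h1, le_bot_iff, hC0, Subgroup.map_eq_bot_iff_of_injective _ Q.subtype_injective] at hC0K
    have hQbot : ∀ q : Q, q = 1 := fun q => (Subgroup.mem_bot).mp (hC0K ▸ hcen (fun c hc => by
      rw [hC0K, SetLike.mem_coe, Subgroup.mem_bot] at hc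
      rw [hc, one_mul, mul_one]))
    refine hG ((Subgroup.eq_bot_iff_forall _).mpr fun g hg => ?_)
    have hgQ : g ∈ Q := hself g hg fun q hq => by
      rw [show q = 1 from congrArg Subtype.val (hQbot ⟨q, hq⟩), one_mul, mul_one]
    exact congrArg Subtype.val (hQbot ⟨g, hgQ⟩)
  · rw [kGroup_top_map, hK]
    exact fun g hg => mem_normalizer_kGroup (S.hQn (mem_sup_left hg))

end CfsgLib.QuadEquiv
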